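import Cfsg.Agent.H26.J4.J0

/-! Finite facts on `M22:2`. -/

set_option autoImplicit false
set_option linter.unusedSectionVars false
set_option maxRecDepth 100000
open Subgroup H16 H19 H0 H0.TR H20.J4
namespace H26.J4
local notation "cj" => H19.cj

def R256 : List ℕ := [0, 1, 2, 3, 4, 5, 6, 7, 8, 9, 10, 11, 12, 13, 14, 15, 16, 17, 18, 19, 20, 21, 22, 23, 24, 25, 26, 27, 28, 29, 30, 31, 32, 33, 34, 35, 36, 37, 38, 39, 40, 41, 42, 43, 44, 45, 46, 47, 48, 49, 50, 51, 52, 53, 54, 55, 56, 57, 58, 59, 60, 61, 62, 63, 64, 65, 66, 67, 68, 69, 70, 71, 72, 73, 74, 75, 76, 77, 78, 79, 80, 81, 82, 83, 84, 85, 86, 87, 88, 89, 90, 91, 92, 93, 94, 95, 96, 97, 98, 99, 100, 101, 102, 103, 104, 105, 106, 107, 108, 109, 110, 111, 112, 113, 114, 115, 116, 117, 118, 119, 120, 121, 122, 123, 124, 125, 126, 127, 128, 129, 130, 131, 132, 133, 134, 135, 136, 137, 138, 139, 140, 141, 142, 143, 144, 145, 146,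 147, 148, 149, 150, 151, 152, 153, 154, 155, 156, 157, 158, 159, 160, 161, 162, 163, 164, 165, 166, 167, 168, 169, 170, 171, 172, 173, 174, 175, 176, 177, 178, 179, 180, 181, 182, 183, 184, 185, 186, 187, 188, 189, 190, 191, 192, 193, 194, 195, 196, 197, 198, 199, 200, 201, 202, 203, 204, 205, 206, 207, 208, 209, 210, 211, 212, 213, 214, 215, 216, 217, 218, 219, 220, 221, 222, 223, 224, 225, 226, 227, 228, 229, 230, 231, 232, 233, 234, 235, 236, 237, 238, 239, 240, 241, 242, 243, 244, 245, 246, 247, 248, 249, 250, 251, 252, 253, 254, 255]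
def EUL : List ℕ := [0, 1, 2, 3, 4, 5, 6, 7, 32, 33, 34, 35, 36, 37, 38, 39, 64, 65, 66, 67, 68, 69, 70, 71, 96, 97, 98, 99, 100, 101, 102, 103, 128, 129, 130, 131, 132, 133, 134, 135, 160, 161, 162, 163, 164, 165, 166, 167, 192, 193, 194, 195, 196, 197, 198, 199, 224, 225, 226, 227, 228, 229, 230, 231]
def EL : List ℕ := [0, 1, 2, 3, 32, 33, 34, 35, 64, 65, 66, 67, 96, 97, 98, 99]
def VL : List ℕ := [0, 1, 64, 65]
def WL : List ℕ := [0, 3, 33, 34]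
def K8L : List ℕ := [0, 1, 30, 31, 64, 65, 94, 95]
def DL : List ℕ := [0, 1, 2, 3, 28, 29, 30, 31, 32, 33, 34, 35, 60, 61, 62, 63, 64, 65, 66, 67, 92, 93, 94, 95, 96, 97,
  98, 99, 124, 125, 126, 127]
def E'L : List ℕ := [0, 1, 2, 3, 28, 29, 30, 31, 32, 33, 34, 35, 60, 61, 62, 63]
theorem mem_R {b : ℕ} (h : b < 256) : b ∈ R256 := by
  rw [show R256 = List.range 256 by decide +kernel]; exact List.mem_range.2 h
theorem cE : clo EL = true := by decide +kernel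
theorem cV : clo VL = true := by decide +kernel
theorem cW : clo WL = true := by decide +kernel
theorem cK : clo K8L = true := by decide +kernel
theorem cD : clo DL = true := by decide +kernel
theorem cE' : clo E'L = true := by decide +kernel
theorem cU : clo EUL = true := by decide +kernel
noncomputable abbrev EE : Subgroup GPm := Sg EL
noncomputable abbrev VV : Subgroup GPm := Sg VL
noncomputable abbrev WW : Subgroup GPm := Sg WL
noncomputable abbrev DD : Subgroup GPm := Sg DL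
noncomputable abbrev EU : Subgroup GPm := Sg EUL
noncomputable abbrev va : GPm := lt 256
noncomputable abbrev vb : GPm := lt 258
noncomputable abbrev vt : GPm := lt 260
noncomputable abbrev vm : GPm := lt 262
noncomputable abbrev v0 : GPm := lt 1
noncomputable abbrev vs : GPm := lt 14
noncomputable abbrev vu : GPm := lt 4
/-- equality test -/
noncomputable def eB (U V : List ℕ) : Bool := Nat.beq (cd U) (cd V)
theorem eB_iff {U V : List ℕ} : eB U V = true ↔ pr U = pr V := by rw [eB, Nat.beq_eq, cd_iff]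
noncomputable def fB (W : List ℕ) : Bool := Nat.beq (apR W 0) 0
theorem fB_iff {W : List ℕ} : fB W = true ↔ pr W ∈ M22 := by rw [fB, Nat.beq_eq, pr_M22]
theorem nB {b : Bool} : (!b) = true ↔ ¬ b = true := by simp
macro "bsimp" " at " h:ident : tactic => `(tactic| simp only [List.all_eq_true, List.any_eq_true, Bool.and_eq_true,
  Bool.or_eq_true, nB, eB_iff, fB_iff, ← pr_Sg cE, ← pr_Sg cV, ← pr_Sg cW, ← pr_Sg cD, ← pr_Sg cE', ← pr_Sg cU, pr_cons,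
  pr_nil, pr_append, pr_pw, pr_rep, mul_one, List.contains_iff_mem, Nat.blt_eq] at $h:ident)
theorem bas : va * lt 257 = 1 ∧ vb * lt 259 = 1 ∧ vt * lt 261 = 1 ∧ va ^ 3 = 1 ∧ vb ^ 3 = 1 ∧ va ≠ 1 ∧
    va * vb = vb * va ∧ (vb ≠ 1 ∧ vb ≠ va ∧ vb ≠ va ^ 2) ∧ vs * va = lt 257 * vs ∧ vs * vs = 1 ∧ vt * va = vb * vt ∧
    vm * (vb * va) = lt 257 * (lt 259 * vm) ∧ lt 263 * lt 264 = va * lt 263 ∧
    (va ∈ M22 ∧ vb ∈ M22 ∧ vt ∈ M22 ∧ vm ∈ M22 ∧ vs ∈ M22 ∧ v0 ∈ M22 ∧ vu ∈ M22) ∧ v0 * v0 = 1 ∧ v0 ≠ 1 ∧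
    va * v0 = v0 * va ∧ vu * vu = 1 ∧ vu ∈ EU ∧ vu ∉ EE ∧ vs ∉ VV ∧ v0 ∈ VV := by
  have h : (eB [256, 257] [] && (eB [258, 259] [] && (eB [260, 261] [] && (eB (pw 3 [256]) [] && (eB (pw 3 [258]) [] &&
    (!eB [256] [] && (eB [256, 258] [258, 256] && ((!eB [258] [] && (!eB [258] [256] && !eB [258] (pw 2 [256]))) &&
    (eB [14, 256] [257, 14] && (eB [14, 14] [] && (eB [260, 256] [258, 260] && (eB [262, 258, 256] [257, 259, 262] &&
    (eB [263, 264] [256, 263] && ((fB [256] && (fB [258] && (fB [260] && (fB [262] && (fB [14] && (fB [1] && fB [4])))))) &&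
    (eB [1, 1] [] && (!eB [1] [] && (eB [256, 1] [1, 256] && (eB [4, 4] [] && (inL EUL [4] && (!inL EL [4] &&
    (!inL VL [14] && inL VL [1]))))))))))))))))))))) = true := by decide +kernel
  bsimp at h
  exact h
theorem ia : lt 257 = va⁻¹ := eq_inv_of_mul_eq_one_right bas.1
theorem ib : lt 259 = vb⁻¹ := eq_inv_of_mul_eq_one_right bas.2.1
theorem it : lt 261 = vt⁻¹ := eq_inv_of_mul_eq_one_right bas.2.2.1
theorem a3 : va ^ 3 = 1 := bas.2.2.2.1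
theorem b3 : vb ^ 3 = 1 := bas.2.2.2.2.1
theorem a1 : va ≠ 1 := bas.2.2.2.2.2.1
theorem ab : va * vb = vb * va := bas.2.2.2.2.2.2.1
theorem oa : orderOf va = 3 := orderOf_of_pow (by norm_num) a3 a1
theorem ob : orderOf vb = 3 := orderOf_of_pow (by norm_num) b3 bas.2.2.2.2.2.2.2.1.1
theorem ba : vb ∉ zpowers va := fun h => by
  obtain ⟨i, hi, e⟩ := mem_zp_lt (by decide) a3 h
  obtain ⟨h1, h2, h3⟩ := bas.2.2.2.2.2.2.2.1
  interval_cases i
  exacts [h1 e, h2 (e.trans (pow_one _)), h3 e]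
theorem sa : vs * va * vs⁻¹ = va⁻¹ := by rw [bas.2.2.2.2.2.2.2.2.1, ia, mul_inv_cancel_right]
theorem ss : vs * vs = 1 := bas.2.2.2.2.2.2.2.2.2.1
theorem tab : vt * va * vt⁻¹ = vb := by rw [bas.2.2.2.2.2.2.2.2.2.2.1, mul_inv_cancel_right]
theorem mc : vm * (vb * va) * vm⁻¹ = (vb * va)⁻¹ := by
  rw [bas.2.2.2.2.2.2.2.2.2.2.2.1, ia, ib]; group
theorem aM : va ∈ M22 := bas.2.2.2.2.2.2.2.2.2.2.2.2.2.1.1
theorem bM : vb ∈ M22 := bas.2.2.2.2.2.2.2.2.2.2.2.2.2.1.2.1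
theorem tM : vt ∈ M22 := bas.2.2.2.2.2.2.2.2.2.2.2.2.2.1.2.2.1
theorem mM : vm ∈ M22 := bas.2.2.2.2.2.2.2.2.2.2.2.2.2.1.2.2.2.1
theorem sM : vs ∈ M22 := bas.2.2.2.2.2.2.2.2.2.2.2.2.2.1.2.2.2.2.1
theorem vM : v0 ∈ M22 := bas.2.2.2.2.2.2.2.2.2.2.2.2.2.1.2.2.2.2.2.1
theorem uM : vu ∈ M22 := bas.2.2.2.2.2.2.2.2.2.2.2.2.2.1.2.2.2.2.2.2
theorem vv : v0 * v0 = 1 := bas.2.2.2.2.2.2.2.2.2.2.2.2.2.2.1
theorem v1 : v0 ≠ 1 := bas.2.2.2.2.2.2.2.2.2.2.2.2.2.2.2.1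
theorem av : va ∈ C[v0] := mem_cent1.2 bas.2.2.2.2.2.2.2.2.2.2.2.2.2.2.2.2.1
theorem uu : vu * vu = 1 := bas.2.2.2.2.2.2.2.2.2.2.2.2.2.2.2.2.2.1
theorem uU : vu ∈ EU := bas.2.2.2.2.2.2.2.2.2.2.2.2.2.2.2.2.2.2.1
theorem uE : vu ∉ EE := bas.2.2.2.2.2.2.2.2.2.2.2.2.2.2.2.2.2.2.2.1
theorem sV : vs ∉ VV := bas.2.2.2.2.2.2.2.2.2.2.2.2.2.2.2.2.2.2.2.2.1
theorem vV : v0 ∈ VV := bas.2.2.2.2.2.2.2.2.2.2.2.2.2.2.2.2.2.2.2.2.2
theorem bw2 : ∀ k < 8, 2 ^ k ∈ [1, 2, 4, 8, 16, 32, 64, 128] ∧ 2 ^ k < 256 ∧ bw (2 ^ k) 8 = [k] := by decide +kernel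
theorem lt_ta {k : ℕ} (hk : k < 8) : lt (2 ^ k) = ta k := by
  rw [lt, if_pos (bw2 k hk).2.1, (bw2 k hk).2.2, evA_cons, evA_nil, one_mul]
theorem T0_le' {K : Subgroup GPm} (h : ∀ k ∈ [1, 2, 4, 8, 16, 32, 64, 128], lt k ∈ K) : T0 ≤ K :=
  (H16.gen_le (g := ta) (K := 8)).2 fun k hk => lt_ta hk ▸ h _ (bw2 k hk).1
theorem lt_Sg {L : List ℕ} {b : ℕ} (h : b ∈ L) : lt b ∈ Sg L := Subgroup.subset_closure ⟨b, h, rfl⟩
theorem Sg_le {L L' : List ℕ} (h : ∀ b ∈ L, b ∈ L') : Sg L ≤ Sg L' :=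
  Subgroup.closure_mono fun _ ⟨b, hb, e⟩ => ⟨b, h b hb, e⟩
theorem T0_norm {L : List ℕ} (h : clo L = true) (k : ([1, 2, 4, 8, 16, 32, 64, 128].all fun k => eB (k :: pw 7 [k]) [] &&
    L.all fun b => inL L (k :: b :: pw 7 [k])) = true) : T0 ≤ N(Sg L) := T0_le' fun j hj => by
  simp only [List.all_eq_true, Bool.and_eq_true, eB, Nat.beq_eq] at k
  simpa using norm_Sg h (U := [j]) (k j hj).1 (k j hj).2
theorem lt_norm {L : List ℕ} (h : clo L = true) {i j : ℕ} (k : (eB [i, j] [] && L.all fun b => inL L [i, b, j]) = true) :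
    lt i ∈ N(Sg L) := by
  simp only [List.all_eq_true, Bool.and_eq_true, eB, Nat.beq_eq] at k
  simpa using norm_Sg h (U := [i]) k.1 k.2
theorem TE : T0 ≤ N(EE) := T0_norm cE (by decide +kernel)
theorem TE' : T0 ≤ N(Sg E'L) := T0_norm cE' (by decide +kernel)
theorem TU : T0 ≤ N(EU) := T0_norm cU (by decide +kernel)
theorem aE : va ∈ N(EE) := lt_norm cE (j := 257) (by decide +kernel)
theorem bE : vb ∈ N(EE) := lt_norm cE (j := 259) (by decide +kernel)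
theorem tE : vt ∈ N(EE) := lt_norm cE (j := 261) (by decide +kernel)
theorem aU : va ∈ N(EU) := lt_norm cU (j := 257) (by decide +kernel)
theorem Tv : T0 ≤ C[v0] := T0_le' fun k hk => by
  have h : ([1, 2, 4, 8, 16, 32, 64, 128].all fun k => eB [k, 1] [1, k]) = true := by decide +kernel
  bsimp at h
  exact mem_cent1.2 (h k hk)
theorem pgT : PG 2 T0 := syl_T0.pi
theorem C1 {c : GPm} (h1 : c ∈ AA) (h2 : c ∈ C[v0]) : ∃ t ∈ R256, ∃ i ∈ [0, 1, 2], c = lt t * va ^ i := by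
  obtain ⟨_, h3, _, h4, rfl⟩ := prod_cover (le_inf T0_le Tv) (zpowers_le.2 (mem_inf.2 ⟨lt_AA _, av⟩))
    (pgT.inf_eq_bot (PiN.of_not_dvd (by rw [Nat.card_zpowers, oa]; decide)))
    (by rw [cent2A vM vv v1, card_T0, Nat.card_zpowers, oa]) c ⟨h1, h2⟩
  obtain ⟨t, ht, rfl⟩ := T0_nf h3
  obtain ⟨i, hi, rfl⟩ := mem_zp_lt (by decide) a3 h4
  exact ⟨t, mem_R ht, i, by simp; omega, rfl⟩
theorem card9 : #(zpowers va ⊔ zpowers vb : Subgroup GPm) = 9 := by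
  rw [card_sup_of_disjoint (zpowers_le.2 (cent1_le_norm_zpowers _ (mem_cent1.2 ab.symm))) (by
    rw [inf_comm]; exact inf_eq_bot_of_prime (by rw [Nat.card_zpowers, ob]; norm_num) fun e => ba (e (mem_zpowers _))),
    Nat.card_zpowers, Nat.card_zpowers, oa, ob]
theorem mem9 {c : GPm} (h : c ∈ zpowers va ⊔ zpowers vb) : ∃ i ∈ [0, 1, 2], ∃ j ∈ [0, 1, 2], c = va ^ i * vb ^ j := by
  obtain ⟨_, h3, _, h4, rfl⟩ := (mem_sup_of_norm (zpowers_le.2 (cent1_le_norm_zpowers _ (mem_cent1.2 ab.symm)))).1 h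
  obtain ⟨i, hi, rfl⟩ := mem_zp_lt (by decide) a3 h3
  obtain ⟨j, hj, rfl⟩ := mem_zp_lt (by decide) b3 h4
  exact ⟨i, by simp; omega, j, by simp; omega, rfl⟩
theorem C2 {c : GPm} (h1 : c ∈ AA) (h2 : c ∈ C[va]) :
    ∃ t ∈ K8L, ∃ i ∈ [0, 1, 2], ∃ j ∈ [0, 1, 2], c = lt t * (va ^ i * vb ^ j) := by
  have c1 : #(AA ⊓ C[ew 0] : Subgroup GPm) = 72 := by
    have := (card_cent_sub _).symm.trans (cg mdA)
    rwa [sub_wds a0 ea_lt] at this
  rw [← card_cj (lt 263), cj_inf, cj_of_mem (lt_AA _), cj_cent1, show ew 0 = lt 264 from rfl,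
    bas.2.2.2.2.2.2.2.2.2.2.2.2.1, mul_inv_cancel_right] at c1
  have h : (K8L.all fun k => eB [k, 256] [256, k]) = true := by decide +kernel
  bsimp at h
  obtain ⟨_, h3, _, h4, rfl⟩ := prod_cover (A := Sg K8L) (B := zpowers va ⊔ zpowers vb) (fun x hx => by
      obtain ⟨b, hb, rfl⟩ := (mem_Sg cK).1 hx
      exact mem_inf.2 ⟨lt_AA _, mem_cent1.2 (h b hb)⟩)
    (sup_le (zpowers_le.2 (mem_inf.2 ⟨lt_AA _, mem_cent1_self _⟩)) (zpowers_le.2 (mem_inf.2 ⟨lt_AA _, mem_cent1.2 ab.symm⟩)))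
    ((pgT.of_le (Sg_T0 cK)).inf_eq_bot (PiN.of_not_dvd (by rw [card9]; decide)))
    (by rw [c1, card9, card_Sg cK]; decide) c (mem_inf.2 ⟨h1, h2⟩)
  obtain ⟨t, ht, rfl⟩ := (mem_Sg cK).1 h3
  obtain ⟨i, hi, j, hj, rfl⟩ := mem9 h4
  exact ⟨t, ht, i, hi, j, hj, rfl⟩
theorem T2_pow {G : Type*} [Group G] {y : G} (h : T2 y) {k : ℕ} (e : y ^ (k * 3) = 1) : y ^ k = 1 :=
  odd_two (pow_mul y k 3 ▸ e) (by decide) (h.imp fun m e => by rw [pow_right_comm, e, one_pow])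
theorem FA1 {m : GPm} (h1 : m ∈ M22) (h2 : m ∈ C[va]) (h3 : T2 m) : m ∈ VV := by
  obtain ⟨t, ht, i, hi, j, hj, rfl⟩ := C2 (M22_le h1) h2
  have h : (K8L.all fun t => [0, 1, 2].all fun i => [0, 1, 2].all fun j =>
    !fB (t :: (List.replicate i 256 ++ List.replicate j 258)) || (inL VL (t :: (List.replicate i 256 ++ List.replicate j 258)) ||
    (eB (pw (2 * 3) (t :: (List.replicate i 256 ++ List.replicate j 258))) [] &&
      !eB (pw 2 (t :: (List.replicate i 256 ++ List.replicate j 258))) []))) = true := by decide +kernel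
  bsimp at h
  exact ((h t ht i hi j hj).resolve_left (not_not.2 h1)).resolve_right fun e => e.2 (T2_pow h3 e.1)
theorem w1V : lt 64 ∈ VV := lt_Sg (by decide)
theorem FA2 {m : GPm} (h1 : m ∈ M22) (h2 : m ∈ C(VV)) : m ∈ EE ∨ (m ^ (2 * 3) = 1 ∧ m ^ 2 ≠ 1) := by
  obtain ⟨t, ht, i, hi, rfl⟩ := C1 (M22_le h1) (cent_le_cent1 vV h2)
  have h : (R256.all fun t => [0, 1, 2].all fun i => !fB (t :: List.replicate i 256) ||
    (!eB ((t :: List.replicate i 256) ++ [64]) (64 :: t :: List.replicate i 256) || (inL EL (t :: List.replicate i 256) ||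
    (eB (pw (2 * 3) (t :: List.replicate i 256)) [] && !eB (pw 2 (t :: List.replicate i 256)) [])))) = true := by
    decide +kernel
  bsimp at h
  exact ((h t ht i hi).resolve_left (not_not.2 h1)).resolve_left (not_not.2 (mem_cent1.1 (cent_le_cent1 w1V h2)))
theorem VE : VV ≤ EE := Sg_le (by decide)
theorem WE : WW ≤ EE := Sg_le (by decide)
theorem ED : EE ≤ DD := Sg_le (by decide)
theorem EEU : EE ≤ EU := Sg_le (by decide)
theorem UM : EU ≤ M22 := fun x hx => by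
  obtain ⟨b, hb, rfl⟩ := (mem_Sg cU).1 hx
  have h : (EUL.all fun t => fB [t]) = true := by decide +kernel
  bsimp at h
  exact h b hb
theorem FA3 {m : GPm} (h1 : m ∈ AA) (h2 : m ∈ C(EE)) : m ∈ EE := by
  obtain ⟨t, ht, i, hi, rfl⟩ := C1 h1 (cent_le_cent1 (VE vV) h2)
  have h : (R256.all fun t => [0, 1, 2].all fun i => [2, 32, 64].any (fun e =>
    !eB ((t :: List.replicate i 256) ++ [e]) (e :: t :: List.replicate i 256)) || inL EL (t :: List.replicate i 256)) = true := by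
    decide +kernel
  bsimp at h
  exact (h t ht i hi).resolve_left fun ⟨e, he, n⟩ => n (mem_cent1.1 (cent_le_cent1 (lt_Sg
    ((by decide : ∀ e ∈ [2, 32, 64], e ∈ EL) e he)) h2))
theorem t2_of_pg {G : Type*} [Group G] [Finite G] {X : Subgroup G} (h : PG 2 X) {c : G} (hc : c ∈ X) : T2 c := by
  obtain ⟨k, e⟩ := PiN.exists_card h
  exact ⟨k, orderOf_dvd_iff_pow_eq_one.1 (e ▸ orderOf_dvd_card' hc)⟩
theorem FA4 {X : Subgroup GPm} (h1 : X ≤ M22) (h2 : X ≤ C[v0]) (h3 : PG 2 X) (h4 : va ∈ N(X)) : X ≤ EU := fun m hm => by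
  have k1 := t2_of_pg h3 hm
  have k2 := t2_of_pg h3 (mul_mem hm (conj_mem_of_norm h4 hm))
  have k3 := h1 hm
  obtain ⟨t, ht, i, hi, rfl⟩ := C1 (M22_le k3) (h2 hm)
  have h : (R256.all fun t => [0, 1, 2].all fun i => !fB (t :: List.replicate i 256) || (inL EUL (t :: List.replicate i 256) ||
    ((eB (pw (8 * 3) (t :: List.replicate i 256)) [] && !eB (pw 8 (t :: List.replicate i 256)) []) ||
    (eB (pw (8 * 3) ((t :: List.replicate i 256) ++ ((256 :: t :: List.replicate i 256) ++ [257]))) [] &&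
      !eB (pw 8 ((t :: List.replicate i 256) ++ ((256 :: t :: List.replicate i 256) ++ [257]))) [])))) = true := by
    decide +kernel
  bsimp at h
  simp only [ia] at h
  exact ((h t ht i hi).resolve_left (not_not.2 k3)).resolve_right fun e =>
    e.elim (fun e => e.2 (T2_pow k1 e.1)) fun e => e.2 (T2_pow k2 e.1)
theorem FA6 {c : GPm} (h1 : c ∈ M22) (h2 : c ∈ C[v0]) : ∃ u ∈ EU, ∃ j i : ℕ, c = u * vs ^ j * va ^ i := by
  obtain ⟨t, ht, i, hi, rfl⟩ := C1 (M22_le h1) h2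
  have h : (R256.all fun t => !fB [t] || (inL EUL [t] || inL EUL [t, 14])) = true := by decide +kernel
  bsimp at h
  rcases (h t ht).resolve_left (not_not.2 ((Subgroup.mul_mem_cancel_right _ (pow_mem aM i)).1 h1)) with e | e
  · exact ⟨_, e, 0, i, by simp⟩
  · exact ⟨_, e, 1, i, by rw [pow_one, mul_assoc (lt t), ss, mul_one]⟩
end H26.J4
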