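import Cfsg.Agent.H26.J4.J1

/-! More finite facts on `M22:2`. -/

set_option autoImplicit false
set_option linter.unusedSectionVars false
set_option maxRecDepth 100000
open Subgroup H16 H19 H0 H0.TR H20.J4
namespace H26.J4
local notation "cj" => H19.cj

def L96 : List ℕ := [0, 1, 2, 3, 4, 5, 6, 7, 8, 9, 10, 11, 48, 49, 50, 51, 52, 53, 54, 55, 56, 57, 58, 59, 96, 97, 98, 99, 100, 101, 102, 103, 104, 105, 106, 107, 144, 145, 146, 147, 148, 149, 150, 151, 152, 153, 154, 155, 192, 193, 194, 195, 196, 197, 198, 199, 200, 201, 202, 203, 240, 241, 242, 243, 244, 245, 246, 247, 248, 249, 250, 251, 288, 289, 290, 291, 292, 293, 294, 295, 296, 297, 298, 299, 336, 337, 338, 339, 340, 341, 342, 343, 344, 345, 346, 347]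
def R32 : List ℕ := [0, 1, 2, 3, 4, 5, 6, 7, 8, 9, 10, 11, 12, 13, 14, 15, 16, 17, 18, 19, 20, 21, 22, 23, 24, 25, 26, 27, 28, 29, 30, 31]
def R64 : List ℕ := [0, 1, 2, 3, 4, 5, 6, 7, 8, 9, 10, 11, 12, 13, 14, 15, 16, 17, 18, 19, 20, 21, 22, 23, 24, 25, 26, 27, 28, 29, 30, 31, 32, 33, 34, 35, 36, 37, 38, 39, 40, 41, 42, 43, 44, 45, 46, 47, 48, 49, 50, 51, 52, 53, 54, 55, 56, 57, 58, 59, 60, 61, 62, 63]
def GW : List (List ℕ) := [[4, 32, 260, 262, 2, 260, 8], [1, 128, 257, 262, 259, 1, 128], [64, 260, 260], [64, 257, 262, 64, 256, 262], [2, 32, 262, 260, 64, 260], [260, 64, 260, 262, 2, 32], [4, 64, 259, 8], [260, 260], [64, 261, 4, 262, 4, 261], [], [], [16], [16]]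
theorem cF : clo R32 = true := by decide +kernel
theorem cJ : clo R64 = true := by decide +kernel
noncomputable abbrev F5 : Subgroup GPm := Sg R32
theorem nE : #EE = 16 := card_Sg cE
theorem nV : #VV = 4 := card_Sg cV
theorem nW : #WW = 4 := card_Sg cW
theorem nD : #DD = 32 := card_Sg cD
theorem nU : #EU = 64 := card_Sg cU
theorem nF : #F5 = 32 := card_Sg cF
theorem EM : EE ≤ M22 := EEU.trans UM
theorem Esq {e : GPm} (he : e ∈ EE) : e * e = 1 := by
  obtain ⟨b, hb, rfl⟩ := (mem_Sg cE).1 he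
  have h : (EL.all fun t => eB [t, t] []) = true := by decide +kernel
  bsimp at h
  exact h b hb
theorem Fsq {e : GPm} (he : e ∈ F5) : e * e = 1 := by
  obtain ⟨b, hb, rfl⟩ := (mem_Sg cF).1 he
  have h : (R32.all fun t => eB [t, t] []) = true := by decide +kernel
  bsimp at h
  exact h b hb
theorem Va : VV ≤ C[va] := fun e he => by
  obtain ⟨b, hb, rfl⟩ := (mem_Sg cV).1 he
  have h : (VL.all fun t => eB [t, 256] [256, t]) = true := by decide +kernel
  bsimp at h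
  exact mem_cent1.2 (h b hb)
theorem Wb : WW ≤ C[vb] := fun e he => by
  obtain ⟨b, hb, rfl⟩ := (mem_Sg cW).1 he
  have h : (WL.all fun t => eB [t, 258] [258, t]) = true := by decide +kernel
  bsimp at h
  exact mem_cent1.2 (h b hb)
theorem Ec {e : GPm} (he : e ∈ EE) {i j : ℕ} (hi : i ∈ [1, 2]) (hj : j ∈ [1, 2]) (h1 : e ∈ C[va ^ i * vb ^ j]) : e = 1 := by
  obtain ⟨b, hb, rfl⟩ := (mem_Sg cE).1 he
  have h : (EL.all fun t => [1, 2].all fun i => [1, 2].all fun j =>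
    !eB (t :: (List.replicate i 256 ++ List.replicate j 258)) ((List.replicate i 256 ++ List.replicate j 258) ++ [t]) ||
    eB [t] []) = true := by decide +kernel
  bsimp at h
  exact (h b hb i hi j hj).resolve_left (not_not.2 (mem_cent1.1 h1))
theorem FA5 {X : Subgroup GPm} (h1 : X ≤ AA) (h2 : X ≤ C(VV)) (h3 : PG 2 X) : #X ≤ 32 := by
  have h : (R256.all fun t => [0, 1, 2].all fun i =>
    !eB ((t :: List.replicate i 256) ++ [64]) (64 :: t :: List.replicate i 256) || L96.contains (3 * t + i)) = true := by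
    decide +kernel
  bsimp at h
  have c := (card_cover (A := AA ⊓ C(VV)) (f := fun n => lt (n / 3) * va ^ (n % 3)) (L := L96) fun c hc => by
    obtain ⟨t, ht, i, hi, rfl⟩ := C1 hc.1 (cent_le_cent1 vV hc.2)
    refine ⟨_, (h t ht i hi).resolve_left (not_not.2 (mem_cent1.1 (cent_le_cent1 w1V hc.2))), ?_⟩
    have : i < 3 := by simp at hi; omega
    simp only [show (3 * t + i) / 3 = t by omega, show (3 * t + i) % 3 = i by omega]).1
  have d1 := card_dvd (le_inf h1 h2)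
  have d2 := orderOf_dvd_card' (mem_inf.2 ⟨lt_AA 256, le_cent1_iff.1 Va⟩)
  rw [oa] at d2
  have := Nat.le_of_dvd (card_pos _) ((h3.coprime (PiN.of_not_dvd (n := 3) (by decide))).mul_dvd_of_dvd_of_dvd d1 d2)
  change _ ≤ 96 at c
  omega
theorem ab32 {B : Subgroup GPm} (hB : B ≤ T0) (h2 : B ≤ C(B)) (hc : 32 ≤ #B) : B ≤ F5 := by
  rw [ea_unique (T := T0) (E := E5) (τ := fun i => evA ta ((bw i 3).map (5 + ·)))
    (en := fun b => evA ta (bw b 5)) (c := e5c) (n := 32) (r := 8) (fun y hy => ?_) rfl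
    (fun x hx => ta_nf (by decide) hx) (fun x hx y hy => ?_) (fun i hi b hb => ⟨(e5c_ok i hi b hb).1, ?_⟩)
    (fun a ha b hb e => e5_inj a ha b hb fun β hβ => ?_) e5_chk hB (fun x hx y hy => mem_cent.1 (h2 hy) x hx) hc]
  · intro x hx
    obtain ⟨b, hb, rfl⟩ := ta_nf (by decide) hx
    obtain ⟨k1, k2⟩ := (by decide +kernel : ∀ b < 2 ^ 5, bw b 5 = bw b 8 ∧ b ∈ R32) b hb
    have := lt_Sg k2
    rwa [lt, if_pos (by omega), ← k1] at this
  · obtain ⟨b, hb, rfl⟩ := ta_nf le_rfl hy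
    refine ⟨b / 32, by omega, ?_⟩
    rw [(by decide +kernel : ∀ b < 2 ^ 8, bw b 8 = bw b 5 ++ (bw (b / 32) 3).map (5 + ·)) b hb, evA_append,
      inv_mul_cancel_left]
    exact evA_mem_gen _ (bw_lt _ _)
  · have : E5 ≤ C(E5) := H16.gen_le.2 fun a ha => mem_cent.2 fun y hy => mem_cent1.1
      ((H16.gen_le.2 fun b hb => mem_cent1.2 (by simpa using ta_eq (e5_cm a ha b hb)) : E5 ≤ C[ta a]) hy)
    exact mem_cent.1 (this hy) x hx
  · have := ta_eq (e5c_ok i hi b hb).2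
    rw [evA_append, evA_append] at this
    rw [this, mul_inv_cancel_right]
  · have l : β < 24 := ltAll_zero (by decide +kernel) β hβ
    have h1 := ta_act.apW (fun k hk => (bw_lt a 5 k hk).trans (by decide)) l
    have h3 := ta_act.apW (fun k hk => (bw_lt b 5 k hk).trans (by decide)) l
    exact H15.pt_inj h1.1 h3.1 (by rw [← h1.2, ← h3.2]; exact congrArg (· • H15.pt β) e)
theorem EF : #(EE ⊓ F5 : Subgroup GPm) ≤ 4 := (card_cover (f := lt) (L := [0, 1, 2, 3]) fun x hx => by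
  obtain ⟨b, hb, rfl⟩ := (mem_Sg cE).1 hx.1
  obtain ⟨c, hc, e⟩ := (mem_Sg cF).1 hx.2
  obtain rfl := lt_inj (clo_lt cF c hc) (clo_lt cE b hb) e
  exact ⟨c, (by decide : ∀ c ∈ EL, c ∈ R32 → c ∈ [0, 1, 2, 3]) c hb hc, rfl⟩).1
theorem union_le {G : Type*} [Group G] {X A B : Subgroup G} (h : ∀ x ∈ X, x ∈ A ∨ x ∈ B) : X ≤ A ∨ X ≤ B := by
  by_contra! k
  obtain ⟨u, hu, n1⟩ := SetLike.not_le_iff_exists.1 k.1
  obtain ⟨v, hv, n2⟩ := SetLike.not_le_iff_exists.1 k.2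
  rcases h _ (mul_mem hu hv) with e | e
  · exact n1 ((Subgroup.mul_mem_cancel_right _ ((h v hv).resolve_right n2)).1 e)
  · exact n2 ((Subgroup.mul_mem_cancel_left _ ((h u hu).resolve_left n1)).1 e)
theorem i200 : pr (pw 7 [200]) = (lt 200)⁻¹ := eq_inv_of_mul_eq_one_right
  (by simpa using (eB_iff (U := 200 :: pw 7 [200]) (V := [])).1 (by decide +kernel))
theorem NSy {X : Subgroup GPm} (h1 : X ≤ T0) (h2 : T0 ≤ N(X)) (h3 : ∀ x ∈ X, x * x = 1) (h4 : #X = 16)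
    (h5 : #(X ⊓ F5 : Subgroup GPm) ≤ 4) : X = EE := by
  have k : ∀ {t u}, lt t ∈ X → lt u ∈ X → lt u * (lt 200 * (lt t * (lt 200)⁻¹)) = lt 200 * (lt t * (lt 200)⁻¹) * lt u :=
    fun ht hu => comm_of_sq h3 hu (mul_assoc (lt 200) _ _ ▸ conj_mem_of_norm (h2 (lt_T0 (by decide))) ht)
  have h : ((R256.all fun t => !eB [t, t] [] || (!eB (t :: 200 :: t :: pw 7 [200]) ((200 :: t :: pw 7 [200]) ++ [t]) ||
    (R32.contains t || (EL.contains t || [60, 61, 62, 63].contains t)))) && [60, 61, 62, 63].all fun t => R256.all fun u =>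
    !eB [u, u] [] || (!eB [u, t] [t, u] || (!eB (u :: 200 :: t :: pw 7 [200]) ((200 :: t :: pw 7 [200]) ++ [u]) ||
      R64.contains u))) = true := by decide +kernel
  simp only [List.all_eq_true, Bool.and_eq_true, Bool.or_eq_true, nB, eB_iff, pr_cons, pr_nil, pr_append, i200,
    mul_one, List.contains_iff_mem] at h
  by_cases n : ∃ t ∈ [60, 61, 62, 63], lt t ∈ X
  · obtain ⟨t, ht, hX⟩ := n
    have l : X ≤ Sg R64 := fun x hx => by
      obtain ⟨u, hu, rfl⟩ := T0_nf (h1 hx)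
      exact lt_Sg ((((h.2 t ht u (mem_R hu)).resolve_left (not_not.2 (h3 _ hx))).resolve_left
        (not_not.2 (comm_of_sq h3 hx hX))).resolve_left (not_not.2 (k hX hx)))
    have e1 := card_mul_relIndex (show F5 ≤ Sg R64 from Sg_le (by decide))
    rw [nF, card_Sg cJ] at e1
    have e2 := relIndex_le_of_le_right (H := F5) l (relIndex_ne_zero' _ _)
    have e3 := card_inf_mul_relIndex F5 X
    change _ = 64 at e1
    rw [inf_comm, h4] at e3
    nlinarith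
  rcases union_le (A := F5) (B := EE) fun x hx => by
      obtain ⟨u, hu, rfl⟩ := T0_nf (h1 hx)
      exact (((h.1 u (mem_R hu)).resolve_left (not_not.2 (h3 _ hx))).resolve_left (not_not.2 (k hx hx))).imp lt_Sg
        fun e => lt_Sg (e.resolve_right fun e => n ⟨u, e, hx⟩) with e | e
  · rw [inf_eq_left.2 e, h4] at h5; omega
  · exact eq_of_le_of_card_eq e (h4.trans nE.symm)
theorem DW : DD ≤ C(WW) := fun x hx => mem_cent.2 fun y hy => by
  obtain ⟨b, hb, rfl⟩ := (mem_Sg cD).1 hx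
  obtain ⟨c, hc, rfl⟩ := (mem_Sg cW).1 hy
  have h : (DL.all fun t => WL.all fun u => eB [u, t] [t, u]) = true := by decide +kernel
  bsimp at h
  exact h b hb c hc
theorem D16 {X : Subgroup GPm} (h1 : X ≤ DD) (h3 : ∀ x ∈ X, x * x = 1) (h4 : #X = 16) : T0 ≤ N(X) := by
  by_cases n : X ≤ EE
  · rw [eq_of_le_of_card_eq n (h4.trans nE.symm)]; exact TE
  obtain ⟨x, hx, n⟩ := SetLike.not_le_iff_exists.1 n
  obtain ⟨t, ht, rfl⟩ := (mem_Sg cD).1 (h1 hx)
  have h : (DL.all fun t => inL EL [t] || (!eB [t, t] [] || DL.all fun u => !eB [u, t] [t, u] || inL E'L [u])) = true := by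
    decide +kernel
  bsimp at h
  rw [eq_of_le_of_card_eq (K := Sg E'L) (fun y hy => by
    obtain ⟨u, hu, rfl⟩ := (mem_Sg cD).1 (h1 hy)
    exact (((h t ht).resolve_left n).resolve_left (not_not.2 (h3 _ hx)) u hu).resolve_left
      (not_not.2 (comm_of_sq h3 hy hx))) (h4.trans (card_Sg cE').symm)]
  exact TE'
theorem T4a : lt 8 * lt 8 = 1 ∧ lt 128 * lt 128 = 1 ∧ (lt 8 * lt 128) ^ 2 * (lt 8 * lt 128) ^ 2 = 1 ∧ lt 8 ∈ M22 ∧
    lt 128 ∈ EU ∧ lt 33 ∈ WW ∧ lt 33 ≠ 1 ∧ lt 16 ∉ M22 := by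
  have h : (eB [8, 8] [] && (eB [128, 128] [] && (eB (pw 2 [8, 128] ++ pw 2 [8, 128]) [] && (fB [8] && (inL EUL [128] &&
    (inL WL [33] && (!eB [33] [] && !fB [16]))))))) = true := by decide +kernel
  bsimp at h
  exact h
theorem T4 {t : GPm} (h1 : t ∈ T0) (h2 : t ∈ M22) : ∃ j i : ℕ, t * (lt 8 ^ j * (lt 8 * lt 128) ^ i) ∈ EE := by
  obtain ⟨t, ht, rfl⟩ := T0_nf h1
  have h : (R256.all fun t => !fB [t] || [0, 1].any fun j => [0, 1, 2, 3].any fun i =>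
    inL EL (t :: (List.replicate j 8 ++ pw i [8, 128]))) = true := by decide +kernel
  bsimp at h
  obtain ⟨j, -, i, -, e⟩ := (h t (mem_R ht)).resolve_left (not_not.2 h2)
  exact ⟨j, i, e⟩
theorem cj_of {G : Type*} [Group G] {u e v : G} (h : u * e = v * u) : u * e * u⁻¹ = v := mul_inv_eq_iff_eq_mul.2 h
theorem cjcj {G : Type*} [Group G] (a b c : G) : a * (b * c * b⁻¹) * a⁻¹ = a * b * c * (a * b)⁻¹ := by group
theorem U1 {e : GPm} (he : e ∈ EE) : ∃ u ∈ EU, u * e * u⁻¹ ∈ VV ∨ u * e * u⁻¹ ∈ WW := by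
  obtain ⟨b, hb, rfl⟩ := (mem_Sg cE).1 he
  have h : (EL.all fun t => [0, 4, 128, 132].any fun u => inL EUL [u] && ((VL.any fun v => eB [u, t] [v, u]) ||
    WL.any fun v => eB [u, t] [v, u])) = true := by decide +kernel
  bsimp at h
  obtain ⟨u, -, hu, e⟩ := h b hb
  exact ⟨_, hu, e.imp (fun ⟨v, hv, e⟩ => cj_of e ▸ lt_Sg hv) fun ⟨v, hv, e⟩ => cj_of e ▸ lt_Sg hv⟩
theorem U2 {v w : GPm} (hv : v ∈ VV) (h1 : v ≠ 1) (h2 : v ≠ v0) (hw : w ∈ WW) : ∃ u ∈ EU, u * (v * w) * u⁻¹ ∈ VV := by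
  obtain ⟨b, hb, rfl⟩ := (mem_Sg cV).1 hv
  obtain ⟨c, hc, rfl⟩ := (mem_Sg cW).1 hw
  have h : (VL.all fun t => eB [t] [] || (eB [t] [1] || WL.all fun c => [0, 4, 128, 132].any fun u => inL EUL [u] &&
    VL.any fun v => eB [u, t, c] [v, u])) = true := by decide +kernel
  bsimp at h
  obtain ⟨u, -, hu, v, hv, e⟩ := ((h b hb).resolve_left h1).resolve_left h2 c hc
  exact ⟨_, hu, cj_of e ▸ lt_Sg hv⟩
theorem U3 {v : GPm} (hv : v ∈ VV) (h1 : v ≠ 1) (h2 : v ≠ v0) : ∃ w ∈ WW, w ≠ 1 ∧ vu * v * vu⁻¹ = v * (v0 * w) := by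
  obtain ⟨b, hb, rfl⟩ := (mem_Sg cV).1 hv
  have h : (VL.all fun t => eB [t] [] || (eB [t] [1] || WL.any fun c => !eB [c] [] && eB [4, t] ([t, 1, c] ++ [4]))) = true := by
    decide +kernel
  bsimp at h
  obtain ⟨c, hc, n, e⟩ := ((h b hb).resolve_left h1).resolve_left h2
  exact ⟨_, lt_Sg hc, n, cj_of e⟩
theorem U3' {w : GPm} (hw : w ∈ WW) : vu * w * vu⁻¹ = w ∨ vu * w * vu⁻¹ = w * v0 := by
  obtain ⟨b, hb, rfl⟩ := (mem_Sg cW).1 hw
  have h : (WL.all fun t => eB [4, t] [t, 4] || eB [4, t] ([t, 1] ++ [4])) = true := by decide +kernel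
  bsimp at h
  exact (h b hb).imp cj_of cj_of
theorem U4 {K : Subgroup GPm} (h1 : vu ∈ K) (h2 : va ∈ N(K)) (h3 : vb ∈ N(K)) : ∃ e ∈ EE, e * va ∈ K := by
  have h : eB [99, 256] ([4] ++ ([258, 256, 256, 4, 257, 257, 259] ++ ([256, 4, 257] ++ [258, 4, 259]))) = true := by
    decide +kernel
  bsimp at h
  refine ⟨_, lt_Sg (by decide : 99 ∈ EL), ?_⟩
  rw [h, ia, ib]
  refine mul_mem h1 (mul_mem ?_ (mul_mem ?_ ?_))
  · simpa only [mul_assoc] using conj_mem_of_norm h3 (conj_mem_of_norm h2 (conj_mem_of_norm h2 h1))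
  · simpa only [mul_assoc] using conj_mem_of_norm h2 h1
  · simpa only [mul_assoc] using conj_mem_of_norm h3 h1
theorem U5 : vb * (vb * lt 128 * vb⁻¹) * vb⁻¹ * (vb * vu * vb⁻¹) * lt 33 =
    v0 * (vb * (vb * lt 128 * vb⁻¹) * vb⁻¹ * (vb * vu * vb⁻¹)) := by
  have h : eB [258, 258, 128, 259, 259, 258, 4, 259, 33] [1, 258, 258, 128, 259, 259, 258, 4, 259] = true := by
    decide +kernel
  bsimp at h
  simpa only [ib, mul_assoc] using h
theorem U6 {u : GPm} (hu : u ∈ EU) : ∃ e ∈ EE, e * u * (e * u) = 1 := by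
  obtain ⟨b, hb, rfl⟩ := (mem_Sg cU).1 hu
  have h : (EUL.all fun t => EL.any fun e => eB ([e, t] ++ [e, t]) []) = true := by decide +kernel
  bsimp at h
  obtain ⟨e, he, k⟩ := h b hb
  exact ⟨_, lt_Sg he, k⟩
theorem V1 {v : GPm} (hv : v ∈ VV) (h : v ∈ C[vs]) : v = 1 ∨ v = v0 := by
  obtain ⟨b, hb, rfl⟩ := (mem_Sg cV).1 hv
  have k : (VL.all fun t => !eB [t, 14] [14, t] || (eB [t] [] || eB [t] [1])) = true := by decide +kernel
  bsimp at k
  exact (k b hb).resolve_left (not_not.2 (mem_cent1.1 h))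
theorem V2 {v e : GPm} (hv : v ∈ VV) (h1 : v ≠ 1) (h2 : v ≠ v0) (he : e ∈ VV) : e = 1 ∨ e = v0 ∨ e = v ∨ e = v0 * v := by
  obtain ⟨b, hb, rfl⟩ := (mem_Sg cV).1 hv
  obtain ⟨c, hc, rfl⟩ := (mem_Sg cV).1 he
  have h : (VL.all fun t => eB [t] [] || (eB [t] [1] || VL.all fun c => eB [c] [] || (eB [c] [1] || (eB [c] [t] ||
    eB [c] [1, t])))) = true := by decide +kernel
  bsimp at h
  exact ((h b hb).resolve_left h1).resolve_left h2 c hc
theorem W1f {e : GPm} (he : e ∈ EE) (h : e * (va * e * va⁻¹) * (va * (va * e * va⁻¹) * va⁻¹) = 1) : e ∈ WW := by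
  obtain ⟨b, hb, rfl⟩ := (mem_Sg cE).1 he
  have k : (EL.all fun t => !eB [t, 256, t, 257, 256, 256, t, 257, 257] [] || inL WL [t]) = true := by decide +kernel
  bsimp at k
  exact (k b hb).resolve_left (not_not.2 (by simpa only [ia, mul_assoc] using h))
theorem a0A {k : ℕ} (hk : k < 13) : a0 k ∈ AA := H16.mem_gen a0 hk
theorem Gen {K : Subgroup GPm} (h1 : T0 ≤ K) (h2 : va ∈ K) (h3 : vb ∈ K) (h4 : vt ∈ K) (h5 : vm ∈ K) : AA ≤ K :=
  H16.gen_le.2 fun k hk => by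
    obtain ⟨k1, k2⟩ := (by decide +kernel : ∀ k < 13, (∀ i ∈ A0.B, i < 24 ∧ A0.P k i = apR (nth [] GW k) i) ∧
      ∀ j ∈ nth [] GW k, j < 263) k hk
    have e : a0 k = pr (nth [] GW k) := by
      rw [← inv_mul_eq_one]
      refine base_AA _ (mul_mem (inv_mem (a0A hk)) (pr_AA _)) fun b hb => ?_
      rw [mul_smul, inv_smul_eq_iff, (pr_act _ (k1 b hb).1).2, (actA k hk b (k1 b hb).1).2, (k1 b hb).2]
    rw [e]
    generalize nth [] GW k = W at k2
    induction W with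
    | nil => exact one_mem _
    | cons j W ih =>
      refine mul_mem ?_ (ih fun i hi => k2 i (List.mem_cons_of_mem _ hi))
      have := k2 j List.mem_cons_self
      obtain l | rfl | rfl | rfl | rfl | rfl | rfl | rfl : j < 256 ∨ j = 256 ∨ j = 257 ∨ j = 258 ∨ j = 259 ∨ j = 260 ∨
        j = 261 ∨ j = 262 := by omega
      exacts [h1 (lt_T0 l), h2, ia ▸ inv_mem h2, h3, ib ▸ inv_mem h3, h4, it ▸ inv_mem h4, h5]
noncomputable abbrev vr : GPm := pr [128, 257, 261]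
theorem rM : vr ∈ M22 := pr_M22.2 (by decide +kernel)
theorem rF : vr ∈ N(F5) := norm_Sg cF (V := [260, 256, 128]) (by decide +kernel) (by decide +kernel)
theorem Fr {e : GPm} (he : e ∈ F5) (h : e ∈ M22) : e * (vr * e * vr⁻¹) * (vr * (vr * e * vr⁻¹) * vr⁻¹) = 1 := by
  obtain ⟨b, hb, rfl⟩ := (mem_Sg cF).1 he
  have k : (R32.all fun t => !fB [t] || eB (([t] ++ [128, 257, 261]) ++ (([t] ++ [128, 257, 261]) ++ ([t] ++ [128, 257, 261]))) []) = true ∧
    eB (pw 3 [128, 257, 261]) [] = true := by decide +kernel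
  simp only [List.all_eq_true, Bool.or_eq_true, nB, eB_iff, fB_iff, pr_cons (W := []), pr_append,
    pr_pw, pr_nil, mul_one] at k
  have k1 := (k.1 b hb).resolve_left (not_not.2 h)
  have k2 := k.2
  rw [show ∀ t r : GPm, t * (r * t * r⁻¹) * (r * (r * t * r⁻¹) * r⁻¹) = t * r * (t * r * (t * r)) * (r ^ 3)⁻¹ from
    fun t r => by simp [mul_assoc, pow_succ], k1, k2, inv_one, mul_one]
def CW3 : List (List ℕ) := [[], [261], [260], [], [262, 4, 258, 128, 262, 259, 4], [4, 262, 259, 4, 261, 262, 128], [260, 260],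
  [8, 262, 4, 258, 262, 2, 128], [8, 128, 262, 4, 64, 262, 32]]
theorem cls3' {y : GPm} (hy : y ∈ M22) (o : orderOf y = 3) : ∃ k ∈ AA, k * y * k⁻¹ = va := by
  obtain ⟨c, hc, e⟩ := (syl_card (k := 2) (m := 98560) (by norm_num) (sup_le (zpowers_le.2 (lt_AA _)) (zpowers_le.2 (lt_AA _)))
    card9 card_AA (by decide)).scj_le (zpowers_le.2 (M22_le hy)) (PiN.of_card (by norm_num) ((Nat.card_zpowers _).trans o))
  obtain ⟨i, hi, j, hj, e⟩ := mem9 (e (conj_mem_cj.2 (mem_zpowers y)))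
  have h : ([0, 1, 2].all fun i => [0, 1, 2].all fun j => eB (List.replicate i 256 ++ List.replicate j 258) [] ||
    eB (nth [] CW3 (3 * i + j) ++ (List.replicate i 256 ++ List.replicate j 258)) (256 :: nth [] CW3 (3 * i + j))) = true := by
    decide +kernel
  bsimp at h
  have h := h i hi j hj
  rw [← e] at h
  refine ⟨_, mul_mem (pr_AA (nth [] CW3 (3 * i + j))) hc, ?_⟩
  rw [← cjcj]
  exact cj_of (h.resolve_left fun e => by simp [conj_eq_one_iff.1 e] at o)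
theorem cls3 {y : GPm} (hy : y ∈ M22) (o : orderOf y = 3) : ∃ k ∈ M22, k * y * k⁻¹ = va := by
  obtain ⟨k, hk, e⟩ := cls3' hy o
  have h : (!fB [30] && eB [30, 256] [256, 30]) = true := by decide +kernel
  bsimp at h
  by_cases n : k ∈ M22
  exacts [⟨k, n, e⟩, ⟨_, out_mul (lt_AA 30) hk h.1 n, by rw [← cjcj, e, cj_of h.2]⟩]
theorem cls2 {y w : GPm} (hy : y ∈ M22) (y2 : y * y = 1) (y1 : y ≠ 1) (hw : w ∈ M22) (w2 : w * w = 1) (w1 : w ≠ 1) :
    ∃ k ∈ AA, k * y * k⁻¹ = w := by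
  obtain ⟨k, hk, e⟩ := cls0 hy y2 y1
  obtain ⟨l, hl, e'⟩ := cls0 hw w2 w1
  exact ⟨_, mul_mem (inv_mem hl) hk, by rw [← cjcj, e, ← e']; group⟩
theorem tba : vt * vb * vt⁻¹ = va⁻¹ := by
  have h : eB [260, 258] [257, 260] = true := by decide +kernel
  bsimp at h
  rw [cj_of h, ia]
theorem pgE : PG 2 EE := pgT.of_le (Sg_T0 cE)
theorem pgU : PG 2 EU := pgT.of_le (Sg_T0 cU)
theorem pgV : PG 2 VV := pgT.of_le (Sg_T0 cV)
theorem TM : #(T0 ⊓ M22 : Subgroup GPm) = 128 := by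
  obtain ⟨r, e⟩ := (syl_T0.inf_normal ⟨M22_le, AA_norm⟩).dvd (PiN.prime_pow Nat.prime_two 7) (by rw [H15.MM22.card]; decide)
  have := card_lt (lt_of_le_of_ne (inf_le_left : T0 ⊓ M22 ≤ T0) fun e => T4a.2.2.2.2.2.2.2 (e.ge (lt_T0 (by decide))).2)
  have := card_pos (T0 ⊓ M22)
  rw [card_T0] at *
  omega
theorem TF : T0 ≤ N(F5) := T0_norm cF (by decide +kernel)
end H26.J4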