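import Cfsg.Agent.H26.J4.J2

/-! An element of order `3` with centralizer `3.M₂₂` or `6.M₂₂`. -/

set_option autoImplicit false
set_option linter.unusedSectionVars false
set_option maxRecDepth 100000
open Subgroup H16 H19 H0 H0.TR H20.J4
open scoped commutatorElement
namespace H26.J4
variable {G : Type*} [Group G]
local notation "cj" => H19.cj

theorem t2_mul {a b : G} (c : Commute a b) (ha : T2 a) (hb : T2 b) : T2 (a * b) := by
  obtain ⟨m, e⟩ := ha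
  obtain ⟨n, e'⟩ := hb
  exact ⟨m + n, by rw [c.mul_pow, pow_add, pow_mul, e, mul_comm, pow_mul, e']; simp⟩
theorem t2_pow {a : G} (h : T2 a) (n : ℕ) : T2 (a ^ n) := h.imp fun m e => by rw [pow_right_comm, e, one_pow]
theorem t2_sq {a : G} (h : a * a = 1) : T2 a := ⟨1, by rw [pow_one, pow_two, h]⟩
theorem t2_one : T2 (1 : G) := ⟨0, one_pow _⟩
theorem t2_inv {a : G} (h : T2 a) : T2 a⁻¹ := h.imp fun m e => by rw [inv_pow, e, inv_one]
theorem t2_iff {a : G} : T2 a ↔ PiE {2} a := ⟨fun ⟨m, e⟩ => (PiN.prime_pow Nat.prime_two m).dvd (orderOf_dvd_of_pow_eq_one e),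
  fun h => by_cases (fun e : orderOf a = 0 => absurd (h 3 (by norm_num) (by simp [e])) (by simp)) fun e =>
    (h.exists_pow e).elim fun k e => ⟨k, by rw [← e, pow_orderOf_eq_one]⟩⟩
theorem pg_of_t2 [Finite G] {X : Subgroup G} (h : ∀ c ∈ X, T2 c) : PG 2 X := PiN.of_elt fun c hc => t2_iff.1 (h c hc)

structure K5 (x z : G) (ξ : G → GPm) : Prop where
  x3 : orderOf x = 3
  zz : z * z = 1
  zx : z ∈ C[x]
  zC : C[x] ≤ C[z]
  mul : ∀ a ∈ C[x], ∀ b ∈ C[x], ξ (a * b) = ξ a * ξ b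
  ker : ∀ a ∈ C[x], ξ a = 1 ↔ a ∈ zpowers (z * x)
  mem : ∀ a ∈ C[x], ξ a ∈ M22
  surj : ∀ m ∈ M22, ∃ a ∈ C[x], ξ a = m
  perf : C[x] ≤ ⁅C[x], C[x]⁆

namespace K5
variable [Finite G] {x z : G} {ξ : G → GPm} (h : K5 x z ξ)
include h
local notation "Z6" => zpowers (z * x)
local notation "N1" => N(zpowers x)
def hom : C[x] →* GPm := MonoidHom.mk' (fun a => ξ a) fun a b => h.mul _ a.2 _ b.2
theorem one : ξ 1 = 1 := map_one h.hom
theorem inv {a : G} (ha : a ∈ C[x]) : ξ a⁻¹ = (ξ a)⁻¹ := map_inv h.hom ⟨a, ha⟩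
theorem pow {a : G} (ha : a ∈ C[x]) (n : ℕ) : ξ (a ^ n) = ξ a ^ n := map_pow h.hom ⟨a, ha⟩ n
theorem conj {a b : G} (ha : a ∈ C[x]) (hb : b ∈ C[x]) : ξ (a * b * a⁻¹) = ξ a * ξ b * (ξ a)⁻¹ := by
  rw [h.mul _ (mul_mem ha hb) _ (inv_mem ha), h.mul _ ha _ hb, h.inv ha]
theorem div {a b : G} (ha : a ∈ C[x]) (hb : b ∈ C[x]) (e : ξ a = ξ b) : a * b⁻¹ ∈ Z6 :=
  (h.ker _ (mul_mem ha (inv_mem hb))).1 (by rw [h.mul _ ha _ (inv_mem hb), h.inv hb, e, mul_inv_cancel])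
theorem x3' : x ^ 3 = 1 := h.x3 ▸ pow_orderOf_eq_one x
theorem cm : Commute z x := mem_cent1.1 h.zx
theorem cP : #(zpowers x) = 3 := (Nat.card_zpowers x).trans h.x3
theorem oz : orderOf z ∣ 2 := orderOf_dvd_of_pow_eq_one (by rw [sq, h.zz])
theorem cz : #(zpowers z) = 1 ∨ #(zpowers z) = 2 := by
  rw [Nat.card_zpowers]; exact (Nat.dvd_prime Nat.prime_two).1 h.oz
theorem Zle : Z6 ≤ C[x] := zpowers_le.2 (mul_mem h.zx (mem_cent1_self x))
theorem Zc {c a : G} (hc : c ∈ Z6) (ha : a ∈ C[x]) : a * c = c * a := mem_cent1.1 (cent1_le_cent1_of_mem_zpowers hc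
  (mem_cent1_symm.1 (mul_mem (mem_cent1_symm.1 (h.zC ha)) (mem_cent1_symm.1 ha))))
theorem c6 : #Z6 = #(zpowers z) * 3 := by
  rw [Nat.card_zpowers, h.cm.orderOf_mul_eq_mul_orderOf_of_coprime, ← Nat.card_zpowers, h.x3]
  rw [h.x3]; exact Nat.Coprime.coprime_dvd_left h.oz (by decide)
theorem xZ : x ∈ Z6 := by
  have := pow_mem (mem_zpowers (z * x)) 4
  rwa [h.cm.mul_pow, show 4 = 2 * 2 from rfl, pow_mul z, sq z, h.zz, one_pow, one_mul, pow_succ, h.x3', one_mul] at this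
theorem zZ : z ∈ Z6 := (Subgroup.mul_mem_cancel_right _ h.xZ).1 (mem_zpowers _)
theorem memZ {c : G} (hc : c ∈ Z6) : ∃ j, c = z ^ j * x ^ j :=
  (mem_powers_iff_mem_zpowers.2 hc).imp fun j e => e.symm.trans (h.cm.mul_pow j)
theorem z2 {c : G} (hc : c ∈ Z6) (h2 : T2 c) : c ∈ zpowers z := by
  obtain ⟨j, rfl⟩ := h.memZ hc
  rw [two_z (m := 3) (h.cm.pow_pow j j) ⟨1, by rw [pow_right_comm, pow_one, sq, h.zz, one_pow]⟩
    (by rw [pow_right_comm, h.x3', one_pow]) (by decide) h2, mul_one]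
  exact pow_mem (mem_zpowers z) j
theorem z3 {c : G} (hc : c ∈ Z6) (h3 : c ^ 3 = 1) : c ∈ zpowers x := by
  obtain ⟨j, rfl⟩ := h.memZ hc
  rw [(h.cm.pow_pow j j).mul_pow, pow_right_comm x, h.x3', one_pow, mul_one] at h3
  rw [odd_two h3 (by decide) ⟨1, by rw [pow_right_comm, pow_one, sq, h.zz, one_pow]⟩, one_mul]
  exact pow_mem (mem_zpowers x) j
def img (A : Subgroup G) : Subgroup GPm := (A.subgroupOf C[x]).map h.hom
theorem mem_img {A : Subgroup G} {y : GPm} : y ∈ h.img A ↔ ∃ a ∈ A, a ∈ C[x] ∧ ξ a = y :=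
  ⟨fun ⟨x, h1, h2⟩ => ⟨x, h1, x.2, h2⟩, fun ⟨x, h1, h2, h3⟩ => ⟨⟨x, h2⟩, h1, h3⟩⟩
theorem img_le (A : Subgroup G) : h.img A ≤ M22 := fun _ hy => by
  obtain ⟨x, -, h2, rfl⟩ := h.mem_img.1 hy; exact h.mem x h2
theorem card_img {A : Subgroup G} (hA : A ≤ C[x]) : #(h.img A) * #(A ⊓ Z6) = #A := by
  let f := h.hom.comp (inclusion hA)
  have e := card_eq_card_quotient_mul_card_subgroup f.ker
  have e1 : f.range = h.img A := by
    ext y; rw [h.mem_img]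
    exact ⟨fun ⟨x, e⟩ => ⟨x, x.2, hA x.2, e⟩, fun ⟨x, h1, _, e⟩ => ⟨⟨x, h1⟩, e⟩⟩
  have e2 : f.ker = (Z6).subgroupOf A := by ext x; exact h.ker _ (hA x.2)
  rw [Nat.card_congr (QuotientGroup.quotientKerEquivRange _).toEquiv, e1, e2, card_subgroupOf] at e
  rw [e, inf_comm]
theorem img_norm {A : Subgroup G} {a : G} (ha : a ∈ C[x]) (hn : a ∈ N(A)) : ξ a ∈ N(h.img A) :=
  mem_norm_of_cj_le fun y hy => by
    obtain ⟨_, h0, rfl⟩ := mem_cj'.1 hy
    obtain ⟨b, h1, h2, rfl⟩ := h.mem_img.1 h0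
    exact h.mem_img.2 ⟨_, conj_mem_of_norm hn h1, mul_mem (mul_mem ha h2) (inv_mem ha), h.conj ha h2⟩
theorem cC : #C[x] = 443520 * (#(zpowers z) * 3) := by
  rw [← h.card_img le_rfl, inf_eq_right.2 h.Zle, h.c6, le_antisymm (h.img_le _) fun m hm => by
    obtain ⟨a, ha, e⟩ := h.surj m hm; exact h.mem_img.2 ⟨a, ha, ha, e⟩, H15.MM22.card]
theorem nrm {K : Subgroup G} (h1 : K ≤ C[x]) (h2 : C[x] ≤ N(K)) : K ≤ Z6 ∨ C[x] ≤ K := by
  refine (simp22 (h.img_le K) fun m hm => by obtain ⟨a, ha, rfl⟩ := h.surj m hm; exact h.img_norm ha (h2 ha)).imp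
    (fun e a ha => (h.ker a (h1 ha)).1 (e.le (h.mem_img.2 ⟨a, ha, h1 ha, rfl⟩))) fun e => h.perf.trans
      (commutator_le.2 fun a ha b hb => ?_)
  obtain ⟨c, hc, hc', e1⟩ := h.mem_img.1 (e.ge (h.mem a ha))
  rw [show ⁅a, b⁆ = a * c⁻¹ * (c * b * c⁻¹) * (a * c⁻¹)⁻¹ * b⁻¹ by simp [commutatorElement_def, mul_assoc],
    ← h.Zc (h.div ha hc' e1.symm) (mul_mem (mul_mem hc' hb) (inv_mem hc')), mul_inv_cancel_right, mul_assoc, mul_assoc,
    ← mul_assoc b]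
  exact mul_mem hc (conj_mem_of_norm (h2 hb) (inv_mem hc))
theorem ctr {c : G} (hc : c ∈ C[x]) (e : c ∈ C(C[x])) : c ∈ Z6 := (h.ker c hc).1 (cent_M22 (M22_le (h.mem c hc))
  (mem_cent.2 fun m hm => by obtain ⟨a, ha, rfl⟩ := h.surj m hm; rw [← h.mul _ ha _ hc, ← h.mul _ hc _ ha, mem_cent.1 e a ha]))
theorem NH : N(zpowers x) ≤ C[z] := fun n hn => by
  have := cent_zpowers x ▸ norm_le_norm_cent _ hn
  have e := (mem_zpowers_inv h.zz).1 (h.z2 (h.ctr (conj_mem_of_norm this h.zx) (conj_mem_of_norm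
    (norm_le_norm_cent _ this) (le_cent1_iff.1 h.zC))) ⟨1, by rw [conj_pow, pow_one, sq, h.zz]; simp⟩)
  exact mem_cent1.2 (mul_inv_eq_iff_eq_mul.1 (e.elim (fun e => by simp [conj_eq_one_iff.1 e]) id))
theorem syl {P : Subgroup G} (hP : Syl 3 P C[x]) : Z(P) = zpowers x ∧ ⁅P, P⁆ = zpowers x ∧ #P = 27 ∧ Syl 3 P ⊤ := by
  have : Fact (Nat.Prime 3) := ⟨by norm_num⟩
  have xP : x ∈ P := hP.mem_of_norm (mem_cent1_self x) (piG_zpowers.1 (PiN.of_card (by norm_num) h.cP))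
    (cent_le_norm _ (le_cent1_iff.1 hP.le))
  have c : #P = 3 ^ 3 := by
    obtain ⟨k, e⟩ := PiN.exists_card hP.pi
    have := hP.not_dvd (by norm_num)
    have e1 := card_mul_relIndex hP.le
    rw [h.cC, e] at e1
    have : k < 4 := not_le.1 fun l => absurd ((pow_dvd_pow 3 l).trans (Dvd.intro _ e1))
      (by rcases h.cz with c | c <;> rw [c] <;> decide)
    rcases h.cz with c | c <;> rw [c] at e1 <;> interval_cases k <;> omega
  have es := H9.isExtraspecial_of_card_cube c fun ab => by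
    have e := H3.inf_commutator_inf_center_le (H := P.subgroupOf C[x]) (by
      rw [card_subgroupOf' hP.le]; exact hP.coprime) (x := ⟨x, mem_cent1_self x⟩) ⟨⟨xP, by
        have := h.perf (mem_cent1_self x)
        rw [← map_subtype_commutator] at this
        exact (mem_map_iff_mem (subtype_injective _)).1 this⟩, mem_center_iff.2 fun y => Subtype.ext (mem_cent1.1 y.2)⟩
    have := mem_map_of_mem C[x].subtype e
    rw [map_commutator, subgroupOf_map_subtype, inf_eq_left.2 hP.le, comm_iff_der.1 ab] at this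
    exact absurd h.x3 (by rw [show x = 1 from this]; simp)
  have e : zpowers x = Z(P) := eq_of_le_of_card_ge (zpowers_le.2 ⟨xP, le_cent1_iff.1 hP.le⟩)
    (by rw [h.cP, ← center_map_eq, card_map_of_injective (subtype_injective _), es.2])
  refine ⟨e.symm, by rw [e, ← center_map_eq, ← es.1.2.2, map_subtype_commutator], c, syl_of_subnorm ?_⟩
  refine (hP.of_idx (cent1_le_norm_zpowers x) (PiN.of_not_dvd fun d => absurd (d.trans (aut_dvd (by norm_num) h.x3))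
    (by decide))).of_le (le_inf le_top le_normalizer) (inf_le_right.trans (e ▸ norm_le_norm_center P))
theorem no81 (A : Subgroup G) : ¬ 81 ∣ #A := fun d => by
  obtain ⟨P, hP⟩ := exists_syl 3 C[x]
  obtain ⟨-, -, c, s⟩ := h.syl hP
  have e := card_mul_relIndex s.le
  have := d.trans (card_dvd_of_le (le_top : A ≤ ⊤))
  rw [← e, c] at this
  exact s.not_dvd (by norm_num) (Nat.dvd_of_mul_dvd_mul_left (by decide) (this : 27 * 3 ∣ _))
theorem fus {a : G} (ha : a ∈ C[x]) (o : orderOf a = 3) (n : a ∉ zpowers x) :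
    x * a ∈ cl C[x] a ∧ x * x * a ∈ cl C[x] a := by
  obtain ⟨P, hP, l⟩ := (PiN.of_card (by norm_num) ((Nat.card_zpowers a).trans o)).exists_syl (zpowers_le.2 ha)
  obtain ⟨e1, e2, -⟩ := h.syl hP
  have aP := l (mem_zpowers a)
  obtain ⟨b, hb, e⟩ : ∃ b ∈ P, ⁅b, a⁆ ≠ 1 := by
    by_contra! k
    exact n (e1.le ⟨aP, mem_cent.2 fun b hb => commutatorElement_eq_one_iff_mul_comm.1 (k b hb)⟩)
  have m := e2.le (commutator_mem_commutator hb aP)
  have k1 : ⁅b, a⁆ * a ∈ cl C[x] a := ⟨b, hP.le hb, by simp [commutatorElement_def]⟩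
  have k2 : ⁅b, a⁆ * ⁅b, a⁆ * a ∈ cl C[x] a := by
    have := cl_cj (hP.le hb) k1
    rwa [← conj_mul, mem_cent1.1 (cent1_le_cent1_of_mem_zpowers m (hP.le hb)), mul_inv_cancel_right,
      show b * a * b⁻¹ = ⁅b, a⁆ * a by simp [commutatorElement_def], ← mul_assoc] at this
  obtain ⟨i, hi, e3⟩ := mem_zp_lt (by decide) h.x3' m
  rw [e3] at k1 k2 e
  interval_cases i
  · exact absurd (pow_zero x) e
  · simpa only [pow_one] using And.intro k1 k2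
  · rw [← pow_add, pow_succ, h.x3', one_mul] at k2
    exact ⟨k2, sq x ▸ k1⟩
theorem real {a : G} (ha : a ∈ C[x]) (o : orderOf a = 3) (n : a ∉ zpowers x) : a⁻¹ ∈ cl C[x] a := by
  have a3 : a ^ 3 = 1 := o ▸ pow_orderOf_eq_one a
  have : Fact (Nat.Prime 3) := ⟨by norm_num⟩
  obtain ⟨m, hm, e⟩ := real3 (h.mem a ha) (orderOf_eq_prime (by rw [← h.pow ha, a3, h.one]) fun e =>
    n (h.z3 ((h.ker a ha).1 e) a3))
  obtain ⟨b, hb, rfl⟩ := h.surj m hm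
  rw [← h.conj hb ha, ← h.inv ha] at e
  have hc := mul_mem (mul_mem hb ha) (inv_mem hb)
  have m := h.div hc (inv_mem ha) e
  have m3 := h.z3 m (by
    have := congrArg (· ^ 3) (inv_mul_cancel_right (b * a * b⁻¹) a⁻¹)
    rwa [(show Commute _ a⁻¹ from (h.Zc m (inv_mem ha)).symm).mul_pow, conj_pow, inv_pow, a3, inv_one, mul_one, mul_one,
      mul_inv_cancel] at this)
  obtain ⟨k1, k2⟩ := h.fus (inv_mem ha) (by rwa [orderOf_inv]) (mt inv_mem_iff.1 n)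
  obtain ⟨i, hi, e3⟩ := mem_zp_lt (by decide) h.x3' m3
  rw [mul_inv_eq_iff_eq_mul] at e3
  refine cl_trans ⟨b, hb, e3⟩ (cl_symm ?_)
  interval_cases i
  exacts [by simpa using cl_self _ _, (pow_one x).symm ▸ k1, (sq x).symm ▸ k2]
theorem xne : x ≠ x⁻¹ := fun e => absurd (h.x3 ▸ orderOf_dvd_of_pow_eq_one (show x ^ 2 = 1 by
  rw [sq, mul_eq_one_iff_eq_inv, ← e])) (by decide)
theorem idx {t : G} (ht : t ∈ N1) (e : t * x * t⁻¹ = x⁻¹) : (C[x].subgroupOf N1).index = 2 := by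
  classical
  refine index_eq_two_iff.2 ⟨⟨t, ht⟩, fun b => ?_⟩
  have k : b * x * (b : G)⁻¹ = x ∨ b * x * (b : G)⁻¹ = x⁻¹ := by
    obtain ⟨j, hj, e1⟩ := (mem_powers_iff_mem_range_orderOf (x := x)).1
      (mem_powers_iff_mem_zpowers.2 (conj_mem_of_norm b.2 (mem_zpowers x))) |> Finset.mem_image.1
    rw [h.x3, Finset.mem_range] at hj
    obtain rfl | rfl | rfl : j = 0 ∨ j = 1 ∨ j = 2 := by omega
    · rw [pow_zero, eq_comm, conj_eq_one_iff] at e1; exact absurd h.x3 (by simp [e1])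
    · exact .inl (by rw [← e1, pow_one])
    · exact .inr (by rw [← e1, eq_inv_iff_mul_eq_one, ← pow_succ, h.x3'])
  have k1 : (b * t : G) ∈ C[x] ↔ b * x * (b : G)⁻¹ = x⁻¹ := by
    rw [mem_cent1, ← mul_inv_eq_iff_eq_mul, ← inv_inj, show ((b : G) * t * x * (b * t)⁻¹) = b * (t * x * t⁻¹) * (b : G)⁻¹ by group, e]
    simp [mul_assoc]
  have k2 : (b : G) ∈ C[x] ↔ b * x * (b : G)⁻¹ = x := by rw [mem_cent1, mul_inv_eq_iff_eq_mul]
  show Xor ((b * t : G) ∈ C[x]) ((b : G) ∈ C[x])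
  rw [k1, k2]
  exact k.symm.imp (fun e => ⟨e, fun e1 => h.xne (e1.symm.trans e)⟩) fun e => ⟨e, fun e1 => h.xne (e.symm.trans e1)⟩
theorem nZ : N1 ≤ N(Z6) := fun n hn => mem_norm_of_cj_le (by
  rw [cj_zpowers, zpowers_le, ← conj_mul, mem_cent1.1 (h.NH hn), mul_inv_cancel_right]
  exact mul_mem h.zZ (zpowers_le.2 h.xZ (conj_mem_of_norm hn (mem_zpowers x))))
theorem hout {c : G} (hc : ∀ a ∈ C[x], c * a * c⁻¹ * a⁻¹ ∈ Z6) : c ∈ C[x] :=
  mem_cent1_symm.1 ((commutator_le (H₃ := C[c])).2 (fun a ha b hb => by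
    have h1 := hc a ha
    have h2 := hc b hb
    obtain ⟨u, e1⟩ : ∃ u, u = c * a * c⁻¹ * a⁻¹ := ⟨_, rfl⟩
    obtain ⟨v, e2⟩ : ∃ u, u = c * b * c⁻¹ * b⁻¹ := ⟨_, rfl⟩
    rw [← e1] at h1; rw [← e2] at h2
    rw [mem_cent1_symm, mem_cent1, ← mul_inv_eq_iff_eq_mul, show c * ⁅a, b⁆ * c⁻¹ = u * (a * (v * b) * a⁻¹) * u⁻¹ * (v * b)⁻¹ by
      rw [e1, e2, commutatorElement_def]; group, ← h.Zc h1 (mul_mem (mul_mem ha (mul_mem (h.Zle h2) hb)) (inv_mem ha)),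
      mul_inv_cancel_right, ← h.Zc h2 hb, ← mul_assoc a, mul_assoc _ v, ← h.Zc h2 (inv_mem ha), commutatorElement_def]
    group) (h.perf (mem_cent1_self x)))
end K5

structure KN (x z : G) (ρ : G → GPm) : Prop extends K5 x z ρ where
  mul' : ∀ a ∈ N(zpowers x), ∀ b ∈ N(zpowers x), ρ (a * b) = ρ a * ρ b
  mem' : ∀ a ∈ N(zpowers x), ρ a ∈ AA
  surj' : ∀ m ∈ AA, ∃ a ∈ N(zpowers x), ρ a = m
  inn : ∀ a ∈ N(zpowers x), ρ a ∈ M22 → a ∈ C[x]

theorem K5.rho [Finite G] {x z : G} {ξ : G → GPm} (h : K5 x z ξ) {t : G} (e : t * x * t⁻¹ = x⁻¹) : ∃ ρ, KN x z ρ := by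
  have ht : t ∈ N(zpowers x) := mem_norm_iff_cj.2 (by rw [cj_zpowers, e, zpowers_inv])
  have l := cent1_le_norm_zpowers x
  have := (normal_subgroupOf_iff_le_normalizer (h.Zle.trans l)).2 h.nZ
  have := (normal_subgroupOf_iff_le_normalizer l).2 (cent_zpowers x ▸ norm_le_norm_cent _)
  let φ := (h.hom.codRestrict M22 fun a => h.mem a a.2).comp (subgroupOfEquivOfLe l).toMonoidHom
  have k1 : ((zpowers (z * x)).subgroupOf N(zpowers x)).subgroupOf (C[x].subgroupOf N(zpowers x)) = φ.ker := by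
    ext a; exact (h.ker _ a.2).symm.trans (Subtype.ext_iff (a1 := φ a) (a2 := 1)).symm
  have k2 : Function.Surjective φ := fun m => by
    obtain ⟨a, ha, e⟩ := h.surj m m.2
    exact ⟨⟨⟨a, l ha⟩, ha⟩, Subtype.ext e⟩
  obtain ⟨ε⟩ := quot_aut (M := C[x].subgroupOf N(zpowers x)) ((zpowers (z * x)).subgroupOf N(zpowers x)) (comap_mono h.Zle)
    (h.idx ht e) (fun c hc => h.hout fun a ha => hc ⟨a, l ha⟩ ha) ((QuotientGroup.quotientMulEquivOfEq k1).trans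
      (QuotientGroup.quotientKerEquivOfSurjective φ k2))
  obtain ⟨ρ, e1⟩ := ext_fun (AA.subtype.comp (ε.toMonoidHom.comp (QuotientGroup.mk' _)))
  have m1 : ∀ a ∈ N(zpowers x), ∀ b ∈ N(zpowers x), ρ (a * b) = ρ a * ρ b := fun x hx y hy => by
    rw [e1 _ hx, e1 _ hy, e1 _ (mul_mem hx hy), ← map_mul]; rfl
  have m2 : ∀ a ∈ N(zpowers x), ρ a ∈ AA := fun x hx => by rw [e1 _ hx]; exact SetLike.coe_mem _
  have m3 : ∀ m ∈ AA, ∃ a ∈ N(zpowers x), ρ a = m := fun a ha => by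
    obtain ⟨x, hx⟩ := (ε.surjective.comp (QuotientGroup.mk'_surjective _)) ⟨a, ha⟩
    exact ⟨x, x.2, by rw [e1 _ x.2]; exact congrArg Subtype.val hx⟩
  let f : N(zpowers x) →* GPm := MonoidHom.mk' (fun a => ρ a) fun a b => m1 _ a.2 _ b.2
  have m0 : im f C[x] ≤ AA := fun _ hy => by obtain ⟨b, -, rfl⟩ := mem_im.1 hy; exact m2 b b.2
  have m4 : ∀ a ∈ C[x], ρ a ∈ M22 := fun a ha => (im_mono h.perf).trans ((im_comm l l).le.trans ((commutator_mono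
    m0 m0).trans comm_AA)) (mem_im_of (f := f) (x := ⟨a, l ha⟩) ha)
  have m5 : ∀ a ∈ N(zpowers x), ρ a ∈ M22 → a ∈ C[x] := fun a ha hm => by_contra fun n => by
    obtain ⟨b, hb, e2⟩ := m3 _ (lt_AA 16)
    have n' : b ∉ C[x] := fun k => T4a.2.2.2.2.2.2.2 (e2 ▸ m4 b k)
    have := m4 (a * b) ((mul_mem_iff_of_index_two (h.idx ht e) (a := ⟨a, ha⟩) (b := ⟨b, hb⟩)).2 (iff_of_false n n'))
    rw [m1 _ ha _ hb, e2] at this
    exact T4a.2.2.2.2.2.2.2 ((Subgroup.mul_mem_cancel_left _ hm).1 this)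
  refine ⟨ρ, ⟨h.x3, h.zz, h.zx, h.zC, fun a ha b hb => m1 a (l ha) b (l hb), fun a ha => ?_, m4, fun m hm => ?_, h.perf⟩,
    m1, m2, m3, m5⟩
  · rw [e1 _ (l ha)]; simp [mem_subgroupOf]
  · obtain ⟨a, ha, rfl⟩ := m3 m (M22_le hm)
    exact ⟨a, m5 a ha hm, rfl⟩
theorem k5_of [Finite G] {x : G} (hx : orderOf x = 3) (hp : ⁅(⊤ : Subgroup C[x]), (⊤ : Subgroup C[x])⁆ = ⊤)
    (hZ : IsCyclic (center C[x])) (hc : #(center C[x]) = 3 ∨ #(center C[x]) = 6) (e : C[x] ⧸ center C[x] ≃* Cfsg.Spor.M22) :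
    ∃ z ξ, K5 x z ξ ∧ #(center C[x]) = orderOf z * 3 := by
  obtain ⟨c, o⟩ := IsCyclic.exists_ofOrder_eq_natCard (α := center C[x])
  rw [← orderOf_coe, ← orderOf_coe] at o
  obtain ⟨z, ez⟩ : ∃ z, z = ((c : C[x]) : G) ^ 3 := ⟨_, rfl⟩
  have zx : z ∈ C[x] := ez ▸ pow_mem c.1.2 3
  have oz : #(center C[x]) = orderOf z * 3 := by rcases hc with hc | hc <;> rw [ez, orderOf_pow, o, hc] <;> decide
  have o2 : orderOf z ∣ 2 := by rcases hc with hc | hc <;> rw [ez, orderOf_pow, o, hc] <;> decide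
  have zc : (⟨z, zx⟩ : C[x]) ∈ center C[x] := by
    have := pow_mem c.2 3
    rwa [show (c : C[x]) ^ 3 = ⟨z, zx⟩ from Subtype.ext ez.symm] at this
  have e1 : zpowers (z * x) = (center C[x]).map C[x].subtype := eq_of_le_of_card_eq (zpowers_le.2 (mul_mem ⟨_, zc, rfl⟩
    ⟨⟨x, mem_cent1_self x⟩, mem_center_iff.2 fun y => Subtype.ext (mem_cent1.1 y.2), rfl⟩)) (by
      rw [card_map_of_injective (subtype_injective _), oz, Nat.card_zpowers,
        (show Commute z x from mem_cent1.1 zx).orderOf_mul_eq_mul_orderOf_of_coprime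
          (hx ▸ Nat.Coprime.coprime_dvd_left o2 (by decide)), hx])
  obtain ⟨ξ, e2⟩ := ext_fun ((Cfsg.Spor.M22).subtype.comp (e.toMonoidHom.comp (QuotientGroup.mk' _)))
  refine ⟨z, ξ, ⟨hx, by rw [← sq, ← orderOf_dvd_iff_pow_eq_one]; exact o2, zx,
    fun y hy => mem_cent1.2 (congrArg Subtype.val (mem_center_iff.1 zc ⟨y, hy⟩)), fun x hx y hy => ?_, fun x hx => ?_,
    fun x hx => ?_, fun a ha => ?_, ?_⟩, oz⟩
  · rw [e2 _ hx, e2 _ hy, e2 _ (mul_mem hx hy), ← map_mul]; rfl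
  · rw [e2 _ hx, e1]
    exact .trans (by simp) (mem_map_iff_mem (subtype_injective _) (x := ⟨x, hx⟩)).symm
  · rw [e2 _ hx, M22_eq]; exact SetLike.coe_mem _
  · obtain ⟨x, hx⟩ := (e.surjective.comp (QuotientGroup.mk'_surjective _)) ⟨a, M22_eq ▸ ha⟩
    exact ⟨x, x.2, by rw [e2 _ x.2]; exact congrArg Subtype.val hx⟩
  · have := congrArg (map C[x].subtype) hp
    rw [map_commutator, ← MonoidHom.range_eq_map, range_subtype] at this
    exact this.ge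
end H26.J4
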