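import Cfsg.Agent.H26.J4.J3

/-! The normalizer of the subgroup of order three. -/

set_option autoImplicit false
set_option linter.unusedSectionVars false
set_option linter.unusedVariables false
set_option maxRecDepth 100000
open Subgroup H16 H19 H0 H0.TR H20.J4
open scoped commutatorElement
namespace H26.J4
variable {G : Type*} [Group G]
local notation "cj" => H19.cj

theorem cN (x : G) : C[x] ≤ N(zpowers x) := cent1_le_norm_zpowers x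
theorem cjc {a b : G} (h : a ∈ C[b]) : a * b * a⁻¹ = b := by rw [mem_cent1.1 h, mul_inv_cancel_right]
theorem cjc' {a b : G} (h : b ∈ C[a]) : a * b * a⁻¹ = b := cjc (mem_cent1_symm.1 h)
theorem of_cjc {a b : G} (h : a * b * a⁻¹ = b) : a ∈ C[b] := mem_cent1.2 (mul_inv_eq_iff_eq_mul.1 h)
theorem cjm {K : Subgroup G} {a b : G} (ha : a ∈ K) (hb : b ∈ K) : a * b * a⁻¹ ∈ K := mul_mem (mul_mem ha hb) (inv_mem ha)
theorem cj_pow1 {a b : G} {n : ℕ} (h : b ^ n = 1) : (a * b * a⁻¹) ^ n = 1 := by rw [conj_pow, h]; simp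
theorem cj_sq1 {a b : G} (h : b * b = 1) : a * b * a⁻¹ * (a * b * a⁻¹) = 1 := by rw [conj_mul, h]; simp
theorem cj_ne1 {a b : G} (h : b ≠ 1) : a * b * a⁻¹ ≠ 1 := mt conj_eq_one_iff.1 h
theorem cent_cj {a b c : G} (h : b ∈ C[c]) : a * b * a⁻¹ ∈ C[a * c * a⁻¹] := cj_cent1 a c ▸ conj_mem_cj.2 h
theorem o3 {a : G} (h : a ^ 3 = 1) (h1 : a ≠ 1) : orderOf a = 3 := haveI := Fact.mk Nat.prime_three; orderOf_eq_prime h h1
theorem qc3 {z : G} (hz : z * z = 1) {u n : N(zpowers z)} (h1 : (u : G) ∈ C[z]) (h3 : (u : G) ^ 3 = 1) :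
    qmk _ n ∈ C[qmk _ u] ↔ (n : G) ∈ C[(u : G)] := by
  refine ⟨fun e => ?_, fun e => mem_cent1.2 (by rw [← map_mul, ← map_mul]; exact congrArg _ (Subtype.ext (mem_cent1.1 e)))⟩
  have := cjc e
  rw [← map_inv, ← map_mul, ← map_mul, eq_comm, qmk_eq] at this
  rcases (mem_zpowers_inv hz).1 this with e | e
  · exact of_cjc (inv_mul_eq_one.1 e).symm
  have e1 := cj_pow1 (a := (n : G)) h3
  rw [show (n : G) * u * (n : G)⁻¹ = u * z from (inv_mul_eq_iff_eq_mul.1 e), (show Commute (u : G) z from mem_cent1.1 h1).mul_pow,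
    h3, one_mul, pow_succ, sq, hz, one_mul] at e1
  exact of_cjc (by simpa [e1] using inv_mul_eq_iff_eq_mul.1 e)

namespace KN
variable [Finite G] {x z : G} {ρ : G → GPm} (h : KN x z ρ)
include h
local notation "Z6" => zpowers (z * x)
local notation "N1" => N(zpowers x)
set_option quotPrecheck false in
local notation "ζ" => #(zpowers z)
theorem x1 : x ≠ 1 := fun e => by simpa [e] using h.x3
def f : N1 →* GPm := MonoidHom.mk' (fun a => ρ a) fun a b => h.mul' _ a.2 _ b.2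
theorem inv' {a : G} (ha : a ∈ N1) : ρ a⁻¹ = (ρ a)⁻¹ := map_inv h.f ⟨a, ha⟩
theorem pow' {a : G} (ha : a ∈ N1) (n : ℕ) : ρ (a ^ n) = ρ a ^ n := map_pow h.f ⟨a, ha⟩ n
theorem conj' {a b : G} (ha : a ∈ N1) (hb : b ∈ N1) : ρ (a * b * a⁻¹) = ρ a * ρ b * (ρ a)⁻¹ := by
  rw [h.mul' _ (mul_mem ha hb) _ (inv_mem ha), h.mul' _ ha _ hb, h.inv' ha]
theorem ker' {a : G} (ha : a ∈ N1) (e : ρ a = 1) : a ∈ Z6 := (h.ker a (h.inn a ha (e ▸ one_mem _))).1 e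
theorem kz {a : G} (ha : a ∈ Z6) : ρ a = 1 := (h.ker a (h.Zle ha)).2 ha
theorem ρz : ρ z = 1 := h.kz h.zZ
theorem ρx : ρ x = 1 := h.kz h.xZ
theorem zl : zpowers z ≤ Z6 := zpowers_le.2 h.zZ
theorem div' {a b : G} (ha : a ∈ N1) (hb : b ∈ N1) (e : ρ a = ρ b) : a * b⁻¹ ∈ Z6 :=
  h.ker' (mul_mem ha (inv_mem hb)) (by rw [h.mul' _ ha _ (inv_mem hb), h.inv' hb, e, mul_inv_cancel])
theorem nC : N1 ≤ N(C[x]) := cent_zpowers x ▸ norm_le_norm_cent _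
theorem cjC {n c : G} (hn : n ∈ N1) (hc : c ∈ C[x]) : n * c * n⁻¹ ∈ C[x] := conj_mem_of_norm (h.nC hn) hc
theorem cjx {n : G} (hn : n ∈ N1) : n * x * n⁻¹ = x ∨ n * x * n⁻¹ = x⁻¹ := by
  obtain ⟨i, hi, e⟩ := mem_zp_lt (by decide) h.x3' (conj_mem_of_norm hn (mem_zpowers x))
  interval_cases i
  · exact absurd (e.trans (pow_zero x)) (cj_ne1 h.x1)
  · exact .inl (e.trans (pow_one x))
  · exact .inr (e.trans (eq_inv_of_mul_eq_one_left (by rw [← pow_succ, h.x3'])))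
theorem out {a b : G} (ha : a ∈ N1) (hb : b ∈ N1) (h1 : a ∉ C[x]) (h2 : b ∉ C[x]) : a * b ∈ C[x] :=
  h.inn _ (mul_mem ha hb) (h.mul' _ ha _ hb ▸ out_mul (h.mem' a ha) (h.mem' b hb) (mt (h.inn a ha) h1) (mt (h.inn b hb) h2))
def im (A : Subgroup G) : Subgroup GPm := H19.im h.f A
def pre (X : Subgroup GPm) : Subgroup G := H19.pre h.f X
theorem mem_im {A : Subgroup G} {y : GPm} : y ∈ h.im A ↔ ∃ a ∈ A, a ∈ N1 ∧ ρ a = y :=
  ⟨fun ⟨x, h1, h2⟩ => ⟨x, h1, x.2, h2⟩, fun ⟨x, h1, h2, h3⟩ => ⟨⟨x, h2⟩, h1, h3⟩⟩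
theorem im_of {A : Subgroup G} {a : G} (h1 : a ∈ A) (h2 : a ∈ N1) : ρ a ∈ h.im A := h.mem_im.2 ⟨a, h1, h2, rfl⟩
theorem mem_pre {X : Subgroup GPm} {a : G} : a ∈ h.pre X ↔ a ∈ N1 ∧ ρ a ∈ X := H19.mem_pre.trans ⟨fun ⟨h1, h2⟩ => ⟨h1, h2⟩, fun ⟨h1, h2⟩ => ⟨h1, h2⟩⟩
theorem im_le {A : Subgroup G} {X : Subgroup GPm} (k : ∀ a ∈ A, a ∈ N1 → ρ a ∈ X) : h.im A ≤ X := fun _ hy => by
  obtain ⟨a, h1, h2, rfl⟩ := h.mem_im.1 hy; exact k a h1 h2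
theorem pre_le (X : Subgroup GPm) : h.pre X ≤ N1 := H19.pre_le _ _
theorem preC {X : Subgroup GPm} (hX : X ≤ M22) : h.pre X ≤ C[x] := fun a ha =>
  h.inn a (h.mem_pre.1 ha).1 (hX (h.mem_pre.1 ha).2)
theorem Zpre (X : Subgroup GPm) : Z6 ≤ h.pre X := fun a ha => h.mem_pre.2 ⟨cN x (h.Zle ha), h.kz ha ▸ one_mem _⟩
theorem card_im {A : Subgroup G} (hA : A ≤ N1) : #(h.im A) * #(A ⊓ Z6) = #A := by
  have e := card_eq_card_quotient_mul_card_subgroup (imHom h.f hA).ker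
  have e2 : (imHom h.f hA).ker = (Z6).subgroupOf A := by
    ext a; exact imHom_eq_one.trans ⟨h.ker' (hA a.2), h.kz⟩
  rw [Nat.card_congr (QuotientGroup.quotientKerEquivOfSurjective _ (imHom_surj _ hA)).toEquiv, e2, card_subgroupOf] at e
  rw [e, inf_comm]; rfl
theorem im_pre {X : Subgroup GPm} (hX : X ≤ AA) : h.im (h.pre X) = X := le_antisymm im_pre_le fun m hm => by
  obtain ⟨a, ha, rfl⟩ := h.surj' m (hX hm)
  exact h.im_of (h.mem_pre.2 ⟨ha, hm⟩) ha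
theorem card_pre {X : Subgroup GPm} (hX : X ≤ AA) : #(h.pre X) = #X * (ζ * 3) := by
  rw [← h.card_im (h.pre_le X), h.im_pre hX, inf_eq_right.2 (h.Zpre X), h.c6]
theorem im_norm {A : Subgroup G} {a : G} (ha : a ∈ N1) (hn : a ∈ N(A)) : ρ a ∈ N(h.im A) :=
  im_norm_le (f := h.f) (h.im_of hn ha)
theorem cj_pre {X : Subgroup GPm} {n : G} (hn : n ∈ N1) : cj n (h.pre X) = h.pre (cj (ρ n) X) := by
  ext a
  rw [mem_cj, h.mem_pre, h.mem_pre, mem_cj, ← h.inv' hn]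
  refine ⟨fun ⟨h1, h2⟩ => ?_, fun ⟨h1, h2⟩ => ⟨mul_mem (mul_mem (inv_mem hn) h1) hn, ?_⟩⟩
  · have h3 : a ∈ N1 := (Subgroup.mul_mem_cancel_left _ (inv_mem hn)).1 ((Subgroup.mul_mem_cancel_right _ hn).1 h1)
    exact ⟨h3, by rwa [← h.mul' _ (inv_mem hn) _ h3, ← h.mul' _ (mul_mem (inv_mem hn) h3) _ hn]⟩
  · rwa [h.mul' _ (mul_mem (inv_mem hn) h1) _ hn, h.mul' _ (inv_mem hn) _ h1]
theorem pz : PG 2 (zpowers z) := pg_zpowers h.zz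
theorem pζ : PiN {2} ζ := h.pz
theorem t2z {c : G} (hc : c ∈ zpowers z) : T2 c := t2_of_pg h.pz hc
theorem iz {A : Subgroup G} (hA : PG 2 A) : A ⊓ Z6 = A ⊓ zpowers z :=
  le_antisymm (fun _ hc => ⟨hc.1, h.z2 hc.2 (t2_of_pg hA hc.1)⟩) (inf_le_inf_left _ h.zl)
theorem card_im2 {A : Subgroup G} (h1 : A ≤ N1) (hA : PG 2 A) (hz : z ∈ A) : #(h.im A) * ζ = #A := by
  rw [← h.card_im h1, h.iz hA, inf_eq_right.2 (zpowers_le.2 hz)]
theorem card_im_le {A : Subgroup G} (h1 : A ≤ N1) (hA : PG 2 A) : #A ≤ #(h.im A) * ζ := by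
  rw [← h.card_im h1, h.iz hA]; exact Nat.mul_le_mul_left _ (card_le inf_le_right)
/-- the `2`-lift of a `2`-subgroup of `M₂₂` -/
def L2 (X : Subgroup GPm) : Subgroup G := Oc {2} (h.pre X)
theorem sylp {X : Subgroup GPm} (h1 : X ≤ AA) (h2 : PG 2 X) {S : Subgroup G} (hS : Syl 2 S (h.pre X)) :
    #S = #X * ζ ∧ S ⊔ zpowers x = h.pre X ∧ z ∈ S := by
  have l : zpowers x ≤ h.pre X := zpowers_le.2 (h.Zpre X h.xZ)
  have e := card_mul_relIndex l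
  rw [h.card_pre h1, h.cP, ← mul_assoc, mul_comm, mul_left_inj' (by decide)] at e
  have k : PiN {2} ((zpowers x).relIndex (h.pre X)) := e ▸ h2.mul h.pζ
  have k1 : Hall {2}ᶜ (zpowers x) (h.pre X) := ⟨l, PiN.of_not_dvd (by rw [h.cP]; decide), k.compl_compl⟩
  refine ⟨?_, hS.sup_compl k1, hS.mem_of_norm (h.Zpre X h.zZ) (t2_iff.1 (t2_sq h.zz))
    (cent_le_norm _ (le_cent1_iff.1 (hS.le.trans ((h.pre_le X).trans h.NH))))⟩
  have := hS.card_mul_compl k1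
  rwa [h.card_pre h1, h.cP, ← mul_assoc, mul_left_inj' (by decide)] at this
theorem L2_hall {X : Subgroup GPm} (h1 : X ≤ M22) (h2 : PG 2 X) : Syl 2 (h.L2 X) (h.pre X) := by
  obtain ⟨S, hS⟩ := exists_syl 2 (h.pre X)
  exact hS.Oc_hall ((h.sylp (h1.trans M22_le) h2 hS).2.1.ge.trans (sup_le le_normalizer (zpowers_le.2 (cent_le_norm _
    (le_cent1_iff.1 (hS.le.trans (h.preC h1)))))))
theorem L2_pg (X : Subgroup GPm) : PG 2 (h.L2 X) := Oc_pi _ _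
theorem card_L2 {X : Subgroup GPm} (h1 : X ≤ M22) (h2 : PG 2 X) : #(h.L2 X) = #X * ζ :=
  (h.sylp (h1.trans M22_le) h2 (h.L2_hall h1 h2)).1
theorem L2_le (X : Subgroup GPm) : h.L2 X ≤ h.pre X := Oc_le _ _
theorem mem_L2 {X : Subgroup GPm} (h1 : X ≤ M22) (h2 : PG 2 X) {c : G} : c ∈ h.L2 X ↔ c ∈ C[x] ∧ ρ c ∈ X ∧ T2 c :=
  ⟨fun hc => ⟨h.preC h1 (h.L2_le X hc), (h.mem_pre.1 (h.L2_le X hc)).2, t2_of_pg (h.L2_pg X) hc⟩,
    fun hc => (h.L2_hall h1 h2).mem_Oc (h.mem_pre.2 ⟨cN x hc.1, hc.2.1⟩) (t2_iff.1 hc.2.2)⟩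
theorem cj_L2 {X : Subgroup GPm} {n : G} (hn : n ∈ N1) : cj n (h.L2 X) = h.L2 (cj (ρ n) X) := by
  rw [L2, cj_Oc, h.cj_pre hn, L2]
theorem L2_norm {X : Subgroup GPm} {n : G} (hn : n ∈ N1) (e : ρ n ∈ N(X)) : n ∈ N(h.L2 X) := by
  rw [mem_norm_iff_cj, h.cj_L2 hn, cj_of_mem_norm e]
theorem lift2 {m : GPm} (hm : m ∈ AA) (h2 : T2 m) : ∃ a ∈ N1, ρ a = m ∧ T2 a := by
  have l := zpowers_le.2 hm
  have p : PG 2 (zpowers m) := piG_zpowers.2 (t2_iff.1 h2)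
  obtain ⟨S, hS⟩ := exists_syl 2 (h.pre (zpowers m))
  obtain ⟨a, ha, rfl⟩ := h.surj' m hm
  obtain ⟨y, hy, c, hc, rfl⟩ := (mem_sup_of_norm' (hS.le.trans (h.pre_le _))).1 ((h.sylp l p hS).2.1.ge
    (h.mem_pre.2 ⟨ha, mem_zpowers _⟩))
  have h3 := h.pre_le _ (hS.le hy)
  exact ⟨y, h3, by rw [h.mul' _ h3 _ (le_normalizer hc), h.kz (zpowers_le.2 h.xZ hc), mul_one], t2_of_pg hS.pi hy⟩
theorem lift2' {m : GPm} (hm : m ∈ M22) (h2 : T2 m) : ∃ a ∈ C[x], ρ a = m ∧ T2 a := by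
  obtain ⟨a, ha, rfl, e⟩ := h.lift2 (M22_le hm) h2
  exact ⟨a, h.inn a ha hm, rfl, e⟩
theorem eq2 {a b : G} (ha : a ∈ C[x]) (hb : b ∈ C[x]) (h1 : T2 a) (h2 : T2 b) (e : ρ a = ρ b) : a = b ∨ a = b * z := by
  have m := h.div ha hb e
  have := h.z2 m (t2_mul (Commute.inv_right (show a * b = b * a by
    simpa [mul_assoc] using congrArg (· * b) (h.Zc m hb).symm)) h1 (t2_inv h2))
  exact ((mem_zpowers_inv h.zz).1 this).imp mul_inv_eq_one.1 fun e => by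
    rw [mem_cent1.1 (h.zC hb), ← e, inv_mul_cancel_right]
theorem eq3 {a b : G} (ha : a ∈ C[x]) (hb : b ∈ C[x]) (h1 : a ^ 3 = 1) (h2 : b ^ 3 = 1) (e : ρ a = ρ b) :
    a = b ∨ a = x * b ∨ a = x * x * b := by
  have m := h.div ha hb e
  have := congrArg (· ^ 3) (inv_mul_cancel_right a b)
  rw [(show Commute _ b from (h.Zc m hb).symm).mul_pow, h1, h2, mul_one] at this
  obtain ⟨i, hi, e⟩ := mem_zp_lt (by decide) h.x3' (h.z3 m this)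
  rw [mul_inv_eq_iff_eq_mul] at e
  interval_cases i
  exacts [.inl (by simpa using e), .inr (.inl (by simpa using e)), .inr (.inr (by simpa [sq] using e))]
theorem o3ρ {y : G} (hy : y ∈ C[x]) (y3 : y ^ 3 = 1) (n : y ∉ zpowers x) : orderOf (ρ y) = 3 :=
  o3 (by rw [← h.pow hy, y3, h.one]) fun e => n (h.z3 ((h.ker y hy).1 e) y3)
theorem cl3 {y w : G} (hy : y ∈ C[x]) (y3 : y ^ 3 = 1) (n : y ∉ zpowers x) (hw : w ∈ C[x]) (w3 : w ^ 3 = 1)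
    (n' : w ∉ zpowers x) : w ∈ cl C[x] y := by
  obtain ⟨k, hk, e⟩ := cls3 (h.mem y hy) (h.o3ρ hy y3 n)
  obtain ⟨l, hl, e'⟩ := cls3 (h.mem w hw) (h.o3ρ hw w3 n')
  obtain ⟨c, hc, e1⟩ := h.surj _ (mul_mem (inv_mem hk) hl)
  obtain ⟨k1, k2⟩ := h.fus hy (o3 y3 fun e => n (e ▸ one_mem _)) n
  refine cl_symm (cl_trans ⟨c, hc, rfl⟩ (cl_symm ?_))
  rcases h.eq3 (cjm hc hw) hy (cj_pow1 w3) y3 (by rw [h.conj hc hw, e1, ← cjcj, e', ← e]; group) with e | e | e <;> rw [e]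
  exacts [cl_self _ _, k1, k2]
theorem inv_kn : KN x⁻¹ z ρ := by
  have e1 : C[x⁻¹] = C[x] := by rw [← cent_zpowers, zpowers_inv, cent_zpowers]
  have e2 : zpowers (z * x⁻¹) = Z6 := by
    rw [← zpowers_inv, mul_inv_rev, inv_inv, inv_eq_of_mul_eq_one_right h.zz, h.cm]
  refine ⟨⟨by rw [orderOf_inv, h.x3], h.zz, ?_, ?_, ?_, ?_, ?_, ?_, ?_⟩, ?_, ?_, ?_, ?_⟩ <;> simp only [e1, e2, zpowers_inv]
  exacts [h.zx, h.zC, h.mul, h.ker, h.mem, h.surj, h.perf, h.mul', h.mem', h.surj', h.inn]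
theorem k6 (h1 : z ≠ 1) : K6 x z ρ := ⟨h.x3, h.zz, h1, h.zx, h.zC, h.mul, h.ker, h.mem, h.surj, h.perf⟩
theorem nz : N1 ≤ N(zpowers z) := h.NH.trans (cN z)
theorem xN : x ∈ N(zpowers z) := h.nz (le_normalizer (mem_zpowers x))
theorem qN {n : N(zpowers z)} : qmk _ n ∈ N(zpowers (qmk _ ⟨x, h.xN⟩)) ↔ (n : G) ∈ N1 := by
  rw [← quo_zpowers]
  refine ⟨fun e => mem_norm_of_cj_le ?_, fun e => quo_norms (zpowers_le.2 e) (mem_im_of (mem_zpowers _))⟩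
  have l := zpowers_le.2 h.xN
  have := norms_of_quo (zpowers_le.2 n.2) l (by rw [quo_zpowers n.2]; exact zpowers_le.2 e) (mem_zpowers _)
  rw [cj_zpowers, zpowers_le]
  exact h.z3 (sup_le h.zl (zpowers_le.2 h.xZ) (conj_mem_of_norm this (mem_sup_right (mem_zpowers x)))) (cj_pow1 h.x3')
theorem qC {n : N(zpowers z)} : qmk _ n ∈ C[qmk _ ⟨x, h.xN⟩] ↔ (n : G) ∈ C[x] :=
  qc3 h.zz (h.zC (mem_cent1_self x)) h.x3'
theorem quo : ∃ ρ' : Quo (zpowers z) → GPm, KN (qmk _ ⟨x, h.xN⟩) 1 ρ' ∧ ∀ n : N(zpowers z), (n : G) ∈ N1 → ρ' (qmk _ n) = ρ n := by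
  choose r hr using qmk_surj (zpowers z)
  have k : ∀ n : N(zpowers z), (n : G) ∈ N1 → ρ (r (qmk _ n)) = ρ n := fun n hn => by
    have := qmk_eq.1 (hr (qmk _ n)).symm
    rw [← mul_inv_cancel_left (n : G) (r _), h.mul' _ hn _ (cN x (h.Zle (h.zl this))), h.kz (h.zl this), mul_one]
  have s := fun u => (qmk_surj (zpowers z) u)
  have m1 : ∀ a ∈ N(zpowers (qmk _ ⟨x, h.xN⟩)), ∀ b ∈ N(zpowers (qmk _ ⟨x, h.xN⟩)), ρ (r (a * b)) = ρ (r a) * ρ (r b) :=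
    fun a ha b hb => by
      obtain ⟨a, rfl⟩ := s a
      obtain ⟨b, rfl⟩ := s b
      rw [h.qN] at ha hb
      rw [← map_mul, k _ ha, k _ hb, k _ (mul_mem ha hb), ← h.mul' _ ha _ hb]; rfl
  have x1 : qmk _ ⟨x, h.xN⟩ ≠ 1 := fun e => h.x1 (odd_two h.x3' (by decide) (h.t2z (qmk_eq_one.1 e)))
  have eC : C[qmk _ ⟨x, h.xN⟩] = H19.quo (zpowers z) C[x] := by
    ext a
    obtain ⟨a, rfl⟩ := s a
    rw [h.qC, qmk_mem_quo ((cN x).trans h.nz), sup_eq_right.2 (zpowers_le.2 h.zx)]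
  refine ⟨fun u => ρ (r u), ⟨⟨o3 (by rw [← map_pow]; exact (congrArg _ (Subtype.ext h.x3')).trans (map_one _)) x1,
    one_mul 1, one_mem _, fun a _ => mem_cent1.2 (by simp), fun a ha b hb => m1 a (cN _ ha) b (cN _ hb), fun a ha => ?_,
    fun a ha => ?_, fun m hm => ?_, ?_⟩, m1, fun a ha => ?_, fun m hm => ?_, fun a ha hm => ?_⟩, k⟩
  · obtain ⟨a, rfl⟩ := s a
    rw [h.qC] at ha
    rw [k _ (cN x ha), h.ker _ ha, one_mul, ← quo_zpowers, qmk_mem_quo (zpowers_le.2 h.xN)]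
    exact ⟨fun e => zpowers_le.2 (mul_mem (mem_sup_left (mem_zpowers z)) (mem_sup_right (mem_zpowers x))) e,
      fun e => sup_le h.zl (zpowers_le.2 h.xZ) e⟩
  · obtain ⟨a, rfl⟩ := s a
    rw [h.qC] at ha
    rw [k _ (cN x ha)]; exact h.mem _ ha
  · obtain ⟨a, ha, rfl⟩ := h.surj m hm
    exact ⟨qmk _ ⟨a, h.nz (cN x ha)⟩, h.qC.2 ha, k _ (cN x ha)⟩
  · rw [eC, ← quo_comm ((cN x).trans h.nz) ((cN x).trans h.nz)]; exact quo_mono _ h.perf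
  · obtain ⟨a, rfl⟩ := s a
    rw [h.qN] at ha
    rw [k _ ha]; exact h.mem' _ ha
  · obtain ⟨a, ha, rfl⟩ := h.surj' m hm
    exact ⟨qmk _ ⟨a, h.nz ha⟩, h.qN.2 ha, k _ ha⟩
  · obtain ⟨a, rfl⟩ := s a
    rw [h.qN] at ha
    exact h.qC.2 (h.inn _ ha (k _ ha ▸ hm))
end KN
end H26.J4
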