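import Cfsg.Agent.H26.J4.K0

/-! The basic configuration. -/

set_option autoImplicit false
set_option linter.unusedSectionVars false
set_option linter.unusedVariables false
set_option maxRecDepth 100000
open Subgroup H16 H19 H0 H0.TR H20.J4
open scoped commutatorElement
namespace H26.J4
variable {G : Type*} [Group G]
local notation "cj" => H19.cj

theorem zp_sq {y : G} (h : y ^ 3 = 1) : zpowers (y * y) = zpowers y := by
  rw [show y * y = y⁻¹ from eq_inv_of_mul_eq_one_left (pow_three' y ▸ h), zpowers_inv]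
theorem c_of_zp {u v : G} (h : zpowers u = zpowers v) : C[u] = C[v] := by rw [← cent_zpowers, h, cent_zpowers]
theorem irr4 [Finite G] {K J L : Subgroup G} {y : G} (h1 : K ≤ J) (h2 : J ≤ L) (c : #L = 4 * #K) (h3 : ¬ 3 ∣ #K)
    (y3 : y ^ 3 = 1) (n1 : y ∈ N(K)) (n2 : y ∈ N(J)) (e : J ⊓ C[y] ≤ K) : J = K ∨ J = L := by
  have m1 := fix_sub Nat.prime_three y3 n1
  have m2 := fix_sub Nat.prime_three y3 n2
  rw [show J ⊓ C[y] = K ⊓ C[y] from le_antisymm (le_inf e inf_le_right) (inf_le_inf_right _ h1)] at m2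
  obtain ⟨r, e1⟩ := card_dvd h1
  obtain ⟨q, e2⟩ := card_dvd h2
  have p := card_pos K
  have : r * q = 4 := Nat.eq_of_mul_eq_mul_left p (by rw [← mul_assoc, ← e1, ← e2, c, mul_comm])
  have l : r ≤ 4 := Nat.le_of_dvd (by decide) (Dvd.intro _ this)
  unfold Nat.ModEq at m1 m2
  interval_cases r
  · omega
  · exact .inl (eq_of_le_of_card_eq h1 (by omega)).symm
  · omega
  · omega
  · exact .inr (eq_of_le_of_card_eq h2 (by omega))
/-- two commuting elements of order `3` -/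
structure Pr (x a : G) : Prop where
  ox : orderOf x = 3
  a3 : a ^ 3 = 1
  c : a ∈ C[x]
  n : a ∉ zpowers x
namespace Pr
variable [Finite G] {x a : G} (h : Pr x a)
include h
local notation "A" => (zpowers x ⊔ zpowers a : Subgroup G)
theorem oa : orderOf a = 3 := o3 h.a3 fun e => h.n (e ▸ one_mem _)
theorem x3 : x ^ 3 = 1 := h.ox ▸ pow_orderOf_eq_one x
theorem cm : Commute x a := (mem_cent1.1 h.c).symm
theorem xA : x ∈ A := mem_sup_left (mem_zpowers x)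
theorem aA : a ∈ A := mem_sup_right (mem_zpowers a)
theorem card : #A = 9 := by
  rw [card_sup_of_disjoint (zpowers_le.2 (cN x h.c)) (by
    rw [inf_comm]; exact inf_eq_bot_of_prime (by rw [Nat.card_zpowers, h.oa]; norm_num) fun e => h.n (e (mem_zpowers _))),
    Nat.card_zpowers, Nat.card_zpowers, h.ox, h.oa]
theorem pg : PG 3 A := PiN.of_card_pow (k := 2) Nat.prime_three h.card
theorem cA : C(A) = C[x] ⊓ C[a] := by rw [cent_sup, cent_zpowers, cent_zpowers]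
theorem ab : A ≤ C(A) := h.cA ▸ le_inf (sup_le (zpowers_le.2 (mem_cent1_self x)) (zpowers_le.2 h.c))
  (sup_le (zpowers_le.2 (mem_cent1_symm.1 h.c)) (zpowers_le.2 (mem_cent1_self a)))
theorem mem {y : G} (hy : y ∈ A) : ∃ i < 3, ∃ j < 3, y = x ^ i * a ^ j := by
  obtain ⟨_, h3, _, h4, rfl⟩ := (mem_sup_of_norm (zpowers_le.2 (cN x h.c))).1 hy
  obtain ⟨i, hi, rfl⟩ := mem_zp_lt (by decide) h.x3 h3
  obtain ⟨j, hj, rfl⟩ := mem_zp_lt (by decide) h.a3 h4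
  exact ⟨i, hi, j, hj, rfl⟩
theorem y3 {y : G} (hy : y ∈ A) : y ^ 3 = 1 := by
  obtain ⟨i, -, j, -, rfl⟩ := h.mem hy
  rw [(h.cm.pow_pow i j).mul_pow, pow_right_comm, h.x3, pow_right_comm, h.a3]; simp
theorem cases {y : G} (hy : y ∈ A) (h1 : y ≠ 1) : ∃ u, (u = x ∨ u = a ∨ u = x * a ∨ u = x * x * a) ∧ (y = u ∨ y = u * u) := by
  obtain ⟨i, hi, j, hj, rfl⟩ := h.mem hy
  have e1 : x * a * (x * a) = x ^ 2 * a ^ 2 := by rw [← sq, h.cm.mul_pow]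
  have e2 : x * x * a * (x * x * a) = x ^ 1 * a ^ 2 := by
    rw [← sq, (h.cm.mul_left h.cm).mul_pow, ← sq, ← pow_mul, pow_succ x 3, h.x3, one_mul, pow_one]
  interval_cases i <;> interval_cases j
  · simp at h1
  · exact ⟨a, by simp, by simp⟩
  · exact ⟨a, by simp, by simp [sq]⟩
  · exact ⟨x, by simp, by simp⟩
  · exact ⟨x * a, by simp, by simp⟩
  · exact ⟨x * x * a, by simp, .inr e2.symm⟩
  · exact ⟨x, by simp, by simp [sq]⟩
  · exact ⟨x * x * a, by simp, by simp [sq]⟩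
  · exact ⟨x * a, by simp, .inr e1.symm⟩
theorem gen {K L : Subgroup G} (hn : A ≤ N(K)) (hK : PiG {3}ᶜ K) (k : ∀ y ∈ A, y ≠ 1 → K ⊓ C[y] ≤ L) : K ≤ L :=
  le_of_cent1_le (comm_iff_le_cent.2 h.ab) (fun c => by
    obtain ⟨y, e⟩ := cyc_iff.1 c
    have := orderOf_dvd_of_pow_eq_one (h.y3 (e.le (mem_zpowers y)))
    rw [← Nat.card_zpowers, e, h.card] at this
    exact absurd this (by decide)) hn (hK.coprime' h.pg) k
theorem gen4 {K L : Subgroup G} (hn : A ≤ N(K)) (hK : PiG {3}ᶜ K) (k1 : K ⊓ C[x] ≤ L) (k2 : K ⊓ C[a] ≤ L)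
    (k3 : K ⊓ C[x * a] ≤ L) (k4 : K ⊓ C[x * x * a] ≤ L) : K ≤ L := h.gen hn hK fun y hy h1 => by
  obtain ⟨u, hu, e⟩ := h.cases hy h1
  have u3 : u ^ 3 = 1 := h.y3 (by
    rcases hu with rfl | rfl | rfl | rfl
    exacts [h.xA, h.aA, mul_mem h.xA h.aA, mul_mem (mul_mem h.xA h.xA) h.aA])
  rw [show C[y] = C[u] from e.elim (fun e => by rw [e]) fun e => e ▸ c_of_zp (zp_sq u3)]
  rcases hu with rfl | rfl | rfl | rfl <;> assumption
theorem nA {n : G} (h1 : n * x * n⁻¹ ∈ A) (h2 : n * a * n⁻¹ ∈ A) : n ∈ N(A) := mem_norm_of_cj_le (by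
  rw [cj_sup, cj_zpowers, cj_zpowers]; exact sup_le (zpowers_le.2 h1) (zpowers_le.2 h2))
end Pr
theorem pg23 {K : Subgroup G} (h : PG 2 K) : PiG {3}ᶜ K := h.sing_ne (by decide)

/-- the basic configuration -/
structure Cf (x z : G) (ρ : G → GPm) (a b s t σ : G) : Prop extends KN x z ρ where
  ax : a ∈ C[x]
  ρa : ρ a = va
  a3 : a ^ 3 = 1
  tx : t ∈ C[x]
  ρt : ρ t = vt
  tb : t * a * t⁻¹ = b
  ba : b * a * b⁻¹ = x * a
  sx : s ∈ C[x]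
  ρs : ρ s = vs
  s2 : T2 s
  sa : s * a * s⁻¹ = a⁻¹
  σx : σ * x * σ⁻¹ = a
  σa : σ * a * σ⁻¹ = x

namespace KN
variable [Finite G] {x z : G} {ρ : G → GPm} (h : KN x z ρ)
include h
theorem nx {a : G} (e : ρ a ≠ 1) : a ∉ zpowers x := fun k => e (h.kz (zpowers_le.2 h.xZ k))
theorem c27 {a b : G} (ha : a ∈ C[x]) (ea : ρ a = va) (hb : b ∈ C[x]) (eb : ρ b = vb) {P : Subgroup G} (hP : P ≤ C[x])
    (h1 : x ∈ P) (h2 : a ∈ P) (h3 : b ∈ P) : 27 ∣ #P := by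
  rw [← h.card_im (hP.trans (cN x))]
  exact Nat.mul_dvd_mul (card9 ▸ card_dvd (sup_le (zpowers_le.2 (ea ▸ h.im_of h2 (cN x ha)))
    (zpowers_le.2 (eb ▸ h.im_of h3 (cN x hb))))) (h.cP ▸ card_dvd (zpowers_le.2 (mem_inf.2 ⟨h1, h.xZ⟩)) : 3 ∣ _)
theorem abs {y : G} (hy : y ∈ C[x]) (y3 : y ^ 3 = 1) (n : y ∉ zpowers x) : ∃ a b s t, a ∈ C[x] ∧ ρ a = va ∧ a ^ 3 = 1 ∧
    t ∈ C[x] ∧ ρ t = vt ∧ t * a * t⁻¹ = b ∧ (b * a * b⁻¹ = x * a ∨ b * a * b⁻¹ = x⁻¹ * a) ∧ s ∈ C[x] ∧ ρ s = vs ∧ T2 s ∧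
    s * a * s⁻¹ = a⁻¹ := by
  obtain ⟨k, hk', e⟩ := cls3 (h.mem y hy) (h.o3ρ hy y3 n)
  obtain ⟨k, hk, rfl⟩ := h.surj k hk'
  rw [← h.conj hk hy] at e
  replace hy := cjm hk hy
  replace y3 := cj_pow1 (a := k) y3
  generalize k * y * k⁻¹ = c at e hy y3
  obtain ⟨s, hs, es, s2⟩ := h.lift2' sM (t2_sq ss)
  obtain ⟨t, ht, et⟩ := h.surj _ tM
  have cc : Commute (s * c * s⁻¹) c⁻¹ := by
    have c1 : Commute x c⁻¹ := Commute.inv_right (mem_cent1.1 hy).symm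
    rcases h.eq3 (cjm hs hy) (inv_mem hy) (cj_pow1 y3) (by rw [inv_pow, y3, inv_one])
      (by rw [h.conj hs hy, h.inv hy, es, e, sa]) with k | k | k <;> rw [k]
    exacts [c1.mul_left rfl, (c1.mul_left c1).mul_left rfl]
  have ha := mul_mem (cjm hs hy) (inv_mem hy)
  have ea : ρ (s * c * s⁻¹ * c⁻¹) = va := by
    rw [h.mul _ (cjm hs hy) _ (inv_mem hy), h.conj hs hy, h.inv hy, es, e, sa, ← mul_inv_rev, inv_eq_iff_mul_eq_one,
      ← pow_three', a3]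
  have a3' : (s * c * s⁻¹ * c⁻¹) ^ 3 = 1 := by rw [cc.mul_pow, cj_pow1 y3, inv_pow, y3]; simp
  have sa' : s * (s * c * s⁻¹ * c⁻¹) * s⁻¹ = (s * c * s⁻¹ * c⁻¹)⁻¹ := by
    have := h.Zc ((h.ker _ (mul_mem hs hs)).1 (by rw [h.mul _ hs _ hs, es, ss])) hy
    rw [show s * (s * c * s⁻¹ * c⁻¹) * s⁻¹ = s * s * c * (s * s)⁻¹ * (s * c⁻¹ * s⁻¹) by group, ← this]; group
  generalize s * c * s⁻¹ * c⁻¹ = a at *
  have hb := cjm ht ha
  have eb : ρ (t * a * t⁻¹) = vb := by rw [h.conj ht ha, et, ea, tab]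
  have b3' := cj_pow1 (a := t) a3'
  refine ⟨a, _, s, t, ha, ea, a3', ht, et, rfl, ?_, hs, es, s2, sa'⟩
  generalize t * a * t⁻¹ = b at *
  have p : Pr x a := ⟨h.x3, a3', ha, h.nx (ea ▸ a1)⟩
  rcases h.eq3 (cjm hb ha) ha (cj_pow1 a3') a3' (by rw [h.conj hb ha, ea, eb, ← ab, mul_inv_cancel_right]) with k | k | k
  · have l : zpowers x ⊔ zpowers a ≤ C[b] := le_cent1_iff.2 (p.cA.ge ⟨hb, of_cjc k⟩)
    have l2 := sup_le (p.ab.trans (p.cA.le.trans inf_le_left)) (zpowers_le.2 hb)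
    have pg := p.pg.sup (pg_of_pow Nat.prime_three fun u hu => by
      obtain ⟨i, -, rfl⟩ := mem_zp_lt (by decide) b3' hu; rw [pow_right_comm, b3', one_pow])
      (zpowers_le.2 (cent_le_norm _ (le_cent1_iff.1 l)))
    obtain ⟨P, hP, l1⟩ := pg.exists_syl l2
    obtain ⟨e1, -, c, -⟩ := h.syl hP
    rw [← eq_of_le_of_card_ge l1 (c ▸ Nat.le_of_dvd (card_pos _) (h.c27 ha ea hb eb l2 (mem_sup_left p.xA) (mem_sup_left p.aA)
      (mem_sup_right (mem_zpowers b))))] at e1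
    exact absurd (e1.le ⟨mem_sup_left p.aA, le_cent1_iff.1 (sup_le (p.ab.trans (p.cA.le.trans inf_le_right))
      (zpowers_le.2 (of_cjc k)))⟩) p.n
  · exact .inl k
  · exact .inr (by rw [k, show x * x = x⁻¹ from eq_inv_of_mul_eq_one_left (pow_three' x ▸ h.x3')])
theorem sig {g a : G} (hg : g * x * g⁻¹ ∈ C[x]) (n : g * x * g⁻¹ ∉ zpowers x) (ha : a ∈ C[x]) (a3 : a ^ 3 = 1)
    (na : a ∉ zpowers x) : ∃ σ, σ * x * σ⁻¹ = a ∧ σ * a * σ⁻¹ = x := by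
  obtain ⟨k, hk, e⟩ := h.cl3 hg (cj_pow1 h.x3') n ha a3 na
  rw [cjcj] at e
  generalize k * g = g at e
  obtain ⟨c, hc, e1⟩ := h.cl3 ha a3 na (w := g⁻¹ * x * g⁻¹⁻¹) (by
    simpa [← e, mul_assoc] using cent_cj (a := g⁻¹) (mem_cent1_symm.1 ha)) (cj_pow1 h.x3') fun k => na (by
      have := (zp_prime (by norm_num) h.x3 k (cj_ne1 h.x1)).2
      rw [← cj_zpowers] at this
      exact e ▸ conj_mem_of_norm (inv_mem_iff.1 (mem_norm_iff_cj.2 this)) (mem_zpowers x))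
  exact ⟨g * c, by rw [← cjcj, cjc hc, e], by rw [← cjcj, e1]; group⟩
theorem cf {g : G} (hg : g * x * g⁻¹ ∈ C[x]) (n : g * x * g⁻¹ ∉ zpowers x) : ∃ x' a b s t σ, Cf x' z ρ a b s t σ := by
  obtain ⟨a, b, s, t, h1, h2, h3, h4, h5, h6, h7, h8, h9, h10, h11⟩ := h.abs hg (cj_pow1 h.x3') n
  have na := h.nx (h2 ▸ a1)
  rcases h7 with h7 | h7
  · obtain ⟨σ, k1, k2⟩ := h.sig hg n h1 h3 na
    exact ⟨x, a, b, s, t, σ, h, h1, h2, h3, h4, h5, h6, h7, h8, h9, h10, h11, k1, k2⟩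
  have e1 : C[x⁻¹] = C[x] := c_of_zp zpowers_inv
  obtain ⟨σ, k1, k2⟩ := h.inv_kn.sig (g := g) (by rw [e1, ← conj_inv]; exact inv_mem hg)
    (by rwa [zpowers_inv, ← conj_inv, inv_mem_iff]) (e1 ▸ h1) h3 (by rwa [zpowers_inv])
  exact ⟨x⁻¹, a, b, s, t, σ, h.inv_kn, e1 ▸ h1, h2, h3, e1 ▸ h4, h5, h6, h7, e1 ▸ h8, h9, h10, h11, k1, k2⟩
end KN
theorem K5.cf [Finite G] {x z g : G} {ξ : G → GPm} (h : K5 x z ξ) (hg : g * x * g⁻¹ ∈ C[x]) (n : g * x * g⁻¹ ∉ zpowers x) :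
    ∃ x' ρ a b s t σ, Cf x' z ρ a b s t σ := by
  obtain ⟨y, -, e⟩ := h.real hg ((orderOf_conj' g x).trans h.x3) n
  obtain ⟨ρ, k⟩ := h.rho (t := g⁻¹ * y * g) (by simpa [mul_assoc] using congrArg (g⁻¹ * · * g) e)
  obtain ⟨x', a, b, s, t, σ, k⟩ := k.cf hg n
  exact ⟨x', ρ, a, b, s, t, σ, k⟩
end H26.J4
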