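import Cfsg.Agent.H26.J4.K1

/-! Conjugates of the central involution. -/

set_option autoImplicit false
set_option linter.unusedSectionVars false
set_option linter.unusedVariables false
set_option maxRecDepth 100000
open Subgroup H16 H19 H0 H0.TR H20.J4
open scoped commutatorElement
namespace H26.J4
variable {G : Type*} [Group G]
local notation "cj" => H19.cj

theorem orb4 [Finite G] {K : Subgroup G} {y u v : G} (c : #K = 4) (y3 : y ^ 3 = 1) (n : y ∈ N(K)) (e : K ⊓ C[y] = ⊥)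
    (hu : u ∈ K) (u1 : u ≠ 1) (hv : v ∈ K) (v1 : v ≠ 1) : v = u ∨ v = y * u * y⁻¹ ∨ v = y * (y * u * y⁻¹) * y⁻¹ := by
  have k : ∀ w ∈ K, w ≠ 1 → y * w * y⁻¹ ≠ w := fun w hw w1 e1 => w1 (e.le ⟨hw, mem_cent1_symm.1 (of_cjc e1)⟩)
  have m1 := conj_mem_of_norm n hu
  have m2 := conj_mem_of_norm n m1
  have e3 : y * (y * (y * u * y⁻¹) * y⁻¹) * y⁻¹ = u := by
    rw [cjcj, cjcj, ← pow_three', y3]; simp
  have : ({1, u, y * u * y⁻¹, y * (y * u * y⁻¹) * y⁻¹} : Set G) = K := Set.eq_of_subset_of_ncard_le (by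
    rintro _ (rfl | rfl | rfl | rfl); exacts [one_mem _, hu, m1, m2]) (by
      rw [← Nat.card_coe_set_eq, SetLike.coe_sort_coe, c, Set.ncard_insert_of_notMem, Set.ncard_insert_of_notMem,
        Set.ncard_pair (k _ m1 (cj_ne1 u1)).symm]
      · rintro (e1 | e1)
        exacts [k u hu u1 e1.symm, k _ m2 (cj_ne1 (cj_ne1 u1)) (e3.trans e1)]
      · rintro (e1 | e1 | e1)
        exacts [u1 e1.symm, cj_ne1 u1 e1.symm, cj_ne1 (cj_ne1 u1) e1.symm])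
  exact (this.ge hv).resolve_left v1
theorem tr3 {y u : G} (y3 : y ^ 3 = 1) (c1 : Commute u (y * u * y⁻¹)) (c2 : Commute u (y * (y * u * y⁻¹) * y⁻¹)) :
    u * (y * u * y⁻¹) * (y * (y * u * y⁻¹) * y⁻¹) ∈ C[y] := mem_cent1_symm.1 (of_cjc (by
  rw [← conj_mul, ← conj_mul, show y * (y * (y * u * y⁻¹) * y⁻¹) * y⁻¹ = u by rw [cjcj, cjcj, ← pow_three', y3]; simp,
    (c1.mul_right c2).eq.symm, mul_assoc u]))
theorem cp3 {K : Subgroup G} {y : G} (hK : PG 2 K) (y3 : y ^ 3 = 1) : (#K).Coprime #(zpowers y) :=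
  hK.coprime (PiN.of_not_dvd fun d => absurd (d.trans (Nat.card_zpowers y ▸ orderOf_dvd_of_pow_eq_one y3)) (by decide))
theorem ab_sq {K : Subgroup G} (h : ∀ c ∈ K, c * c = 1) : K ≤ C(K) := fun _ hc => mem_cent.2 fun _ hd => comm_of_sq h hd hc

namespace KN
variable [Finite G] {x z : G} {ρ : G → GPm} (h : KN x z ρ)
include h
theorem cent3 {c y : G} (hc : c ∈ C[x]) (c2 : c * c = 1) (hy : y ∈ C[x]) (y3 : y ^ 3 = 1) (e : ρ c ∈ C[ρ y]) : c ∈ C[y] := by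
  have e2 : c * (c * y * c⁻¹) * c⁻¹ = y := by rw [cjcj, c2]; simp
  rcases h.eq3 (cjm hc hy) hy (cj_pow1 y3) y3 (by rw [h.conj hc hy, cjc e]) with k | k | k
  · exact of_cjc k
  · rw [k, ← conj_mul, cjc hc, k, ← mul_assoc, mul_eq_right, mul_eq_one_iff_eq_inv] at e2
    exact absurd e2 h.xne
  · rw [k, ← conj_mul, ← conj_mul, cjc hc, k, ← mul_assoc, mul_eq_right, ← mul_assoc, ← pow_three', h.x3', one_mul] at e2
    exact absurd e2 h.x1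
theorem zy {n m : G} (e : zpowers (n * x * n⁻¹) = zpowers (m * x * m⁻¹)) : n * z * n⁻¹ = m * z * m⁻¹ := by
  have := cjc (h.NH (mem_norm_iff_cj.2 (show cj (m⁻¹ * n) (zpowers x) = zpowers x by
    rw [cj_mul, cj_zpowers, e, ← cj_zpowers, cj_inv_cj])))
  simpa [mul_assoc] using congrArg (m * · * m⁻¹) this
end KN
namespace Cf
variable [Finite G] {x z a b s t σ : G} {ρ : G → GPm} (h : Cf x z ρ a b s t σ)
include h
local notation "Z6" => zpowers (z * x)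
local notation "N1" => N(zpowers x)
set_option quotPrecheck false in
local notation "ζ" => #(zpowers z)
local notation "A" => (zpowers x ⊔ zpowers a : Subgroup G)
local notation "E" => KN.L2 (Cf.toKN h) EE
local notation "U" => KN.L2 (Cf.toKN h) EU
local notation "B" => KN.L2 (Cf.toKN h) VV
local notation "z₂" => σ * z * σ⁻¹
theorem bx : b ∈ C[x] := h.tb ▸ cjm h.tx h.ax
theorem ρb : ρ b = vb := by rw [← h.tb, h.conj h.tx h.ax, h.ρt, h.ρa, tab]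
theorem b3 : b ^ 3 = 1 := h.tb ▸ cj_pow1 h.a3
theorem p : Pr x a := ⟨h.x3, h.a3, h.ax, h.nx (h.ρa ▸ a1)⟩
theorem xa : x ∈ C[a] := mem_cent1_symm.1 h.ax
theorem aN : a ∈ N1 := cN x h.ax
theorem bN : b ∈ N1 := cN x h.bx
theorem sN : s ∈ N1 := cN x h.sx
theorem tN : t ∈ N1 := cN x h.tx
theorem xN1 : x ∈ N1 := le_normalizer (mem_zpowers x)
theorem AC : A ≤ C[x] := h.p.ab.trans (h.p.cA.le.trans inf_le_left)
theorem σA : σ ∈ N(A) := h.p.nA (h.σx.symm ▸ h.p.aA) (h.σa.symm ▸ h.p.xA)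
theorem bA : b ∈ N(A) := h.p.nA ((cjc h.bx).symm ▸ h.p.xA) (h.ba.symm ▸ mul_mem h.p.xA h.p.aA)
theorem sA : s ∈ N(A) := h.p.nA ((cjc h.sx).symm ▸ h.p.xA) (h.sa.symm ▸ inv_mem h.p.aA)
theorem e3 : b * σ * x * (b * σ)⁻¹ = x * a := by rw [← cjcj, h.σx, h.ba]
theorem e4 : b * (b * σ) * x * (b * (b * σ))⁻¹ = x * x * a := by rw [← cjcj, h.e3, ← conj_mul, cjc h.bx, h.ba, mul_assoc]
theorem σC : cj σ C[x] = C[a] := by rw [cj_cent1, h.σx]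
theorem σC' : cj σ C[a] = C[x] := by rw [cj_cent1, h.σa]
theorem σσ : σ * σ ∈ C[x] := of_cjc (by rw [← cjcj, h.σx, h.σa])
theorem σz : σ * (z₂) * σ⁻¹ = z := by rw [cjcj, cjc (h.zC h.σσ)]
theorem inx : σ * s * σ⁻¹ * x * (σ * s * σ⁻¹)⁻¹ = x⁻¹ := by rw [← h.σa, conj_inv, conj_mul, conj_mul, h.sa, ← conj_inv]
theorem inN : σ * s * σ⁻¹ ∈ N1 := mem_norm_iff_cj.2 (by rw [cj_zpowers, h.inx, zpowers_inv])
theorem inA : σ * s * σ⁻¹ ∈ N(A) := cjm h.σA h.sA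
theorem cas {y : G} (hy : y ∈ A) (h1 : y ≠ 1) : ∃ n, (n = 1 ∨ n = σ ∨ n = b * σ ∨ n = b * (b * σ)) ∧ n ∈ N(A) ∧
    (y = n * x * n⁻¹ ∨ y = n * x⁻¹ * n⁻¹) := by
  obtain ⟨u, hu, e⟩ := h.p.cases hy h1
  obtain ⟨n, h1, h2, rfl⟩ : ∃ n, (n = 1 ∨ n = σ ∨ n = b * σ ∨ n = b * (b * σ)) ∧ n ∈ N(A) ∧ n * x * n⁻¹ = u := by
    rcases hu with rfl | rfl | rfl | rfl
    exacts [⟨1, .inl rfl, one_mem _, by simp⟩, ⟨σ, by simp, h.σA, h.σx⟩, ⟨_, by simp, mul_mem h.bA h.σA, h.e3⟩,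
      ⟨_, by simp, mul_mem h.bA (mul_mem h.bA h.σA), h.e4⟩]
  exact ⟨n, h1, h2, e.imp_right fun e => by
    rw [e, conj_mul, show x * x = x⁻¹ from eq_inv_of_mul_eq_one_left (pow_three' x ▸ h.x3')]⟩
theorem trA {y : G} (hy : y ∈ A) (h1 : y ≠ 1) : ∃ n ∈ N(A), n * x * n⁻¹ = y := by
  obtain ⟨n, -, hn, rfl | rfl⟩ := h.cas hy h1
  exacts [⟨n, hn, rfl⟩, ⟨_, mul_mem hn h.inA, by rw [← cjcj, h.inx]⟩]
theorem sylP : Syl 3 (A ⊔ zpowers b) C[x] := by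
  have l := sup_le h.AC (zpowers_le.2 h.bx)
  obtain ⟨P, hP, l1⟩ := (h.p.pg.sup (pg_of_pow Nat.prime_three fun u hu => by
    obtain ⟨i, -, rfl⟩ := mem_zp_lt (by decide) h.b3 hu; rw [pow_right_comm, h.b3, one_pow]) (zpowers_le.2 h.bA)).exists_syl l
  rwa [eq_of_le_of_card_ge l1 ((h.syl hP).2.2.1 ▸ Nat.le_of_dvd (card_pos _) (h.c27 h.ax h.ρa h.bx h.ρb l
    (mem_sup_left h.p.xA) (mem_sup_left h.p.aA) (mem_sup_right (mem_zpowers b))))]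
theorem zP {u : G} {P : Subgroup G} (hu : u ∈ C[x]) (u2 : T2 u) (hP : Syl 3 P C[x]) (l : P ≤ C[u]) : u ∈ zpowers z := by
  obtain ⟨k, hk, e⟩ := hP.sconj h.sylP
  have l1 := e ▸ cj_cent1 k u ▸ cj_mono k l
  have h1 := cjm hk hu
  have c : ∀ {y}, y ∈ A ⊔ zpowers b → ρ (k * u * k⁻¹) ∈ C[ρ y] := fun hy => mem_cent1.2 (by
    rw [← h.mul _ h1 _ (h.sylP.le hy), ← h.mul _ (h.sylP.le hy) _ h1, mem_cent1.1 (l1 hy)])
  have c1 := h.ρa ▸ c (mem_sup_left h.p.aA)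
  have := h.z2 ((h.ker _ h1).1 (Ec (i := 1) (j := 1) (VE (FA1 (h.mem _ h1) c1 ((u2.cj k).imp fun m e => by
    rw [← h.pow h1, e, h.one]))) (by simp) (by simp) (by
      simpa using mem_cent1_symm.1 (mul_mem (mem_cent1_symm.1 c1) (mem_cent1_symm.1 (h.ρb ▸ c (mem_sup_right (mem_zpowers b))))))))
    (u2.cj k)
  simpa [mul_assoc] using conj_mem_of_norm (inv_mem (h.nz (cN x hk))) this
theorem ZA {u : G} (hz : IsConj z u) (h1 : u ∈ C[x]) (h2 : u ∈ C[a]) :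
    u = z ∨ u = z₂ ∨ u = b * (z₂) * b⁻¹ ∨ u = b * (b * (z₂) * b⁻¹) * b⁻¹ := by
  obtain ⟨k, rfl⟩ := isConj_iff.1 hz
  obtain ⟨P, hP, l⟩ := h.p.pg.exists_syl (le_cent1_iff.2 (h.p.cA.ge ⟨h1, h2⟩))
  obtain ⟨e1, -, c, sT⟩ := h.syl h.sylP
  have sP : Syl 3 P ⊤ := sT.of_card_dvd le_top hP.pi (by
    rw [← card_cj k]; exact hP.card_dvd (cj_cent1 k z ▸ cj_mono k (h.sylP.le.trans h.zC)) (h.sylP.pi.J k))
  obtain ⟨m, -, rfl⟩ := sT.sconj sP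
  have e2 := congrArg (cj m) e1
  rw [cj_inf, cj_cent, cj_zpowers] at e2
  have m1 := e2.ge (mem_zpowers _)
  have yA : m * x * m⁻¹ ∈ A := by_contra fun n => by
    have l1 := le_cent1_iff.2 (cent_mono l m1.2)
    have : A ⊔ zpowers (m * x * m⁻¹) = cj m (A ⊔ zpowers b) := eq_of_le_of_card_eq (sup_le l (zpowers_le.2 m1.1)) (by
      rw [card_sup_of_disjoint (zpowers_le.2 (cent_le_norm _ (cent_mono l m1.2))) (by
        rw [inf_comm]; exact inf_eq_bot_of_prime (by rw [← cj_zpowers, card_cj, h.cP]; norm_num) fun e => n (e (mem_zpowers _))),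
        ← cj_zpowers, card_cj, card_cj, h.p.card, h.cP, c])
    have := card_le (le_inf l (this ▸ cents_sup h.p.ab (l1.trans (cent_zpowers _).ge)) |>.trans e2.le)
    rw [h.p.card, ← cj_zpowers, card_cj, h.cP] at this
    omega
  obtain ⟨n, hn, -, e⟩ := h.cas yA (cj_ne1 h.x1)
  have e3 : m * z * m⁻¹ = n * z * n⁻¹ := h.zy (by
    rcases e with e | e <;> rw [e]; rw [← conj_inv, zpowers_inv])
  have u1 : m⁻¹ * (k * z * k⁻¹) * m⁻¹⁻¹ ∈ zpowers z := h.zP (by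
      simpa [mul_assoc] using cent_cj (a := m⁻¹) (mem_cent1_symm.1 (hP.le m1.1))) (((t2_sq h.zz).cj k).cj _) h.sylP
    (by rw [← cj_cent1, le_cj_iff, inv_inv]; exact hP.le)
  have : k * z * k⁻¹ = n * z * n⁻¹ := by
    rcases (mem_zpowers_inv h.zz).1 u1 with e | e
    · simp [conj_eq_one_iff.1 (conj_eq_one_iff.1 e)]
    · rw [← e3]; simpa [mul_assoc] using congrArg (m * · * m⁻¹) e
  rw [this]
  rcases hn with rfl | rfl | rfl | rfl <;> simp [mul_assoc]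
theorem az : C[a] ≤ C[z₂] := by rw [← h.σC, ← cj_cent1]; exact cj_mono σ h.zC
theorem zx2 : z₂ ∈ C[x] := mem_cent1_symm.1 (h.az h.xa)
theorem za2 : z₂ ∈ C[a] := h.σC ▸ conj_mem_cj.2 h.zx
theorem zz2 : z₂ * (z₂) = 1 := cj_sq1 h.zz
theorem t2ρ {c : G} (hc : c ∈ N1) (e : T2 c) : T2 (ρ c) := e.imp fun m e => by rw [← h.pow' hc, e, h.one]
theorem cρ {c d : G} (hc : c ∈ N1) (hd : d ∈ N1) (e : c ∈ C[d]) : ρ c ∈ C[ρ d] := mem_cent1.2 (by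
  rw [← h.mul' _ hc _ hd, ← h.mul' _ hd _ hc, mem_cent1.1 e])
theorem sz2 : s ∈ C[z₂] := by
  have := cent_cj (a := σ) (h.NH (mul_mem (mul_mem (inv_mem (cN x h.σσ)) h.inN) (cN x h.σσ)))
  simpa [mul_assoc] using this
theorem ρz2 (n : z₂ ≠ z) : ρ (z₂) = v0 := (V1 (FA1 (h.mem _ h.zx2) (h.ρa ▸ h.cρ (cN x h.zx2) h.aN h.za2)
    (h.t2ρ (cN x h.zx2) (t2_sq h.zz2))) (h.ρs ▸ h.cρ (cN x h.zx2) h.sN (mem_cent1_symm.1 h.sz2))).resolve_left fun e =>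
  n (((mem_zpowers_inv h.zz).1 (h.z2 ((h.ker _ h.zx2).1 e) (t2_sq h.zz2))).elim (fun e => by simp [conj_eq_one_iff.1 e]) id)
theorem nz12 (n : z₂ ≠ z) : ¬ IsConj z (z₂ * z) := fun e => by
  have z1 : z ≠ 1 := fun e => n (by simp [e])
  have cb : ∀ {u v}, u * z = v → b * u * b⁻¹ * z = b * v * b⁻¹ := fun e => by rw [← e, ← conj_mul, cjc (h.zC h.bx)]
  have b3 : ∀ u, b * (b * (b * u * b⁻¹) * b⁻¹) * b⁻¹ = u := fun u => by rw [cjcj, cjcj, ← pow_three', h.b3]; simp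
  have := h.ZA e (mul_mem h.zx2 h.zx) (mul_mem h.za2 (mem_cent1_symm.1 (h.zC h.ax)))
  have w1 : z₂ ≠ 1 := cj_ne1 z1
  generalize z₂ = w at this w1
  rcases this with e | e | e | e
  · exact w1 (mul_eq_right.1 e)
  · exact z1 (mul_eq_left.1 e)
  · have e1 := cb e
    rw [← e, mul_assoc, h.zz, mul_one, e] at e1
    have e2 := b3 w
    rw [← e1, ← e] at e2
    exact z1 (mul_eq_left.1 e2)
  · have e1 := cb (cb e)
    rw [b3, ← e, mul_assoc, h.zz, mul_one] at e1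
    rw [← e1, ← e1, mul_eq_left] at e
    exact z1 e
variable (β : z = 1 ∨ σ * z * σ⁻¹ ≠ z)
include β
theorem LP {c : G} (hc : c ∈ C[x]) (c2 : T2 c) (e : ρ c * ρ c = 1) : c * c = 1 := by
  rcases β with rfl | n
  · simpa using h.z2 ((h.ker _ (mul_mem hc hc)).1 (by rw [h.mul _ hc _ hc, e])) (sq c ▸ t2_pow c2 2)
  by_cases e1 : ρ c = 1
  · rcases (mem_zpowers_inv h.zz).1 (h.z2 ((h.ker c hc).1 e1) c2) with rfl | rfl
    exacts [one_mul 1, h.zz]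
  obtain ⟨m, hm, e2⟩ := cls2 (h.mem c hc) e e1 vM vv v1
  obtain ⟨k, hk, rfl⟩ := h.surj' m hm
  rw [← conj_eq_one_iff (a := k), ← conj_mul]
  rcases h.eq2 (h.cjC hk hc) h.zx2 (c2.cj k) (t2_sq h.zz2) (by rw [h.conj' hk (cN x hc), e2, h.ρz2 n]) with e | e <;> rw [e]
  exacts [h.zz2, by rw [(show Commute (z₂) z from mem_cent1.1 (h.zC h.zx2)).symm.mul_mul_mul_comm, h.zz2, h.zz, one_mul]]
theorem LP2 {c d : G} (hc : c ∈ C[x]) (hd : d ∈ C[x]) (c2 : c * c = 1) (d2 : d * d = 1) (e : ρ c ∈ C[ρ d]) : c ∈ C[d] := by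
  have m := mul_mem hc hd
  have ρ2 : ∀ c ∈ C[x], c * c = 1 → ρ c * ρ c = 1 := fun c hc e => by rw [← h.mul _ hc _ hc, e, h.one]
  have e1 : ρ (c * d) * ρ (c * d) = 1 := by
    rw [h.mul _ hc _ hd, (show Commute (ρ c) (ρ d) from mem_cent1.1 e).symm.mul_mul_mul_comm, ρ2 c hc c2, ρ2 d hd d2, one_mul]
  have := h.Zc ((h.ker _ (mul_mem m m)).1 (by rw [h.mul _ m _ m, e1])) hc
  have e2 := h.LP β m (T2.of (m := 1) (pow_two _) (by
    calc _ = c * (c * (c * d * (c * d))) * (c * d * (c * d)) := by rw [← mul_assoc c c, c2, one_mul]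
      _ = c * (c * d * (c * (d * (c * c) * d) * c) * d) := by rw [this]; group
      _ = 1 := by simp [c2, d2, mul_assoc])) e1
  rw [mem_cent1, ← inv_eq_of_mul_eq_one_right e2, mul_inv_rev, inv_eq_of_mul_eq_one_right c2, inv_eq_of_mul_eq_one_right d2]
theorem Z1 {u : G} (hu : u ∈ C[x]) (u2 : u * u = 1) (n : u ∉ zpowers z) (z1 : z ≠ 1) : IsConj z u ↔ ¬ IsConj z (u * z) := by
  have n2 := β.resolve_left z1
  obtain ⟨m, hm, e2⟩ := cls2 (h.mem u hu) (by rw [← h.mul _ hu _ hu, u2, h.one])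
    (fun e => n (h.z2 ((h.ker u hu).1 e) (t2_sq u2))) vM vv v1
  obtain ⟨k, hk, rfl⟩ := h.surj' m hm
  have c : ∀ w, IsConj z w ↔ IsConj z (k * w * k⁻¹) := fun w =>
    ⟨fun e => e.trans (isConj_iff.2 ⟨k, rfl⟩), fun e => e.trans (isConj_iff.2 ⟨k, rfl⟩).symm⟩
  have c2 : IsConj z (z₂) := isConj_iff.2 ⟨σ, rfl⟩
  rw [c u, c (u * z), ← conj_mul, cjc (h.NH hk)]
  rcases h.eq2 (h.cjC hk hu) h.zx2 ((t2_sq u2).cj k) (t2_sq h.zz2) (by rw [h.conj' hk (cN x hu), e2, h.ρz2 n2]) with e | e <;>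
    rw [e]
  exacts [iff_of_true c2 (h.nz12 n2), iff_of_false (h.nz12 n2) (not_not.2 (by rwa [mul_assoc, h.zz, mul_one]))]
end Cf
end H26.J4
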