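import Cfsg.Agent.H26.J4.K2

/-! The elementary abelian subgroup and its fusion. -/

set_option autoImplicit false
set_option linter.unusedSectionVars false
set_option linter.unusedVariables false
set_option maxRecDepth 100000
open Subgroup H16 H19 H0 H0.TR H20.J4
open scoped commutatorElement
namespace H26.J4
variable {G : Type*} [Group G]
local notation "cj" => H19.cj

namespace Cf
variable [Finite G] {x z a b s t σ : G} {ρ : G → GPm} (h : Cf x z ρ a b s t σ)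
include h
local notation "Z6" => zpowers (z * x)
local notation "N1" => N(zpowers x)
set_option quotPrecheck false in
local notation "ζ" => #(zpowers z)
local notation "A" => (zpowers x ⊔ zpowers a : Subgroup G)
local notation "E" => KN.L2 (Cf.toKN h) EE
local notation "U" => KN.L2 (Cf.toKN h) EU
local notation "B" => KN.L2 (Cf.toKN h) VV
local notation "z₂" => σ * z * σ⁻¹
local notation "V" => ⁅E, zpowers b⁆
local notation "W₁" => ⁅E, zpowers a⁆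
variable (β : z = 1 ∨ σ * z * σ⁻¹ ≠ z)
theorem mE {c : G} : c ∈ E ↔ c ∈ C[x] ∧ ρ c ∈ EE ∧ T2 c := h.mem_L2 EM pgE
theorem mU {c : G} : c ∈ U ↔ c ∈ C[x] ∧ ρ c ∈ EU ∧ T2 c := h.mem_L2 UM pgU
theorem mB {c : G} : c ∈ B ↔ c ∈ C[x] ∧ ρ c ∈ VV ∧ T2 c := h.mem_L2 (VE.trans EM) pgV
theorem nE : #E = 16 * ζ := J4.nE ▸ h.card_L2 EM pgE
theorem nU : #U = 64 * ζ := J4.nU ▸ h.card_L2 UM pgU
theorem nB : #B = 4 * ζ := nV ▸ h.card_L2 (VE.trans EM) pgV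
theorem pE : PG 2 E := h.L2_pg _
theorem pU : PG 2 U := h.L2_pg _
theorem BE : B ≤ E := fun c hc => h.mE.2 ⟨(h.mB.1 hc).1, VE (h.mB.1 hc).2.1, (h.mB.1 hc).2.2⟩
theorem EUl : E ≤ U := fun c hc => h.mU.2 ⟨(h.mE.1 hc).1, EEU (h.mE.1 hc).2.1, (h.mE.1 hc).2.2⟩
theorem Ux : U ≤ C[x] := fun c hc => (h.mU.1 hc).1
theorem Ex : E ≤ C[x] := h.EUl.trans h.Ux
theorem zB : z ∈ B := h.mB.2 ⟨h.zx, h.ρz ▸ one_mem _, t2_sq h.zz⟩
theorem zE : z ∈ E := h.BE h.zB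
theorem nrE {n : G} (hn : n ∈ N1) (e : ρ n ∈ N(EE)) : n ∈ N(E) := h.L2_norm hn e
theorem aE : a ∈ N(E) := h.nrE h.aN (h.ρa ▸ J4.aE)
theorem bE : b ∈ N(E) := h.nrE h.bN (h.ρb ▸ J4.bE)
theorem tE : t ∈ N(E) := h.nrE h.tN (h.ρt ▸ J4.tE)
theorem sE : s ∈ N(E) := h.nrE h.sN (h.ρs ▸ TE (lt_T0 (by decide)))
theorem xE : x ∈ N(E) := cent_le_norm _ (le_cent1_iff.1 h.Ex)
theorem UE : U ≤ N(E) := fun c hc => h.nrE (cN x (h.Ux hc)) (TE (Sg_T0 cU (h.mU.1 hc).2.1))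
theorem aU : a ∈ N(U) := h.L2_norm h.aN (h.ρa ▸ J4.aU)
theorem sU : s ∈ N(U) := h.L2_norm h.sN (h.ρs ▸ TU (lt_T0 (by decide)))
theorem xU : x ∈ N(U) := cent_le_norm _ (le_cent1_iff.1 h.Ux)
theorem toB {c : G} (h1 : c ∈ C[x]) (h2 : c ∈ C[a]) (h3 : T2 c) : c ∈ B :=
  h.mB.2 ⟨h1, FA1 (h.mem c h1) (h.ρa ▸ h.cρ (cN x h1) h.aN h2) (h.t2ρ (cN x h1) h3), h3⟩
theorem z2B : z₂ ∈ B := h.toB h.zx2 h.za2 (t2_sq h.zz2)
theorem lift {X : Subgroup GPm} {m : GPm} (h1 : X ≤ M22) (h2 : PG 2 X) (hm : m ∈ X) : ∃ c ∈ h.L2 X, ρ c = m := by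
  obtain ⟨c, hc, rfl, e⟩ := h.lift2' (h1 hm) (t2_of_pg h2 hm)
  exact ⟨c, (h.mem_L2 h1 h2).2 ⟨hc, hm, e⟩, rfl⟩
theorem ζ3 : ¬ 3 ∣ ζ := by rcases h.cz with e | e <;> rw [e] <;> decide
theorem IrrU {J : Subgroup G} (h1 : E ≤ J) (h2 : J ≤ U) (h3 : a ∈ N(J)) : J = E ∨ J = U :=
  irr4 h1 h2 (by rw [h.nE, h.nU]; ring) (by have := h.ζ3; rw [h.nE]; omega) h.a3 h.aE h3 fun c hc =>
    h.BE (h.toB (h.Ux (h2 hc.1)) hc.2 (h.mU.1 (h2 hc.1)).2.2)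
theorem preE {c : G} (hc : c ∈ N1) (e : ρ c ∈ EE) (p : PiE {3}ᶜ c) : c ∈ E := by
  have k := h.L2_hall EM pgE
  have e1 := k.card_mul
  rw [h.card_pre (EM.trans M22_le), h.card_L2 EM pgE, ← mul_assoc, mul_right_inj' (by
    rw [← h.card_L2 EM pgE]; exact card_ne_zero _)] at e1
  exact (show Hall {3}ᶜ E (h.pre EE) from ⟨k.le, pg23 k.pi, by
    rw [e1]; exact PiN.compl_compl ((piN_prime (π := {3}) Nat.prime_three).2 rfl)⟩).mem_of_normal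
    (Oc_norm _ _) (h.mem_pre.2 ⟨hc, e⟩) p
theorem CE {c : G} (h1 : c ∈ N1) (h2 : c ∈ C(E)) : ρ c ∈ EE := FA3 (h.mem' c h1) (mem_cent.2 fun m hm => by
  obtain ⟨e, he, rfl⟩ := h.lift EM pgE hm
  exact mem_cent1.1 (h.cρ (cN x (h.Ex he)) h1 (le_cent1_iff.2 h2 he)))
include β
theorem Esq {c : G} (hc : c ∈ E) : c * c = 1 := h.LP β (h.Ex hc) (h.mE.1 hc).2.2 (J4.Esq (h.mE.1 hc).2.1)
theorem Eab : E ≤ C(E) := ab_sq fun _ => h.Esq β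
theorem Ba : B ≤ C[a] := fun c hc => h.cent3 (h.mB.1 hc).1 (h.Esq β (h.BE hc)) h.ax h.a3 (h.ρa ▸ Va (h.mB.1 hc).2.1)
theorem mB' {c : G} : c ∈ B ↔ c ∈ C(A) ∧ T2 c := h.p.cA ▸ ⟨fun hc => ⟨⟨(h.mB.1 hc).1, h.Ba β hc⟩, (h.mB.1 hc).2.2⟩,
  fun hc => h.toB hc.1.1 hc.1.2 hc.2⟩
theorem nAB : N(A) ≤ N(B) := fun n hn => mem_norm_of_cj_le fun c hc => by
  obtain ⟨c, h1, rfl⟩ := mem_cj'.1 hc
  rw [h.mB' β] at h1 ⊢
  exact ⟨conj_mem_of_norm (norm_le_norm_cent _ hn) h1.1, h1.2.cj n⟩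
theorem Ea : E ⊓ C[a] = B := le_antisymm (fun c hc => h.toB (h.Ex hc.1) hc.2 (h.mE.1 hc.1).2.2) (le_inf h.BE (h.Ba β))
theorem EB : E ≤ C(B) := (h.Eab β).trans (cent_mono h.BE)
theorem mE3 {c : G} (h1 : c ∈ C[x]) (h2 : c ∈ C(B)) (p : PiE {3}ᶜ c) : c ∈ E := by
  refine h.preE (cN x h1) ((FA2 (h.mem c h1) (mem_cent.2 fun m hm => ?_)).resolve_right fun e => e.2 ?_) p
  · obtain ⟨e, he, rfl⟩ := h.lift (VE.trans EM) pgV hm
    exact mem_cent1.1 (h.cρ (cN x (h.mB.1 he).1) (cN x h1) (le_cent1_iff.2 h2 he))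
  · have d1 := orderOf_dvd_of_pow_eq_one e.1
    have d2 : orderOf (ρ c) ∣ orderOf c := orderOf_map_dvd h.hom ⟨c, h1⟩ |>.trans (orderOf_coe _).symm.dvd
    exact orderOf_dvd_iff_pow_eq_one.1 (((p.dvd d2).coprime_prime Nat.prime_three).dvd_of_dvd_mul_right d1)
theorem mEn {n c : G} (hn : n ∈ N(A)) (h1 : c ∈ C[n * x * n⁻¹]) (h2 : c ∈ C(B)) (p : PiE {3}ᶜ c) : c ∈ cj n E := by
  rw [← cj_cent1, mem_cj] at h1
  exact mem_cj.2 (h.mE3 β h1 (conj_mem_of_norm' (norm_le_norm_cent _ (h.nAB β hn)) h2) (by simpa using p.e_conj n⁻¹))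
theorem EnB {n : G} (hn : n ∈ N(A)) : B ≤ cj n E ∧ cj n E ≤ C(B) ∧ cj n E ≤ C[n * x * n⁻¹] := by
  have e := cj_of_mem_norm (h.nAB β hn)
  exact ⟨e ▸ cj_mono n h.BE, e ▸ cj_cent n _ ▸ cj_mono n (h.EB β), cj_cent1 n x ▸ cj_mono n h.Ex⟩
theorem Eeq {n m : G} (hn : n ∈ N(A)) (hm : m ∈ N(A)) (e : C[n * x * n⁻¹] = C[m * x * m⁻¹]) : cj n E = cj m E :=
  eq_of_le_of_card_eq (fun c hc => h.mEn β hm (e ▸ (h.EnB β hn).2.2 hc) ((h.EnB β hn).2.1 hc)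
    ((pg23 (h.pE.J n)).elt hc)) (by rw [card_cj, card_cj])
theorem AEn {n : G} (hn : n ∈ N(A)) : A ≤ N(cj n E) := by
  rw [← cj_norm, ← cj_of_mem_norm hn]; exact cj_mono n (sup_le (zpowers_le.2 h.xE) (zpowers_le.2 h.aE))
theorem dW : Dprod B W₁ E := by
  have := ab_cent_dprod (comm_iff_le_cent.2 (h.Eab β)) (zpowers_le.2 h.aE) (cp3 h.pE h.a3)
  rwa [cent_zpowers, h.Ea β] at this
theorem WE : W₁ ≤ E := (h.dW β).right_le
theorem nW : #W₁ = 4 := by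
  have := (h.dW β).card
  have := card_pos (zpowers z)
  rw [h.nE, h.nB] at *
  nlinarith
theorem Wa : W₁ ⊓ C[a] = ⊥ := by rw [← le_bot_iff, ← (h.dW β).inf, ← h.Ea β]; exact fun c hc => ⟨⟨h.WE β hc.1, hc.2⟩, hc.1⟩
theorem aW : a ∈ N(W₁) := commg_normr _ _ (mem_zpowers a)
theorem ρW {w : G} (hw : w ∈ W₁) : ρ w ∈ WW := by
  have m1 := conj_mem_of_norm (h.aW β) hw
  have m2 := conj_mem_of_norm (h.aW β) m1
  have l := (h.WE β).trans h.Ex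
  have := (h.Wa β).le ⟨mul_mem (mul_mem hw m1) m2, tr3 h.a3 (comm_of_sq (fun _ => h.Esq β) (h.WE β hw) (h.WE β m1))
    (comm_of_sq (fun _ => h.Esq β) (h.WE β hw) (h.WE β m2))⟩
  refine W1f (h.mE.1 (h.WE β hw)).2.1 ?_
  rw [← h.ρa, ← h.conj h.ax (l hw), ← h.conj h.ax (l m1), ← h.mul _ (l hw) _ (l m1), ← h.mul _ (l (mul_mem hw m1)) _ (l m2),
    mem_bot.1 this, h.one]
theorem Wb : W₁ ≤ C[b] := fun w hw => h.cent3 (h.Ex (h.WE β hw)) (h.Esq β (h.WE β hw)) h.bx h.b3 (h.ρb ▸ J4.Wb (h.ρW β hw))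
theorem liftW {m : GPm} (hm : m ∈ WW) : ∃ w ∈ W₁, ρ w = m := by
  have l := (h.WE β).trans (h.Ex.trans (cN x))
  have c := h.card_im l
  rw [show W₁ ⊓ Z6 = ⊥ from H19.eq_bot_mono (inf_le_inf_left _ fun c hc => mem_cent1_symm.1 (mem_cent1.2 (h.Zc hc h.ax))) (h.Wa β),
    card_bot, mul_one, h.nW β, ← J4.nW] at c
  obtain ⟨w, h1, -, h2⟩ := h.mem_im.1 ((eq_of_le_of_card_eq (h.im_le fun w hw _ => h.ρW β hw) c).ge hm)
  exact ⟨w, h1, h2⟩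
theorem tW : cj t W₁ = V := by rw [H19.cj_comm, cj_of_mem_norm h.tE, cj_zpowers, h.tb]
theorem VE : V ≤ E := h.tW β ▸ cj_le_of_mem_norm h.tE (h.WE β)
theorem nV : #V = 4 := by rw [← h.tW β, card_cj, h.nW β]
theorem Vb : V ⊓ C[b] = ⊥ := by
  have := congrArg (cj t) (h.Wa β)
  rwa [cj_inf, h.tW β, cj_cent1, h.tb, cj_bot] at this
theorem bV : b ∈ N(V) := commg_normr _ _ (mem_zpowers b)
theorem VB : V ≤ B := fun v hv => by
  obtain ⟨w, hw, rfl⟩ := mem_cj'.1 ((h.tW β).ge hv)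
  have m := h.mE.1 (h.VE β hv)
  refine h.mB.2 ⟨m.1, FA1 (h.mem _ m.1) ?_ (h.t2ρ (cN x m.1) m.2.2), m.2.2⟩
  rw [h.conj h.tx (h.Ex (h.WE β hw)), h.ρt, ← c_of_zp zpowers_inv, ← tba]
  exact cent_cj (J4.Wb (h.ρW β hw))
theorem VW : V ⊓ W₁ = ⊥ := H19.eq_bot_mono (inf_le_inf_right _ (h.VB β)) (h.dW β).inf
theorem σ3 : σ * (b * (z₂) * b⁻¹) * σ⁻¹ = b * (z₂) * b⁻¹ ∧
    σ * (b * (b * (z₂) * b⁻¹) * b⁻¹) * σ⁻¹ = b * (b * (z₂) * b⁻¹) * b⁻¹ := by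
  simp only [cjcj]
  refine ⟨h.zy (by rw [← cjcj, h.e3, ← conj_mul, h.σx, h.σa, h.p.cm]), h.zy ?_⟩
  rw [← cjcj, h.e4, ← conj_mul, ← conj_mul, h.σx, h.σa, ← zp_sq (h.p.y3 (mul_mem (mul_mem h.p.xA h.p.xA) h.p.aA)),
    ← sq (x * x * a), (h.p.cm.mul_left h.p.cm).mul_pow, ← sq, ← sq, ← pow_mul, pow_succ x 3, h.x3', one_mul,
    (h.p.cm.pow_right 2).eq]
theorem nzV (z1 : z ≠ 1) {v : G} (hv : v ∈ V) : ¬ IsConj z v := fun e => by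
  have n := h.bV β
  have b3 : ∀ u, b * (b * (b * u * b⁻¹) * b⁻¹) * b⁻¹ = u := fun u => by rw [cjcj, cjcj, ← pow_three', h.b3]; simp
  have m : z₂ ∈ V := by
    rcases h.ZA e (h.Ex (h.VE β hv)) (h.Ba β (h.VB β hv)) with rfl | rfl | rfl | rfl
    · exact absurd ((h.Vb β).le ⟨hv, mem_cent1_symm.1 (h.zC h.bx)⟩) z1
    · exact hv
    · exact b3 (z₂) ▸ conj_mem_of_norm n (conj_mem_of_norm n hv)
    · exact b3 (z₂) ▸ conj_mem_of_norm n hv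
  have m1 := conj_mem_of_norm n m
  have m2 := conj_mem_of_norm n m1
  have c : ∀ {u v}, u ∈ V → v ∈ V → Commute u v := fun hu hv => comm_of_sq (fun _ => h.Esq β) (h.VE β hu) (h.VE β hv)
  have e1 := mem_bot.1 ((h.Vb β).le ⟨mul_mem (mul_mem m m1) m2, tr3 h.b3 (c m m1) (c m m2)⟩)
  have e2 := congrArg (σ * · * σ⁻¹) e1
  beta_reduce at e2
  rw [← conj_mul, ← conj_mul, h.σz, (h.σ3 β).1, (h.σ3 β).2, mul_one, mul_inv_cancel, ← e1, mul_left_inj, mul_left_inj] at e2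
  exact β.resolve_left z1 e2.symm
theorem nzW (z1 : z ≠ 1) {w : G} (hw : w ∈ W₁) : ¬ IsConj z w := fun e =>
  h.nzV β z1 ((h.tW β).le (conj_mem_cj.2 hw)) (e.trans (isConj_iff.2 ⟨t, rfl⟩))
theorem zV (z1 : z ≠ 1) {c : G} (hc : c ∈ B) : c ∈ V ∨ c * z ∈ V := by
  have n : z ∉ V := fun e => h.nzV β z1 e (IsConj.refl z)
  have c2 : ζ = 2 := (Nat.card_zpowers z).trans (orderOf_eq_prime (by rw [sq, h.zz]) z1)
  have l := zpowers_le.2 (cent_le_norm _ (le_cent1_iff.1 ((h.VE β).trans (h.Ex.trans h.zC))))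
  obtain ⟨v, hv, u, hu, rfl⟩ := (mem_sup_of_norm l).1 ((eq_of_le_of_card_eq (sup_le (h.VB β) (zpowers_le.2 h.zB)) (by
    rw [card_sup_of_disjoint l (by rw [inf_comm]; exact inf_eq_bot_of_prime (c2 ▸ Nat.prime_two) fun e => n (e (mem_zpowers z))),
      h.nV β, h.nB])).ge hc)
  rcases (mem_zpowers_inv h.zz).1 hu with rfl | rfl
  exacts [.inl (by simpa using hv), .inr (by rwa [mul_assoc, h.zz, mul_one])]
theorem NS (z1 : z ≠ 1) {v w : G} (hv : v ∈ V) (v1 : v ≠ 1) (hw : w ∈ W₁) (w1 : w ≠ 1) : IsConj z (v * w) := by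
  by_contra n
  have cv : ∀ {u w}, ¬ IsConj z w → ¬ IsConj z (u * w * u⁻¹) := fun n e => n (e.trans (isConj_iff.2 ⟨_, rfl⟩).symm)
  have c2 : ζ = 2 := (Nat.card_zpowers z).trans (orderOf_eq_prime (by rw [sq, h.zz]) z1)
  have l0 : W₁ ≤ N(V) := norms_of_cents (cents_mono (h.Eab β) (h.WE β) (h.VE β))
  have k : ∀ u ∈ V ⊔ W₁, ¬ IsConj z u := fun u hu => by
    obtain ⟨v', hv', w', hw', rfl⟩ := (mem_sup_of_norm l0).1 hu
    by_cases e1 : v' = 1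
    · rw [e1, one_mul]; exact h.nzW β z1 hw'
    by_cases e2 : w' = 1
    · rw [e2, mul_one]; exact h.nzV β z1 hv'
    have k1 : ∀ {w}, ¬ IsConj z (v * w) → ¬ IsConj z (v * (a * w * a⁻¹)) := fun n => by
      simpa only [← conj_mul, cjc' (h.Ba β (h.VB β hv))] using cv (u := a) n
    have k2 : ∀ {v}, ¬ IsConj z (v * w') → ¬ IsConj z (b * v * b⁻¹ * w') := fun n => by
      simpa only [← conj_mul, cjc' (h.Wb β hw')] using cv (u := b) n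
    have k3 : ¬ IsConj z (v * w') := by
      rcases orb4 (h.nW β) h.a3 (h.aW β) (h.Wa β) hw w1 hw' e2 with rfl | rfl | rfl
      exacts [n, k1 n, k1 (k1 n)]
    rcases orb4 (h.nV β) h.b3 (h.bV β) (h.Vb β) hv v1 hv' e1 with rfl | rfl | rfl
    exacts [k3, k2 k3, k2 (k2 k3)]
  have c0 : #(V ⊔ W₁ : Subgroup G) = 16 := by rw [card_sup_of_disjoint l0 (h.VW β), h.nV β, h.nW β]
  have l1 : V ⊔ W₁ ≤ E := sup_le (h.VE β) (h.WE β)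
  have k1 : ∀ u ∈ E, u ∈ V ⊔ W₁ ∨ u * z ∈ V ⊔ W₁ := fun u hu => by
    obtain ⟨c, hc, w, hw, rfl⟩ := (h.dW β).cp.mem hu
    exact (h.zV β z1 hc).imp (fun e => mul_mem_sup e hw) fun e => by
      rw [mul_assoc, mem_cent1.1 (h.zC (h.Ex (h.WE β hw))), ← mul_assoc]; exact mul_mem_sup e hw
  generalize V ⊔ W₁ = E0 at k c0 l1 k1
  have k2 : N(E) ≤ N(E0) := fun m hm => mem_norm_of_cj_le fun u hu => by
    obtain ⟨u, h1, rfl⟩ := mem_cj'.1 hu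
    have h2 := conj_mem_of_norm hm (l1 h1)
    refine (k1 _ h2).elim id fun n => ?_
    by_cases e : m * u * m⁻¹ ∈ zpowers z
    · exact ((mem_zpowers_inv h.zz).1 e).elim (fun e => e ▸ one_mem _) fun e => absurd (e ▸ IsConj.refl z) (cv (u := m) (k u h1))
    · exact absurd ((h.Z1 β (h.Ex h2) (h.Esq β h2) e z1).2 (k _ n)) (cv (k u h1))
  have pT : PG 2 (T0 ⊓ M22) := pgT.infl _
  have mS := fun {c} => h.mem_L2 (inf_le_right : T0 ⊓ M22 ≤ M22) pT (c := c)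
  have hS : Syl 2 (h.L2 (T0 ⊓ M22)) C[x] := syl_card (k := 8) (m := 10395) Nat.prime_two (fun c hc => (mS.1 hc).1)
    (by rw [h.card_L2 inf_le_right pT, TM, c2]; rfl) (by rw [h.cC, c2]; rfl) (by decide)
  have cS : #(h.L2 (T0 ⊓ M22)) = 256 := by rw [h.card_L2 inf_le_right pT, TM, c2]
  have nS : h.L2 (T0 ⊓ M22) ≤ N(E0) := fun c hc => k2 (h.nrE (cN x (mS.1 hc).1) (TE (mS.1 hc).2.1.1))
  obtain ⟨p, hp, ep⟩ := h.lift inf_le_right pT (mem_inf.2 ⟨lt_T0 (by decide : 8 < 256), T4a.2.2.2.1⟩)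
  obtain ⟨q, hq, eq⟩ := h.lift inf_le_right pT (mem_inf.2 ⟨lt_T0 (by decide : 128 < 256), UM T4a.2.2.2.2.1⟩)
  have p2 := h.LP β (hS.le hp) (mS.1 hp).2.2 (ep ▸ T4a.1)
  have q2 := h.LP β (hS.le hq) (mS.1 hq).2.2 (eq ▸ T4a.2.1)
  have hr := mul_mem hp hq
  have er : ρ (p * q) = lt 8 * lt 128 := by rw [h.mul _ (hS.le hp) _ (hS.le hq), ep, eq]
  have r4 := h.LP β (hS.le (pow_mem hr 2)) (mS.1 (pow_mem hr 2)).2.2 (by rw [h.pow (hS.le hr), er]; exact T4a.2.2.1)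
  rw [← pow_add] at r4
  have n1 := zpowers_le.2 (nS hr)
  have n2 : zpowers p ≤ N(E0 ⊔ zpowers (p * q)) := norms_sup (zpowers_le.2 (nS hp)) (zpowers_le.2 (mem_norm_iff_cj.2 (by
    rw [cj_zpowers, ← zpowers_inv, ← mul_assoc, p2, one_mul, mul_inv_rev, inv_inv, inv_eq_of_mul_eq_one_right q2])))
  have c1 : #(E0 ⊔ zpowers (p * q) ⊔ zpowers p : Subgroup G) ∣ 16 * 4 * 2 := (card_sup_dvd n2).trans (Nat.mul_dvd_mul
    ((card_sup_dvd n1).trans (Nat.mul_dvd_mul c0.dvd ((Nat.card_zpowers _).dvd.trans (orderOf_dvd_of_pow_eq_one r4))))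
    ((Nat.card_zpowers _).dvd.trans (orderOf_dvd_of_pow_eq_one (by rw [sq, p2]))))
  have l2 : E0 ⊔ zpowers (p * q) ⊔ zpowers p ≤ h.L2 (T0 ⊓ M22) := sup_le (sup_le (fun c hc => mS.2 ⟨h.Ex (l1 hc),
    ⟨Sg_T0 cE (h.mE.1 (l1 hc)).2.1, EM (h.mE.1 (l1 hc)).2.1⟩, (h.mE.1 (l1 hc)).2.2⟩) (zpowers_le.2 hr)) (zpowers_le.2 hp)
  have l3 : h.L2 (T0 ⊓ M22) ≤ E0 ⊔ zpowers (p * q) ⊔ zpowers p ⊔ zpowers z := fun c hc => by
    obtain ⟨j, i, e⟩ := T4 (mS.1 hc).2.1.1 (mS.1 hc).2.1.2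
    have m1 := mul_mem (pow_mem hp j) (pow_mem hr i)
    have m2 := mul_mem hc m1
    refine (Subgroup.mul_mem_cancel_right _ (mem_sup_left (mul_mem (mem_sup_right (pow_mem (mem_zpowers p) j))
      (mem_sup_left (mem_sup_right (pow_mem (mem_zpowers _) i)))))).1 ((k1 _ (h.mE.2 ⟨hS.le m2, ?_, (mS.1 m2).2.2⟩)).elim
      (fun e => mem_sup_left (mem_sup_left (mem_sup_left e))) fun e => (Subgroup.mul_mem_cancel_right _
        (mem_sup_right (mem_zpowers z))).1 (mem_sup_left (mem_sup_left (mem_sup_left e))))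
    rwa [h.mul _ (hS.le hc) _ (hS.le m1), h.mul _ (hS.le (pow_mem hp j)) _ (hS.le (pow_mem hr i)), h.pow (hS.le hp),
      h.pow (hS.le hr), ep, er]
  generalize E0 ⊔ zpowers (p * q) ⊔ zpowers p = S1 at c1 l2 l3
  have e := H3.inf_commutator_inf_center_le (H := (h.L2 (T0 ⊓ M22)).subgroupOf C[x]) (by
    rw [card_subgroupOf' hS.le]; exact hS.coprime) (x := ⟨z, h.zx⟩) ⟨⟨mS.2 ⟨h.zx, h.ρz ▸ one_mem _, t2_sq h.zz⟩, by
      have := h.perf h.zx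
      rw [← map_subtype_commutator] at this
      exact (mem_map_iff_mem (subtype_injective _)).1 this⟩, mem_center_iff.2 fun y => Subtype.ext (mem_cent1.1 (h.zC y.2))⟩
  have := mem_map_of_mem C[x].subtype e
  rw [map_commutator, subgroupOf_map_subtype, inf_eq_left.2 hS.le] at this
  have := der_mono l3 this
  rw [der_sup_cent (zpowers_le.2 (le_cent1_iff.1 (l2.trans (hS.le.trans h.zC)))), comm_iff_der.1 (comm_zpowers z),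
    sup_bot_eq] at this
  have := card_le (l3.trans (sup_le le_rfl (zpowers_le.2 (der_le _ this))))
  have := Nat.le_of_dvd (by decide) c1
  omega
end Cf
end H26.J4
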