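import Cfsg.Agent.H26.J4.K3
import Cfsg.Agent.H18.G1b

/-! The centralizer of the elementary abelian subgroup. -/

set_option autoImplicit false
set_option linter.unusedSectionVars false
set_option linter.unusedVariables false
set_option maxRecDepth 100000
open Subgroup H16 H19 H0 H0.TR H20.J4
open scoped commutatorElement
namespace H26.J4
variable {G : Type*} [Group G]
local notation "cj" => H19.cj

theorem bur [Finite G] {S X : Subgroup G} {g : G} (hS : Syl 2 S ⊤) (h1 : N(S) ≤ N(X)) (h2 : S ≤ N(cj g X)) : cj g X = X := by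
  obtain ⟨c, hc, e⟩ := ((hS.Jtop g).of_le (cj_norm g X ▸ cj_mono g (le_normalizer.trans h1)) le_top).sconj (hS.of_le h2 le_top)
  have := cj_of_mem_norm (h1 (mem_norm_iff_cj.2 ((cj_mul c g S).trans e)))
  rwa [cj_mul, cj_of_mem_norm hc] at this
theorem burn [Finite G] {S : Subgroup G} {x g : G} (hS : Syl 2 S ⊤) (hx : S ≤ C[x]) (h : S ≤ C[g * x * g⁻¹]) :
    ∃ n ∈ N(S), n * x * n⁻¹ = g * x * g⁻¹ := by
  obtain ⟨c, hc, e⟩ := ((hS.Jtop g).of_le (cj_cent1 g x ▸ cj_mono g hx) le_top).sconj (hS.of_le h le_top)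
  exact ⟨c * g, mem_norm_iff_cj.2 (by rw [cj_mul, e]), by rw [← cjcj, cjc hc]⟩
theorem four_cent [Finite G] {R K : Subgroup G} (hR : PG 2 R) (hn : R ≤ N(K)) (c : #K = 4) (e : ∀ u ∈ K, u * u = 1) :
    #R ≤ 2 * #(R ⊓ C(K) : Subgroup G) := by
  obtain ⟨v, hv, v1⟩ := exists_ne_one ((PiN.of_card_pow (k := 2) Nat.prime_two c).meet_cent hR hn (by
    rintro rfl; simp at c))
  have c1 : #(zpowers v) = 2 := (Nat.card_zpowers v).trans (orderOf_eq_prime (by rw [sq, e v hv.1]) v1)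
  have l := zpowers_le.2 hv.1
  obtain ⟨w, hw, n⟩ := SetLike.exists_of_lt (lt_of_le_of_ne l fun e => by rw [e] at c1; omega)
  have i : ((zpowers v).subgroupOf K).index = 2 := by have := card_mul_relIndex l; rw [c, c1, relIndex] at this; omega
  have k : ∀ u ∈ K, u ∉ zpowers v → u = w ∨ u = v * w := fun u hu n' => ((mem_zpowers_inv (e v hv.1)).1
    ((mul_mem_iff_of_index_two i (a := ⟨u, hu⟩) (b := ⟨w⁻¹, inv_mem hw⟩)).2 (iff_of_false n' fun e => n (inv_mem_iff.1 e)))).imp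
      mul_inv_eq_one.1 mul_inv_eq_iff_eq_mul.1
  rw [← cl_card R w]
  refine Nat.mul_le_mul ((Set.ncard_le_ncard (t := {w, v * w}) ?_).trans ((Set.ncard_insert_le ..).trans (by simp))) (card_le fun r hr =>
    ⟨hr.1, mem_cent.2 fun u hu => ?_⟩)
  · rintro _ ⟨r, hr, rfl⟩
    refine k _ (conj_mem_of_norm (hn hr) hw) fun e => n ?_
    simpa [mul_assoc] using conj_mem_of_norm (inv_mem (cN v (le_cent1_iff.2 hv.2 hr))) e
  · have h1 := mem_cent1_symm.1 (le_cent1_iff.2 hv.2 hr.1)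
    have h2 := mem_cent1_symm.1 hr.2
    by_cases n' : u ∈ zpowers v
    · exact mem_cent1.1 (zpowers_le.2 h1 n')
    · rcases k u hu n' with rfl | rfl
      exacts [mem_cent1.1 h2, mem_cent1.1 (mul_mem h1 h2)]
theorem Cf.Fab [Finite G] {x z a b s t σ : G} {ρ : G → GPm} (h : Cf x z ρ a b s t σ) (β : z = 1 ∨ σ * z * σ⁻¹ ≠ z) {u e : G}
    (hu : u ∈ h.pre F5) (he : e ∈ h.L2 (F5 ⊓ M22)) : u ∈ C[e] := by
  have p : PG 2 (F5 ⊓ M22 : Subgroup GPm) := (pgT.of_le (Sg_T0 cF)).infl _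
  have m := fun {c} => h.mem_L2 (inf_le_right : F5 ⊓ M22 ≤ M22) p (c := c)
  have q : ∀ e ∈ h.L2 (F5 ⊓ M22), e * e = 1 := fun e he => h.LP β (m.1 he).1 (m.1 he).2.2 (Fsq (m.1 he).2.1.1)
  have nF : ∀ u ∈ h.pre F5, u ∈ N(h.L2 (F5 ⊓ M22)) := fun u hu => h.L2_norm (h.pre_le _ hu) (norms_inf le_normalizer
    (((Sg_T0 cF).trans T0_le).trans AA_norm) (h.mem_pre.1 hu).2)
  have k0 : ∀ u ∈ h.pre F5, u ∈ C[x] → ∀ e ∈ h.L2 (F5 ⊓ M22), u ∈ C[e] := fun u hu h1 e he => by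
    obtain ⟨c, hc, y, hy, rfl⟩ := (mem_sup_of_norm (zpowers_le.2 (cent_le_norm _ (le_cent1_iff.1 fun c hc => (m.1 hc).1)))).1
      ((h.sylp (inf_le_right.trans M22_le) p (h.L2_hall inf_le_right p)).2.1.ge
        (h.mem_pre.2 ⟨cN x h1, (h.mem_pre.1 hu).2, h.mem u h1⟩))
    exact mul_mem (mem_cent1.2 (comm_of_sq q hc he)) (zpowers_le.2 (mem_cent1_symm.1 (m.1 he).1) hy)
  by_cases h1 : u ∈ C[x]
  · exact k0 u hu h1 e he
  obtain ⟨r, hr, er⟩ := h.surj _ rM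
  have uN := h.pre_le _ hu
  have nr : r ∈ N(h.L2 (F5 ⊓ M22)) := h.L2_norm (cN x hr) (er ▸ norms_inf (zpowers_le.2 rF) (zpowers_le.2 (le_normalizer rM))
    (mem_zpowers _))
  have nr' : r ∈ N(h.pre F5) := mem_norm_iff_cj.2 (by rw [h.cj_pre (cN x hr), er, cj_of_mem_norm rF])
  have k1 : ∀ e ∈ h.L2 (F5 ⊓ M22), u * e * u⁻¹ = e ∨ u * e * u⁻¹ = e * z := fun e he => by
    have h2 := m.1 (conj_mem_of_norm (nF u hu) he)
    exact h.eq2 h2.1 (m.1 he).1 h2.2.2 (m.1 he).2.2 (by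
      rw [h.conj' uN (cN x (m.1 he).1), comm_of_sq (fun _ => Fsq) (h.mem_pre.1 hu).2 (m.1 he).2.1.1, mul_inv_cancel_right])
  have k2 : ∀ e ∈ h.L2 (F5 ⊓ M22), u * e * u⁻¹ = e * z → u * (r * e * r⁻¹) * u⁻¹ = r * e * r⁻¹ * z := fun e he e1 => by
    have h2 := conj_mem_of_norm' nr' hu
    have := cjc (k0 _ (mul_mem (inv_mem hu) h2) (h.out (inv_mem uN) (h.pre_le _ h2) (mt inv_mem_iff.1 h1) fun k => h1 (by
      simpa [mul_assoc] using cjm hr k)) e he)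
    rw [show u * (r * e * r⁻¹) * u⁻¹ = r * (u * (u⁻¹ * (r⁻¹ * u * r) * e * (u⁻¹ * (r⁻¹ * u * r))⁻¹) * u⁻¹) * r⁻¹ by group, this,
      e1, ← conj_mul, cjc (h.zC hr)]
  refine of_cjc ((k1 e he).elim id fun e1 => ?_)
  have m1 := conj_mem_of_norm nr he
  have m2 := conj_mem_of_norm nr m1
  have m3 := m.1 (mul_mem (mul_mem he m1) m2)
  have e2 := cjc (cent1_le_cent1_of_mem_zpowers (h.z2 ((h.ker _ m3.1).1 (by
    rw [h.mul _ (m.1 (mul_mem he m1)).1 _ (m.1 m2).1, h.mul _ (m.1 he).1 _ (m.1 m1).1, h.conj hr (m.1 m1).1,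
      h.conj hr (m.1 he).1, er]
    exact Fr (m.1 he).2.1.1 (m.1 he).2.1.2)) m3.2.2) (h.NH uN))
  have c : ∀ {e}, e ∈ h.L2 (F5 ⊓ M22) → z * e = e * z := fun he => (mem_cent1.1 (h.zC (m.1 he).1)).symm
  rw [← conj_mul, ← conj_mul, e1, k2 e he e1, k2 _ m1 (k2 e he e1), mul_assoc e z, ← mul_assoc z, c m1, mul_assoc _ z, h.zz,
    mul_one, ← mul_assoc, mul_eq_left] at e2
  rw [e1, e2, mul_one]

namespace Cf
variable [Finite G] {x z a b s t σ : G} {ρ : G → GPm} (h : Cf x z ρ a b s t σ)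
include h
local notation "Z6" => zpowers (z * x)
local notation "N1" => N(zpowers x)
set_option quotPrecheck false in
local notation "ζ" => #(zpowers z)
local notation "A" => (zpowers x ⊔ zpowers a : Subgroup G)
local notation "E" => KN.L2 (Cf.toKN h) EE
local notation "U" => KN.L2 (Cf.toKN h) EU
local notation "B" => KN.L2 (Cf.toKN h) VV
local notation "z₂" => σ * z * σ⁻¹
local notation "V" => ⁅E, zpowers b⁆
local notation "W₁" => ⁅E, zpowers a⁆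
variable (β : z = 1 ∨ σ * z * σ⁻¹ ≠ z)
def Wg : Subgroup G := Oc ({3}ᶜ : Set ℕ) C(E)
local notation "W" => Cf.Wg h
theorem xCE : x ∈ C(E) := le_cent1_iff.1 h.Ex
theorem sylx : Syl 3 (zpowers x) C(E) ∧ C(E) ⊓ N1 ≤ C[x] := by
  have l : C(E) ⊓ N1 ≤ h.pre EE := fun c hc => h.mem_pre.2 ⟨hc.2, h.CE hc.2 hc.1⟩
  refine ⟨syl_of_subnorm ((syl_card (k := 1) (m := 16 * ζ) Nat.prime_three (zpowers_le.2 (h.Zpre _ h.xZ)) h.cP
    (by rw [h.card_pre (EM.trans M22_le), J4.nE]; ring) (by have := h.ζ3; omega)).of_le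
      (zpowers_le.2 ⟨h.xCE, h.xN1⟩) l), l.trans (h.preC EM)⟩
theorem Wh : Hall {3}ᶜ W C(E) := H18.Burnside_normal_complement h.sylx.1 (h.sylx.2.trans (cent_zpowers x).ge)
theorem WC : W ≤ C(E) := Oc_le _ _
theorem nEW : N(E) ≤ N(W) := norms_Oc _ (norm_le_norm_cent _)
theorem AW : A ≤ N(W) := sup_le (zpowers_le.2 (h.nEW h.xE)) (zpowers_le.2 (h.nEW h.aE))
theorem CEW : W ⊔ zpowers x = C(E) := h.Wh.sup_compl (by simpa using h.sylx.1)
include β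
theorem EW : E ≤ W := h.Wh.le_Oc (h.Eab β) (pg23 h.pE)
theorem Wn {n : G} (hn : n ∈ N(A)) : W ⊓ C[n * x * n⁻¹] ≤ cj n E := fun c hc =>
  h.mEn β hn hc.2 (cent_mono h.BE (h.WC hc.1)) (h.Wh.pi.elt hc.1)
theorem Wx : W ⊓ C[x] = E := le_antisymm (by simpa using h.Wn β (one_mem _)) (le_inf (h.EW β) h.Ex)
theorem pW : PG 2 W := fun p hp d => by_contra fun n => by
  obtain ⟨P, hP, k⟩ := inv_syl_exists p h.AW (h.Wh.pi.coprime' h.p.pg) (.inl h.p.pg.sol)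
  refine hP.sne_bot hp d (le_bot_iff.1 (h.p.gen k (h.Wh.pi.of_le hP.le) fun y hy y1 => ?_))
  obtain ⟨m, hm, rfl⟩ := h.trA hy y1
  exact (le_inf inf_le_left ((inf_le_inf_right _ hP.le).trans (h.Wn β hm))).trans (hP.pi.inf_eq_bot
    ((h.pE.J m).sing_ne (Ne.symm n))).le
theorem cW : #W * ζ ^ 2 * 4 = #(W ⊓ C[a] : Subgroup G) ^ 3 := by
  have := wiel9 h.x3 h.p.oa h.ax h.p.n (h.pW β) (h.AW h.p.xA) (h.AW h.p.aA)
  have n := h.nEW h.bE
  rw [← inf_assoc, h.Wx β, h.Ea β, h.nE, h.nB, ← cent_conj n (y := x * a) (by rw [cj_zpowers, h.ba]),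
    ← cent_conj (mul_mem n n) (y := x * x * a) (x := a) (by rw [cj_zpowers, ← cjcj, h.ba, ← conj_mul, cjc h.bx, h.ba, mul_assoc])] at this
  refine Nat.eq_of_mul_eq_mul_left (show 0 < 16 * ζ by have := card_pos (zpowers z); omega) ?_
  linear_combination this
theorem dich : W = E ∨ cj σ E ≤ W := by
  have l := h.Wn β h.σA
  rw [h.σx] at l
  have l1 : B ≤ W ⊓ C[a] := le_inf (h.BE.trans (h.EW β)) (h.Ba β)
  refine (irr4 l1 l (by rw [card_cj, h.nE, h.nB]; ring) (by have := h.ζ3; rw [h.nB]; omega) h.x3'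
    (h.nAB β (le_normalizer h.p.xA)) (norms_inf (zpowers_le.2 (h.AW h.p.xA)) (zpowers_le.2 (le_normalizer h.xa)) (mem_zpowers x))
    fun c hc => h.toB hc.2 hc.1.2 (t2_of_pg (h.pW β) hc.1.1)).imp (fun e => ?_) fun e => e.ge.trans inf_le_left
  have := h.cW β
  rw [e, h.nB] at this
  refine (eq_of_le_of_card_eq (h.EW β) (Nat.eq_of_mul_eq_mul_right (show 0 < ζ ^ 2 * 4 by have := card_pos (zpowers z); positivity) ?_)).symm
  rw [h.nE]; linear_combination -this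
theorem NE1 (hW : W = E) : N(E) ≤ N1 := by
  rw [h.sylx.1.eq_Oc (by
    rw [← h.CEW, hW]; exact sup_le (h.Ex.trans (cN x)) le_normalizer)]
  exact norms_Oc _ (norm_le_norm_cent _)
theorem SN {S : Subgroup G} (hS : Syl 2 S (h.pre T0)) : S ≤ N1 := hS.le.trans (h.pre_le _)
theorem SE {S : Subgroup G} (hS : Syl 2 S (h.pre T0)) : E ≤ S ∧ S ≤ N(E) := by
  have l : h.pre T0 ≤ N(E) := fun c hc => h.nrE (h.mem_pre.1 hc).1 (TE (h.mem_pre.1 hc).2)
  exact ⟨hS.le_of_norm' (fun c hc => h.mem_pre.2 ⟨cN x (h.Ex hc), Sg_T0 cE (h.mE.1 hc).2.1⟩) h.pE (hS.le.trans l), hS.le.trans l⟩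
theorem imS {S : Subgroup G} (hS : Syl 2 S (h.pre T0)) : h.im S = T0 := by
  obtain ⟨c, -, hz⟩ := h.sylp T0_le pgT hS
  exact eq_of_le_of_card_eq (h.im_le fun c hc _ => (h.mem_pre.1 (hS.le hc)).2) (Nat.eq_of_mul_eq_mul_right (card_pos _)
    ((h.card_im2 (h.SN β hS) hS.pi hz).trans c))
theorem NS1 {S : Subgroup G} (hS : Syl 2 S (h.pre T0)) : N(S) ≤ N(E) := fun n hn => by
  obtain ⟨-, -, hz⟩ := h.sylp T0_le pgT hS
  have SN := h.SN β hS
  obtain ⟨ES, SE⟩ := h.SE β hS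
  have l5 := (Sg_T0 cF).trans T0_le
  have p5 := pgT.of_le (Sg_T0 cF)
  have c5 := (h.sylp l5 p5 (hS.inf_normal ⟨fun c hc => h.mem_pre.2 ⟨(h.mem_pre.1 hc).1, Sg_T0 cF (h.mem_pre.1 hc).2⟩,
    fun c hc => mem_norm_iff_cj.2 (by rw [h.cj_pre (h.pre_le _ hc), cj_of_mem_norm (TF (h.mem_pre.1 hc).2)])⟩)).1
  have ab : S ⊓ h.pre F5 ≤ C(S ⊓ h.pre F5) := fun u hu => mem_cent.2 fun v hv => by
    have k : ∀ e ∈ S ⊓ h.pre F5, e ∈ C[x] → e ∈ h.L2 (F5 ⊓ M22) := fun e he h1 => (h.mem_L2 inf_le_right (p5.infl _)).2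
      ⟨h1, ⟨(h.mem_pre.1 he.2).2, h.mem e h1⟩, t2_of_pg hS.pi he.1⟩
    by_cases h1 : u ∈ C[x]
    · exact mem_cent1.1 (h.Fab β hv.2 (k u hu h1))
    by_cases h2 : v ∈ C[x]
    · exact (mem_cent1.1 (h.Fab β hu.2 (k v hv h2))).symm
    simpa [mul_assoc] using mem_cent1.1 (h.Fab β hv.2 (k _ (mul_mem hv hu) (h.out (SN hv.1) (SN hu.1) h2 h1)))
  have iT : ∀ {X}, X ≤ S → h.im X ≤ T0 := fun l => h.im_le fun c hc _ => (h.mem_pre.1 (hS.le (l hc))).2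
  have l1 : cj n (S ⊓ h.pre F5) ≤ S := cj_le_of_mem_norm hn inf_le_left
  have e1 : cj n (S ⊓ h.pre F5) = S ⊓ h.pre F5 := eq_of_le_of_card_eq (le_inf l1 fun c hc => h.mem_pre.2 ⟨SN (l1 hc),
    ab32 (iT l1) (im_cents (cj_cent n _ ▸ cj_mono n ab)) (by
      have := h.card_im_le (l1.trans SN) (hS.pi.of_le l1)
      rw [card_cj, c5, nF] at this
      exact Nat.le_of_mul_le_mul_right this (card_pos _)) (h.im_of hc (SN (l1 hc)))⟩) (card_cj _ _)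
  have l2 : cj n E ≤ S := cj_le_of_mem_norm hn ES
  have z1 : z ∈ cj n E := by
    have m := conj_mem_of_norm' hn hz
    exact mem_cj.2 (h.preE (SN m) (h.CE (SN m) (cent_mono ES (conj_mem_of_norm' (norm_le_norm_cent _ hn)
      (le_cent1_iff.1 (SN.trans h.NH))))) ((pg23 hS.pi).elt m))
  have e2 := NSy (iT l2) (h.imS β hS ▸ im_norms (cj_of_mem_norm hn ▸ cj_norm n _ ▸ cj_mono n SE)) (fun m hm => by
      obtain ⟨c, hc, h1, rfl⟩ := h.mem_im.1 hm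
      rw [← h.mul' _ h1 _ h1, sq_cj (fun _ => h.Esq β) n c hc, h.one])
    (Nat.eq_of_mul_eq_mul_right (card_pos _) ((h.card_im2 (l2.trans SN) (h.pE.J n) z1).trans ((card_cj _ _).trans h.nE))) (by
      have l3 : E ⊓ (S ⊓ h.pre F5) ≤ N1 := inf_le_left.trans (ES.trans SN)
      have l4 : cj n E ⊓ (S ⊓ h.pre F5) ≤ N1 := inf_le_left.trans (l2.trans SN)
      have c1 := h.card_im2 l4 ((h.pE.J n).infl _) ⟨z1, hz, h.Zpre _ h.zZ⟩
      have c2 := h.card_im_le l3 (h.pE.infl _)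
      rw [← card_cj n, cj_inf, e1, ← c1] at c2
      refine (card_le fun m hm => ?_).trans ((Nat.le_of_mul_le_mul_right c2 (card_pos _)).trans ((card_le (show
        h.im (E ⊓ (S ⊓ h.pre F5)) ≤ _ from h.im_le
        fun c hc _ => mem_inf.2 ⟨(h.mE.1 hc.1).2.1, (h.mem_pre.1 hc.2.2).2⟩)).trans EF))
      obtain ⟨c, hc, h1, rfl⟩ := h.mem_im.1 hm.1
      exact h.im_of ⟨hc, l2 hc, h.mem_pre.2 ⟨h1, hm.2⟩⟩ h1)
  exact mem_norm_of_cj_le fun c hc => h.preE (SN (l2 hc)) (e2 ▸ h.im_of hc (SN (l2 hc))) ((pg23 hS.pi).elt (l2 hc))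
theorem ST (hW : W = E) {S : Subgroup G} (hS : Syl 2 S (h.pre T0)) : Syl 2 S ⊤ := by
  refine syl_of_subnorm ((?_ : Syl 2 S N1).of_le (le_inf le_top le_normalizer) (inf_le_right.trans
    ((h.NS1 β hS).trans (h.NE1 β hW))))
  have c := (h.sylp T0_le pgT hS).1
  have c1 := h.card_pre (le_refl AA)
  rw [le_antisymm (h.pre_le AA) fun c hc => h.mem_pre.2 ⟨hc, h.mem' c hc⟩, card_AA] at c1
  rw [card_T0] at c
  rcases h.cz with e | e <;> rw [e] at c c1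
  exacts [syl_card (k := 8) (m := 10395) Nat.prime_two (h.SN β hS) c c1 (by decide),
    syl_card (k := 9) (m := 10395) Nat.prime_two (h.SN β hS) c c1 (by decide)]
theorem st2a (hW : W = E) {S : Subgroup G} (hS : Syl 2 S (h.pre T0)) (z1 : z ≠ 1) : False := by
  have n := β.resolve_left z1
  obtain ⟨m, hm, e⟩ := burn (g := σ) (h.ST β hW hS) ((h.SN β hS).trans h.NH) fun u hu => by
    have h1 := h.SN β hS hu
    refine of_cjc ((h.eq2 (h.cjC h1 h.zx2) h.zx2 ((t2_sq h.zz2).cj u) (t2_sq h.zz2) (by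
      rw [h.conj' h1 (cN x h.zx2), h.ρz2 n, cjc (Tv (h.mem_pre.1 (hS.le hu)).2)])).resolve_right fun e => h.nz12 n ?_)
    exact e ▸ isConj_iff.2 ⟨u * σ, (cjcj ..).symm⟩
  exact n (e ▸ cjc (h.NH (h.NE1 β hW (h.NS1 β hS hm))))
theorem st2b (hW : W = E) {S : Subgroup G} (hS : Syl 2 S (h.pre T0)) (z1 : z = 1) : False := by
  have SN := h.SN β hS
  obtain ⟨ES, SE⟩ := h.SE β hS
  have c1 : ζ = 1 := by simp [z1]
  have inj : ∀ u ∈ S, ∀ v ∈ S, ρ u = ρ v → u = v := fun u hu v hv e => mul_inv_eq_one.1 (by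
    simpa [z1] using h.z2 (h.div' (SN hu) (SN hv) e) (t2_of_pg hS.pi (mul_mem hu (inv_mem hv))))
  have ci : ∀ {X}, X ≤ N1 → PG 2 X → #(h.im X) = #X := fun l p => by simpa [c1] using h.card_im2 l p (z1 ▸ one_mem _)
  have lD : S ⊓ h.pre DD ≤ N1 := inf_le_left.trans SN
  have iD : h.im (S ⊓ h.pre DD) = DD := le_antisymm (h.im_le fun c hc _ => (h.mem_pre.1 hc.2).2) fun m hm => by
    obtain ⟨c, hc, h1, rfl⟩ := h.mem_im.1 ((h.imS β hS).ge (Sg_T0 cD hm))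
    exact h.im_of ⟨hc, h.mem_pre.2 ⟨h1, hm⟩⟩ h1
  have cD := ci lD (hS.pi.infl _)
  rw [iD, nD] at cD
  have ED : E ≤ S ⊓ h.pre DD := le_inf ES fun c hc => h.mem_pre.2 ⟨SN (ES hc), J4.ED (h.mE.1 hc).2.1⟩
  have DW : S ⊓ h.pre DD ≤ C(W₁) := fun d hd => mem_cent.2 fun w hw => by
    have h1 := ES (h.WE β hw)
    exact inj _ (mul_mem h1 hd.1) _ (mul_mem hd.1 h1) (by
      rw [h.mul' _ (SN h1) _ (SN hd.1), h.mul' _ (SN hd.1) _ (SN h1), mem_cent.1 (J4.DW (h.mem_pre.1 hd.2).2) _ (h.ρW β hw)])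
  have ND : N(S ⊓ h.pre DD) ≤ N1 := fun n hn => h.NE1 β hW (mem_norm_iff_cj.2 (bur (h.ST β hW hS) (h.NS1 β hS) fun u hu => by
    have l := cj_le_of_mem_norm hn ED
    have k := D16 (X := h.im (cj n E)) ((im_mono l).trans iD.le) (fun m hm => by
      obtain ⟨c, hc, h1, rfl⟩ := h.mem_im.1 hm
      rw [← h.mul' _ h1 _ h1, sq_cj (fun _ => h.Esq β) n c hc, h.one]) (by rw [ci (l.trans lD) (h.pE.J n), card_cj, h.nE, c1])
    refine mem_norm_of_cj_le fun c hc => ?_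
    obtain ⟨c, h1, rfl⟩ := mem_cj'.1 hc
    obtain ⟨d, h2, h3, e⟩ := h.mem_im.1 (conj_mem_of_norm (k (h.mem_pre.1 (hS.le hu)).2) (h.im_of h1 (lD (l h1))))
    exact inj d (l h2).1 _ (cjm hu (l h1).1) (by rw [e, h.conj' (SN hu) (lD (l h1))]) ▸ h2))
  have eB : cj t W₁ = B := (h.tW β).trans (eq_of_le_of_card_eq (h.VB β) (by rw [h.nV β, h.nB, c1]))
  have l1 : cj t (S ⊓ h.pre DD) ≤ C(B) := eB ▸ cj_cent t _ ▸ cj_mono t DW
  have pD := (hS.pi.infl (h.pre DD)).J t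
  have sD : Syl 2 (cj t (S ⊓ h.pre DD)) C(B) := syl_of_subnorm (syl_of_max (le_inf l1 le_normalizer) pD fun Q l p l' => by
    have l2 : Q ≤ N1 := l.trans (inf_le_right.trans (cj_norm t _ ▸ cj_le_of_mem h.tN ND))
    refine (eq_of_le_of_card_ge l' ?_).symm
    rw [card_cj, ← cD, ← ci l2 p]
    refine FA5 (h.im_le fun c _ hc => h.mem' c hc) (le_trans (im_cents (l.trans inf_le_left)) (cent_mono fun m hm => ?_))
      (p.im _)
    obtain ⟨c, hc, rfl⟩ := h.lift (J4.VE.trans EM) pgV hm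
    exact h.im_of hc (cN x (h.mB.1 hc).1))
  obtain ⟨R, hR⟩ := exists_syl 2 N(A)
  have c64 : 64 ∣ #R := hR.dvd (PiN.prime_pow Nat.prime_two 6) (by
    have s2 := h.LP β h.sx h.s2 (h.ρs ▸ ss)
    have ns := zpowers_le.2 (h.nAB β h.sA)
    have cs : #(zpowers s) = 2 := (Nat.card_zpowers s).trans (orderOf_eq_prime (by rw [sq, s2]) fun e => sV (by
      rw [← h.ρs, e, h.one]; exact one_mem _))
    rw [← cl_card N(A) x, show cl N(A) x = SetLike.coe A \ {1} from Set.ext fun y => ⟨fun ⟨n, hn, e⟩ =>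
      e ▸ ⟨conj_mem_of_norm hn h.p.xA, cj_ne1 h.x1⟩, fun hy => h.trA hy.1 hy.2⟩, Set.ncard_sdiff_singleton_of_mem (one_mem _),
      ← Nat.card_coe_set_eq, SetLike.coe_sort_coe, h.p.card]
    refine Nat.mul_dvd_mul (dvd_refl 8) (Dvd.dvd.trans (dvd_of_eq (a := 8) (Eq.symm ?_)) (card_dvd (sup_le (le_inf
      (fun c hc => cent_le_norm _ ((h.mB' β).1 hc).1) (h.BE.trans h.Ex)) (zpowers_le.2 (mem_inf.2 ⟨h.sA, h.sx⟩)))))
    rw [card_sup_of_disjoint ns (by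
      rw [inf_comm]; exact inf_eq_bot_of_prime (cs ▸ Nat.prime_two) fun e => sV (h.ρs ▸ (h.mB.1 (e (mem_zpowers s))).2.1)),
      h.nB, c1, cs])
  have c32 := four_cent hR.pi (hR.le.trans (h.nAB β)) (by rw [h.nB, c1]) fun _ hu => h.Esq β (h.BE hu)
  obtain ⟨k, hk, l2⟩ := sD.sle_cj inf_le_right (hR.pi.infl C(B))
  have e2 := eq_of_le_of_card_ge l2 (by
    have := Nat.le_of_dvd (card_pos _) c64
    rw [card_cj, card_cj]; omega)
  have l3 : cj k E ≤ R ⊓ C(B) := e2 ▸ cj_mono k (cj_of_mem_norm h.tE ▸ cj_mono t ED)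
  have l4 : B ≤ cj k E := cj_of_mem_cent hk ▸ cj_mono k h.BE
  have q := sq_cj (fun _ => h.Esq β) k
  have c16 : #(cj k E) = 16 := by rw [card_cj, h.nE, c1]
  generalize cj k E = X at l3 l4 q c16
  have k1 : ∀ u ∈ X, u ∉ B → ∀ y ∈ A, u * y * u⁻¹ = y⁻¹ := fun u hu n y hy => by
    have h1 := hR.le (l3 hu).1
    have h2 := conj_mem_of_norm h1 hy
    refine eq_inv_of_mul_eq_one_right (by_contra fun y1 => n ((h.mB' β).2 ⟨mem_cent.2 fun v hv => ?_, t2_sq (q u hu)⟩))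
    obtain ⟨m, hm, e⟩ := h.trA (mul_mem hy h2) y1
    have h3 := h.mEn β hm (e ▸ of_cjc (by
      rw [← conj_mul, cjcj, q u hu, ← mem_cent.1 (h.p.ab hy) _ h2]; simp)) (l3 hu).2 ((pg23 hR.pi).elt (l3 hu).1)
    exact comm_eq_one.1 (mem_bot.1 (((h.pE.J m).inf_eq_bot (h.p.pg.sing_ne (by decide))).le ⟨by
      simpa [commutatorElement_def, mul_assoc] using mul_mem (conj_mem_of_norm (h.AEn β hm hv) h3) (inv_mem h3), by
      simpa [commutatorElement_def, mul_assoc] using mul_mem hv (conj_mem_of_norm h1 (inv_mem hv))⟩))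
  obtain ⟨u, hu, n⟩ := SetLike.exists_of_lt (lt_of_le_of_ne l4 fun e => by have := h.nB; rw [e] at this; omega)
  have nu : zpowers u ≤ N(B) := zpowers_le.2 (cent_le_norm _ (l3 hu).2)
  have := Nat.le_of_dvd (Nat.mul_pos (card_pos _) (card_pos _)) ((card_dvd (show X ≤ B ⊔ zpowers u from fun v hv => by
    by_cases n' : v ∈ B
    · exact mem_sup_left n'
    refine (Subgroup.mul_mem_cancel_right _ (mem_sup_right (mem_zpowers u))).1 (mem_sup_left ((h.mB' β).2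
      ⟨mem_cent.2 fun y hy => ?_, t2_sq (q _ (mul_mem hv hu))⟩))
    exact (mem_cent1.1 (of_cjc (by rw [← cjcj, k1 u hu n y hy, ← conj_inv, k1 v hv n' y hy, inv_inv]))).symm)).trans
      (card_sup_dvd nu))
  have := Nat.le_of_dvd (by decide) (orderOf_dvd_of_pow_eq_one (show u ^ 2 = 1 by rw [sq, q u hu]))
  rw [h.nB, c1, Nat.card_zpowers] at *
  omega
theorem big : cj σ E ≤ W := (h.dich β).resolve_left fun hW => by
  obtain ⟨S, hS⟩ := exists_syl 2 (h.pre T0)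
  exact (em (z = 1)).elim (h.st2b β hW hS) (h.st2a β hW hS)
end Cf
end H26.J4
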