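import Cfsg.Agent.H26.J4.K4

/-! The elementary abelian group `W`. -/

set_option autoImplicit false
set_option linter.unusedSectionVars false
set_option linter.unusedVariables false
set_option maxRecDepth 100000
open Subgroup H16 H19 H0 H0.TR H20.J4
open scoped commutatorElement
namespace H26.J4
variable {G : Type*} [Group G]
local notation "cj" => H19.cj

theorem Pr.w9 [Finite G] {x y g : G} (h : Pr x y) (h1 : g ∈ C[x]) (h2 : g * y * g⁻¹ = x * y) {K : Subgroup G} (hK : PG 2 K)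
    (n1 : x ∈ N(K)) (n2 : y ∈ N(K)) (n3 : g ∈ N(K)) : #K * #(K ⊓ C[x] ⊓ C[y] : Subgroup G) ^ 3 =
      #(K ⊓ C[x] : Subgroup G) * #(K ⊓ C[y] : Subgroup G) ^ 3 := by
  have := wiel9 h.ox h.oa h.c h.n hK n1 n2
  rw [← inf_assoc, ← cent_conj n3 (y := x * y) (by rw [cj_zpowers, h2]), ← cent_conj (mul_mem n3 n3) (y := x * x * y) (x := y)
    (by rw [cj_zpowers, ← cjcj, h2, ← conj_mul, cjc h1, h2, mul_assoc])] at this
  linear_combination this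
theorem Pr.casesC [Finite G] {x a y : G} (h : Pr x a) (hy : y ∈ zpowers x ⊔ zpowers a) (h1 : y ≠ 1) :
    C[y] = C[x] ∨ C[y] = C[a] ∨ C[y] = C[x * a] ∨ C[y] = C[x * x * a] := by
  obtain ⟨u, hu, e⟩ := h.cases hy h1
  have u3 : u ^ 3 = 1 := h.y3 (by
    rcases hu with rfl | rfl | rfl | rfl
    exacts [h.xA, h.aA, mul_mem h.xA h.aA, mul_mem (mul_mem h.xA h.xA) h.aA])
  rw [show C[y] = C[u] from e.elim (fun e => by rw [e]) fun e => e ▸ c_of_zp (zp_sq u3)]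
  rcases hu with rfl | rfl | rfl | rfl <;> simp

namespace Cf
variable [Finite G] {x z a b s t σ : G} {ρ : G → GPm} (h : Cf x z ρ a b s t σ)
include h
local notation "Z6" => zpowers (z * x)
local notation "N1" => N(zpowers x)
set_option quotPrecheck false in
local notation "ζ" => #(zpowers z)
local notation "A" => (zpowers x ⊔ zpowers a : Subgroup G)
local notation "E" => KN.L2 (Cf.toKN h) EE
local notation "U" => KN.L2 (Cf.toKN h) EU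
local notation "B" => KN.L2 (Cf.toKN h) VV
local notation "z₂" => σ * z * σ⁻¹
local notation "V" => ⁅E, zpowers b⁆
local notation "W₁" => ⁅E, zpowers a⁆
variable (β : z = 1 ∨ σ * z * σ⁻¹ ≠ z)
local notation "W" => Cf.Wg h
local notation "F" => ⁅W, zpowers x⁆
local notation "W₂" => cj σ W₁
local notation "W₃" => cj b W₂
local notation "W₄" => cj b W₃
theorem b3' (u : G) : b * (b * (b * u * b⁻¹) * b⁻¹) * b⁻¹ = u := by rw [cjcj, cjcj, ← pow_three', h.b3]; simp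
theorem d3 {y : G} (hy : y ∈ A) : (b * y) ^ 3 = 1 := by
  obtain ⟨i, -, j, -, rfl⟩ := h.p.mem hy
  have k : ∀ i, b * (x ^ i * a ^ j) * b⁻¹ = x ^ (i + j) * a ^ j := fun i => by
    rw [← conj_mul, ← conj_pow, ← conj_pow, cjc h.bx, h.ba, h.p.cm.mul_pow, pow_add, mul_assoc]
  have c := fun i j => (h.p.cm.pow_pow i j).symm
  rw [show ∀ y, (b * y) ^ 3 = b * y * b⁻¹ * (b * (b * y * b⁻¹) * b⁻¹) * (b ^ 3 * y) from fun y => by
    simp [pow_succ, mul_assoc], k, k, h.b3, one_mul, (c _ _).mul_mul_mul_comm, (show Commute (a ^ j * a ^ j) (x ^ i) from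
      (c _ _).mul_left (c _ _)).mul_mul_mul_comm, ← pow_add, ← pow_add, ← pow_three', pow_right_comm, h.a3,
    show i + j + (i + j + j) + i = 3 * (i + j) by ring, pow_mul, h.x3']
  simp
theorem WA : W₁ = ⁅E, A⁆ := by
  rw [commutator_comm E A, sup_comm, commg_sup_cent_left (zpowers_le.2 h.xCE) (zpowers_le.2 (cN a h.xa)), commutator_comm]
include β
theorem EnW {n : G} (hn : n ∈ N(A)) : cj n E ≤ W := by
  obtain ⟨m, h1, hm, e⟩ := h.cas (conj_mem_of_norm hn h.p.xA) (cj_ne1 h.x1)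
  rw [h.Eeq β hn hm (e.elim (fun e => by rw [e]) fun e => by rw [e, ← conj_inv, c_of_zp zpowers_inv])]
  have n := h.nEW h.bE
  rcases h1 with rfl | rfl | rfl | rfl
  · simpa using h.EW β
  · exact h.big β
  · exact cj_mul b σ _ ▸ cj_le_of_mem_norm n (h.big β)
  · exact cj_mul b _ _ ▸ cj_le_of_mem_norm n (cj_mul b σ _ ▸ cj_le_of_mem_norm n (h.big β))
theorem WnE {n : G} (hn : n ∈ N(A)) : W ⊓ C[n * x * n⁻¹] = cj n E :=
  le_antisymm (h.Wn β hn) (le_inf (h.EnW β hn) (h.EnB β hn).2.2)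
theorem Wgen {L : Subgroup G} (k : ∀ n ∈ N(A), cj n E ≤ L) : W ≤ L := h.p.gen h.AW h.Wh.pi fun y hy y1 => by
  obtain ⟨n, hn, rfl⟩ := h.trA hy y1
  exact (h.Wn β hn).trans (k n hn)
theorem WEn {m : G} (hm : m ∈ N(A)) : W ≤ C(cj m E) := h.Wgen β fun n hn => by
  rw [← cj_cent, le_cj_iff, cj_cj]; exact (h.EnW β (mul_mem (inv_mem hm) hn)).trans h.WC
theorem Wab : W ≤ C(W) := h.Wgen β fun n hn => cents_symm (h.WEn β hn)
theorem Wsq {w : G} (hw : w ∈ W) : w * w = 1 := sq w ▸ pow_of_mem_Ohm1 (comm_iff_le_cent.2 (h.Wab β))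
  (h.Wgen β (fun n hn c hc => mem_Ohm1 (h.EnW β hn hc) (by rw [sq, sq_cj (fun _ => h.Esq β) n c hc])) hw)
theorem Wc {u v : G} (hu : u ∈ W) (hv : v ∈ W) : Commute u v := comm_of_sq (fun _ => h.Wsq β) hu hv
theorem NAW : N(A) ≤ N(W) := fun n hn => mem_norm_of_cj_le (h.Wh.le_Oc (by
  rw [cj_le_iff, cj_cent]; exact h.WEn β (inv_mem hn)) (h.Wh.pi.J n))
theorem WaE : W ⊓ C[a] = cj σ E := h.σx ▸ h.WnE β h.σA
theorem nWg : #W = 1024 * ζ := by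
  have := h.cW β
  rw [h.WaE β, card_cj, h.nE] at this
  refine Nat.eq_of_mul_eq_mul_right (show 0 < ζ ^ 2 * 4 by have := card_pos (zpowers z); positivity) ?_
  linear_combination this
theorem CW : C(W) ≤ W := fun c hc => by
  obtain ⟨w, hw, y, hy, rfl⟩ := (mem_sup_of_norm (zpowers_le.2 (h.nEW h.xE))).1 (h.CEW.ge (cent_mono (h.EW β) hc))
  by_cases y1 : y = 1
  · rwa [y1, mul_one]
  have := card_le (le_inf le_rfl ((le_cent1_iff.2 ((Subgroup.mul_mem_cancel_left _ (h.Wab β hw)).1 hc)).trans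
    (c_of_zp (zp_prime Nat.prime_three h.x3 hy y1).2).le) |>.trans (h.Wx β).le)
  have := card_pos (zpowers z)
  rw [h.nWg β, h.nE] at *
  omega
theorem dF : Dprod E F W := by
  have := ab_cent_dprod (comm_iff_le_cent.2 (h.Wab β)) (zpowers_le.2 (h.nEW h.xE)) (cp3 (h.pW β) h.x3')
  rwa [cent_zpowers, h.Wx β] at this
theorem FW : F ≤ W := (h.dF β).right_le
theorem pF : PG 2 F := (h.pW β).of_le (h.FW β)
theorem nF : #F = 64 := by
  have := (h.dF β).card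
  have := card_pos (zpowers z)
  rw [h.nE, h.nWg β] at *
  nlinarith
theorem Fx : F ⊓ C[x] = ⊥ := by rw [← le_bot_iff, ← (h.dF β).inf, ← h.Wx β]; exact fun c hc => ⟨⟨h.FW β hc.1, hc.2⟩, hc.1⟩
theorem nrF {n : G} (h1 : n ∈ N1) (h2 : n ∈ N(E)) : n ∈ N(F) :=
  norms_comm (zpowers_le.2 (h.nEW h2)) (zpowers_le.2 h1) (mem_zpowers n)
theorem AF : A ≤ N(F) := sup_le (zpowers_le.2 (h.nrF β h.xN1 h.xE)) (zpowers_le.2 (h.nrF β h.aN h.aE))
theorem bF : b ∈ N(F) := h.nrF β h.bN h.bE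
theorem UF : U ≤ N(F) := fun u hu => h.nrF β (cN x (h.Ux hu)) (h.UE hu)
theorem Weq {n m : G} (hn : n ∈ N(A)) (hm : m ∈ N(A)) (e : C[n * x * n⁻¹] = C[m * x * m⁻¹]) : cj n W₁ = cj m W₁ := by
  rw [h.WA, H19.cj_comm, H19.cj_comm, h.Eeq β hn hm e, cj_of_mem_norm hn, cj_of_mem_norm hm]
theorem F2 : F ⊓ C[a] = W₂ := by
  have := h.p.w9 h.bx h.ba (h.pF β) (h.AF β h.p.xA) (h.AF β h.p.aA) (h.bF β)
  rw [h.Fx β, bot_inf_eq, card_bot, h.nF β] at this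
  refine (eq_of_le_of_card_eq (le_inf ?_ (h.σC ▸ cj_mono σ ((h.WE β).trans h.Ex))) ?_).symm
  · rw [H19.cj_comm, cj_zpowers, h.σa]; exact commutator_mono (h.big β) le_rfl
  · rw [card_cj, h.nW β]; exact Nat.pow_left_injective (by decide : 3 ≠ 0) (by simpa using this)
theorem F3 : F ⊓ C[x * a] = W₃ := by rw [← h.F2 β, cj_inf, cj_of_mem_norm (h.bF β), cj_cent1, h.ba]
theorem F4 : F ⊓ C[x * x * a] = W₄ := by
  rw [← h.F3 β, cj_inf, cj_of_mem_norm (h.bF β), cj_cent1, ← conj_mul, cjc h.bx, h.ba, mul_assoc]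
theorem W2F : W₂ ≤ F := h.F2 β ▸ inf_le_left
theorem W3F : W₃ ≤ F := h.F3 β ▸ inf_le_left
theorem W4F : W₄ ≤ F := h.F4 β ▸ inf_le_left
theorem n234 : #(W₂) = 4 ∧ #(W₃) = 4 ∧ #(W₄) = 4 := by simp only [card_cj, h.nW β, and_self]
theorem AWn {n : G} (hn : n ∈ N(A)) : A ≤ N(cj n W₁) := by
  rw [← cj_norm, ← cj_of_mem_norm hn, h.WA]; exact cj_mono n (commg_normr _ _)
theorem A2 : A ≤ N(W₂) := h.AWn β h.σA
theorem A3 : A ≤ N(W₃) := cj_cj b σ _ ▸ h.AWn β (mul_mem h.bA h.σA)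
theorem A4 : A ≤ N(W₄) := by
  rw [cj_cj b σ, cj_cj]; exact h.AWn β (mul_mem h.bA (mul_mem h.bA h.σA))
theorem p1 : cj b W₁ = W₁ := cj_of_mem_cent (le_cent1_iff.1 (h.Wb β))
theorem p2 : cj σ W₂ = W₁ := by
  rw [cj_cj, h.Weq β (mul_mem h.σA h.σA) (one_mem _) (by rw [cjc h.σσ]; simp), cj_one]
theorem p3 : cj σ W₃ = W₃ := by
  simp only [cj_cj]
  exact h.Weq β (mul_mem h.σA (mul_mem h.bA h.σA)) (mul_mem h.bA h.σA) (by rw [← cjcj, h.e3, ← conj_mul, h.σx, h.σa, h.p.cm])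
theorem xa4 : zpowers (x * a⁻¹) = zpowers (x * x * a) := by
  rw [← zpowers_inv, mul_inv_rev, inv_inv, ← eq_inv_of_mul_eq_one_left (pow_three' x ▸ h.x3'), (h.p.cm.mul_left h.p.cm).eq]
theorem p4 : cj σ W₄ = W₄ := by
  simp only [cj_cj]
  refine h.Weq β (mul_mem h.σA (mul_mem h.bA (mul_mem h.bA h.σA))) (mul_mem h.bA (mul_mem h.bA h.σA)) (c_of_zp ?_)
  rw [← cjcj, h.e4, ← conj_mul, ← conj_mul, h.σx, h.σa, ← h.xa4 β,
    show a * a = a⁻¹ from eq_inv_of_mul_eq_one_left (pow_three' a ▸ h.a3),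
    h.p.cm.inv_right.eq]
theorem p5 : cj b W₄ = W₂ := by rw [cj_cj, cj_cj, ← pow_three', h.b3, cj_one]
theorem sF : s ∈ N(F) := h.nrF β h.sN h.sE
theorem s2' : cj s W₂ = W₂ := by rw [← h.F2 β, cj_inf, cj_of_mem_norm (h.sF β), cj_cent1, h.sa, c_of_zp zpowers_inv]
theorem s3 : cj s W₃ = W₄ := by
  rw [← h.F4 β, ← h.F3 β, cj_inf, cj_of_mem_norm (h.sF β), cj_cent1, ← conj_mul, cjc h.sx, h.sa, c_of_zp (h.xa4 β)]
theorem s4 : cj s W₄ = W₃ := by rw [← h.s3 β, cj_cj, h.LP β h.sx h.s2 (h.ρs ▸ ss), cj_one]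
theorem Fi {K L : Subgroup G} (h1 : L ≤ F) (c : #L = 4) (h2 : x ∈ N(K ⊓ L)) : K ⊓ L = ⊥ ∨ L ≤ K :=
  (irr4 bot_le inf_le_right (by simp [c]) (by simp) h.x3' (mem_norm_iff_cj.2 (cj_bot x)) h2
    (h.Fx β ▸ inf_le_inf_right _ (inf_le_right.trans h1))).imp_right fun e => e.ge.trans inf_le_left
theorem Finv {K L : Subgroup G} (h1 : K ≤ F) (h2 : A ≤ N(K)) (k2 : W₂ ≤ K → W₂ ≤ L) (k3 : W₃ ≤ K → W₃ ≤ L)
    (k4 : W₄ ≤ K → W₄ ≤ L) : K ≤ L := by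
  have k : ∀ {y M}, F ⊓ C[y] = M → #M = 4 → A ≤ N(M) → (M ≤ K → M ≤ L) → K ⊓ C[y] ≤ L := fun e c n k => by
    rw [← inf_eq_left.2 h1, inf_assoc, e]
    exact (h.Fi β (e ▸ inf_le_left) c (norms_inf h2 n h.p.xA)).elim (fun e => e ▸ bot_le) fun l => inf_le_right.trans (k l)
  obtain ⟨c2, c3, c4⟩ := h.n234 β
  exact h.p.gen4 h2 (pg23 ((h.pF β).of_le h1)) ((inf_le_inf_right _ h1).trans (h.Fx β ▸ bot_le)) (k (h.F2 β) c2 (h.A2 β) k2)
    (k (h.F3 β) c3 (h.A3 β) k3) (k (h.F4 β) c4 (h.A4 β) k4)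
theorem Fall {L : Subgroup G} (k2 : W₂ ≤ L) (k3 : W₃ ≤ L) (k4 : W₄ ≤ L) : F ≤ L :=
  h.Finv β le_rfl (h.AF β) (fun _ => k2) (fun _ => k3) fun _ => k4
theorem d234 : W₂ ⊓ (W₃ ⊔ W₄) = ⊥ := inf_comm (W₃ ⊔ W₄) _ ▸ (h.Fi β (h.W2F β) (h.n234 β).1 (norms_inf (norms_sup (h.A3 β) (h.A4 β))
    (h.A2 β) h.p.xA)).resolve_right fun l => by
  have := Nat.le_of_dvd (Nat.mul_pos (card_pos _) (card_pos _)) ((card_dvd (h.Fall β l le_sup_left le_sup_right)).trans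
    (card_sup_dvd (norms_of_cents (cents_mono (h.Wab β) ((h.W4F β).trans (h.FW β)) ((h.W3F β).trans (h.FW β))))))
  rw [h.nF β, (h.n234 β).2.1, (h.n234 β).2.2] at this
  omega
theorem nFU : ¬ F ≤ C(U) := fun l => by
  obtain ⟨u, hu, eu⟩ := h.lift UM pgU uU
  have n : ∀ {g}, g ∈ N1 → g ∈ N(F) → ρ g ∈ N(h.im (N1 ⊓ C(F))) := fun h1 h2 => h.im_norm h1
    (norms_inf (zpowers_le.2 (le_normalizer h1)) (zpowers_le.2 (norm_le_norm_cent _ h2)) (mem_zpowers _))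
  obtain ⟨e, he, k⟩ := U4 (eu ▸ h.im_of ⟨cN x (h.Ux hu), cents_symm l hu⟩ (cN x (h.Ux hu)))
    (h.ρa ▸ n h.aN (h.AF β h.p.aA)) (h.ρb ▸ n h.bN (h.bF β))
  obtain ⟨e, he', rfl⟩ := h.lift EM pgE he
  obtain ⟨c, hc, h1, e1⟩ := h.mem_im.1 k
  have l1 : E ≤ C(F) := (h.EW β).trans ((h.Wab β).trans (cent_mono (h.FW β)))
  obtain ⟨j, e2⟩ := h.memZ (h.div' (mul_mem (inv_mem (cN x (h.Ex he'))) h1) h.aN (by
    rw [h.mul' _ (inv_mem (cN x (h.Ex he'))) _ h1, h.inv' (cN x (h.Ex he')), e1, h.ρa, inv_mul_cancel_left]))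
  have h2 := mul_mem (inv_mem (l1 he')) hc.2
  rw [mul_inv_eq_iff_eq_mul.1 e2, mul_assoc, Subgroup.mul_mem_cancel_left _ (pow_mem (l1 h.zE) j)] at h2
  have h3 := mul_mem (pow_mem h.p.xA j) h.p.aA
  have c1 : #(F ⊓ C[x ^ j * a] : Subgroup G) = 64 := by rw [← h.nF β, inf_eq_left.2 (le_cent1_iff.2 h2)]
  obtain ⟨c2, c3, c4⟩ := h.n234 β
  rcases h.p.casesC h3 fun e => h.p.n (eq_inv_of_mul_eq_one_right e ▸ inv_mem (pow_mem (mem_zpowers x) j)) with e | e | e | e <;>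
    rw [e] at c1
  · rw [h.Fx β] at c1; simp at c1
  · rw [h.F2 β] at c1; omega
  · rw [h.F3 β] at c1; omega
  · rw [h.F4 β] at c1; omega
theorem two : ⁅F, U⁆ ≤ W₂ ∧ W₂ ≤ C(U) ∨ ⁅F, U⁆ ≤ W₃ ⊔ W₄ ∧ W₃ ≤ C(U) ∧ W₄ ≤ C(U) := by
  have AU : A ≤ N(U) := sup_le (zpowers_le.2 h.xU) (zpowers_le.2 h.aU)
  have l := commg_le_left (h.UF β)
  have n1 := norms_comm (h.AF β) AU
  have k : ∀ {K}, s ∈ N(K) → (W₃ ≤ K ↔ W₄ ≤ K) := fun n =>
    ⟨fun l => h.s3 β ▸ cj_le_of_mem_norm n l, fun l => h.s4 β ▸ cj_le_of_mem_norm n l⟩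
  have k1 := k (norms_comm (zpowers_le.2 (h.sF β)) (zpowers_le.2 h.sU) (mem_zpowers s))
  have k2 := k (norm_le_norm_cent _ h.sU)
  have d := ((h.pF β).of_le l).meet_cent h.pU (commg_normr _ _) fun e => h.nFU β (commg_eq_bot.1 e)
  have k3 := fun k2 k3 k4 => d (le_bot_iff.1 (h.Finv β (inf_le_left.trans l) (norms_inf n1 (norms_cent AU)) k2 k3 k4))
  by_cases e : W₃ ≤ ⁅F, U⁆
  · have n2 : ¬ W₂ ≤ ⁅F, U⁆ := fun e2 => ((h.pF β).commg_lt h.pU (h.UF β) fun e => by simpa [e] using h.nF β).not_ge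
      (h.Fall β e2 e (k1.1 e))
    have : W₃ ≤ C(U) := by_contra fun n => k3 (fun e => (n2 (e.trans inf_le_left)).elim)
      (fun e => (n (e.trans inf_le_right)).elim) fun e => (n (k2.2 (e.trans inf_le_right))).elim
    exact .inr ⟨h.Finv β l n1 (fun e => (n2 e).elim) (fun _ => le_sup_left) fun _ => le_sup_right, this, k2.1 this⟩
  · exact .inl ⟨h.Finv β l n1 (fun _ => le_rfl) (fun e1 => (e e1).elim) fun e1 => (e (k1.2 e1)).elim,
      by_contra fun n => k3 (fun e => (n (e.trans inf_le_right)).elim) (fun e1 => (e (e1.trans inf_le_left)).elim)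
        fun e1 => (e (k1.2 (e1.trans inf_le_left))).elim⟩
end Cf
end H26.J4
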