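import Cfsg.Agent.H26.J4.L0

/-! The case of the triple cover is impossible. -/

set_option autoImplicit false
set_option linter.unusedSectionVars false
set_option linter.unusedVariables false
set_option maxRecDepth 100000
open Subgroup H16 H19 H0 H0.TR H20.J4
open scoped commutatorElement
namespace H26.J4
variable {G : Type*} [Group G]
local notation "cj" => H19.cj

theorem orbU [Finite G] {K M R : Subgroup G} {y w k0 k : G} (c : #K = 4) (y3 : y ^ 3 = 1) (n : y ∈ N(K)) (e : K ⊓ C[y] = ⊥)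
    (h1 : y ∈ C[w]) (h2 : y ∈ N(R)) (h3 : y ∈ N(M)) (h4 : k0 ∈ K) (h5 : k0 ≠ 1)
    (h6 : ∃ u ∈ R, ∃ m ∈ M, u * w * u⁻¹ = w * k0 * m) (hk : k ∈ K) : ∃ u ∈ R, ∃ m ∈ M, u * w * u⁻¹ = w * k * m := by
  have s : ∀ k, (∃ u ∈ R, ∃ m ∈ M, u * w * u⁻¹ = w * k * m) → ∃ u ∈ R, ∃ m ∈ M, u * w * u⁻¹ = w * (y * k * y⁻¹) * m :=
    fun k ⟨u, hu, m, hm, e⟩ => ⟨_, conj_mem_of_norm h2 hu, _, conj_mem_of_norm h3 hm, by
      nth_rw 1 [← cjc h1]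
      rw [conj_inv, conj_mul, conj_mul, e, ← conj_mul, ← conj_mul, cjc h1]⟩
  by_cases k1 : k = 1
  · exact ⟨1, one_mem _, 1, one_mem _, by simp [k1]⟩
  rcases orb4 c y3 n e h4 h5 hk k1 with rfl | rfl | rfl
  exacts [h6, s _ h6, s _ (s _ h6)]
theorem cent4 [Finite G] {K M R : Subgroup G} {y w : G} (c : #K = 4) (y3 : y ^ 3 = 1) (n : y ∈ N(K)) (e : K ⊓ C[y] = ⊥)
    (h1 : R ≤ C[y]) (h3 : y ∈ N(M)) (hw : w ∈ K) (w1 : w ≠ 1) (h : ∀ u ∈ R, w⁻¹ * (u * w * u⁻¹) ∈ M) {v : G} (hv : v ∈ K) :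
    ∀ u ∈ R, v⁻¹ * (u * v * u⁻¹) ∈ M := by
  have s : ∀ w, (∀ u ∈ R, w⁻¹ * (u * w * u⁻¹) ∈ M) → ∀ u ∈ R, (y * w * y⁻¹)⁻¹ * (u * (y * w * y⁻¹) * u⁻¹) ∈ M :=
    fun w h u hu => by
      have := conj_mem_of_norm h3 (h u hu)
      rwa [← conj_mul, ← conj_mul, ← conj_mul, ← conj_inv, ← conj_inv, cjc' (h1 hu)] at this
  by_cases k1 : v = 1
  · simp [k1]
  rcases orb4 c y3 n e hw w1 hv k1 with rfl | rfl | rfl
  exacts [h, s _ h, s _ (s _ h)]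
theorem cjmul (a b c : G) : a * (b * c) * a⁻¹ = a * b * a⁻¹ * (a * c * a⁻¹) := conj_mul.symm
theorem zcj {z w : G} (u : G) : IsConj z (u * w * u⁻¹) ↔ IsConj z w :=
  ⟨fun e => e.trans (isConj_iff.2 ⟨u, rfl⟩).symm, fun e => e.trans (isConj_iff.2 ⟨u, rfl⟩)⟩

namespace Cf
variable [Finite G] {x z a b s t σ : G} {ρ : G → GPm} (h : Cf x z ρ a b s t σ)
include h
local notation "Z6" => zpowers (z * x)
local notation "N1" => N(zpowers x)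
set_option quotPrecheck false in
local notation "ζ" => #(zpowers z)
local notation "A" => (zpowers x ⊔ zpowers a : Subgroup G)
local notation "E" => KN.L2 (Cf.toKN h) EE
local notation "U" => KN.L2 (Cf.toKN h) EU
local notation "B" => KN.L2 (Cf.toKN h) VV
local notation "z₂" => σ * z * σ⁻¹
local notation "V" => ⁅E, zpowers b⁆
local notation "W₁" => ⁅E, zpowers a⁆
variable (β : z = 1 ∨ σ * z * σ⁻¹ ≠ z)
local notation "W" => Cf.Wg h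
local notation "F" => ⁅W, zpowers x⁆
local notation "W₂" => cj σ W₁
local notation "W₃" => cj b W₂
local notation "W₄" => cj b W₃
include β
theorem d23 : W₂ ⊓ W₃ = ⊥ := H19.eq_bot_mono (inf_le_inf_left _ le_sup_left) (h.d234 β)
theorem d34 : W₃ ⊓ W₄ = ⊥ := by rw [← cj_inf, h.d23 β, cj_bot]
theorem W2a : W₂ ≤ C[a] := h.F2 β ▸ inf_le_right
theorem W3a : W₃ ≤ C[x * a] := h.F3 β ▸ inf_le_right
theorem dF' {K : Subgroup G} (l : K ≤ F) : K ⊓ C[x] = ⊥ := H19.eq_bot_mono (inf_le_inf_right _ l) (h.Fx β)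
theorem cII (h1 : ⁅F, U⁆ ≤ W₂) (h2 : W₂ ≤ C(U)) {w v : G} (hw : w ∈ W₃) (w1 : w ≠ 1) (hv : v ∈ W₂) :
    ∃ u ∈ U, u * w * u⁻¹ = w * v := by
  have m := mul_mem h.p.xA h.p.aA
  obtain ⟨u, hu, e⟩ : ∃ u ∈ U, w⁻¹ * (u * w * u⁻¹) ∉ (⊥ : Subgroup G) := by
    by_contra! k
    have l : W₃ ≤ C(U) := fun v hv => mem_cent.2 fun u hu => mem_cent1.1 (of_cjc (inv_mul_eq_one.1 (cent4 (h.n234 β).2.1 h.x3'
      (h.A3 β h.p.xA) (h.dF' β (h.W3F β)) h.Ux (mem_norm_iff_cj.2 (cj_bot x)) hw w1 k hv u hu)).symm)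
    exact h.nFU β (h.Fall β h2 l (h.s3 β ▸ cj_le_of_mem_norm (norm_le_norm_cent _ h.sU) l))
  obtain ⟨u, hu, _, rfl, e⟩ := orbU (M := ⊥) (h.n234 β).1 (h.p.y3 m) (h.A2 β m) (by
      rw [← inf_eq_left.2 (h.W2F β), inf_assoc, h.F3 β, h.d23 β]) (mem_cent1_symm.1 (h.W3a β hw)) (mul_mem h.xU h.aU)
    (mem_norm_iff_cj.2 (cj_bot _)) (h1 (by
      simpa [commutatorElement_def, mul_assoc] using commutator_mem_commutator (inv_mem (h.W3F β hw)) hu)) e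
    ⟨u, hu, 1, one_mem _, by simp⟩ hv
  exact ⟨u, hu, by simpa using e⟩
theorem cI (h1 : ⁅F, U⁆ ≤ W₃ ⊔ W₄) (h3 : W₃ ≤ C(U)) (h4 : W₄ ≤ C(U)) {w v : G} (hw : w ∈ W₂) (w1 : w ≠ 1) (hv : v ∈ W₃) :
    ∃ u ∈ U, ∃ m ∈ W₄, u * w * u⁻¹ = w * v * m := by
  obtain ⟨u, hu, e⟩ : ∃ u ∈ U, w⁻¹ * (u * w * u⁻¹) ∉ W₄ := by
    by_contra! k
    have k1 := fun v hv => cent4 (h.n234 β).1 h.x3' (h.A2 β h.p.xA) (h.dF' β (h.W2F β)) h.Ux (h.A4 β h.p.xA) hw w1 k (v := v) hv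
    refine h.nFU β (h.Fall β (fun v hv => mem_cent.2 fun u hu => mem_cent1.1 (of_cjc (inv_mul_eq_one.1
      ((h.d34 β).le ⟨?_, k1 v hv u hu⟩)).symm)) h3 h4)
    have := conj_mem_cj (g := s).2 (k1 _ (conj_mem_of_norm' (mem_norm_iff_cj.2 (h.s2' β)) hv) _ (conj_mem_of_norm' h.sU hu))
    rw [h.s4 β] at this
    simpa [mul_assoc] using this
  obtain ⟨p, hp, q, hq, e1⟩ := (mem_sup_of_norm (norms_of_cents (cents_mono (h.Wab β) ((h.W4F β).trans (h.FW β))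
    ((h.W3F β).trans (h.FW β))))).1 (h1 (show w⁻¹ * (u * w * u⁻¹) ∈ _ by
      simpa [commutatorElement_def, mul_assoc] using commutator_mem_commutator (inv_mem (h.W2F β hw)) hu))
  exact orbU (h.n234 β).2.1 h.a3 (h.A3 β h.p.aA) (by rw [← inf_eq_left.2 (h.W3F β), inf_assoc, h.F2 β, inf_comm, h.d23 β])
    (mem_cent1_symm.1 (h.W2a β hw)) h.aU (h.A4 β h.p.aA) hp (fun e2 => e (by rwa [e1, e2, one_mul]))
    ⟨u, hu, q, hq, by rw [mul_assoc w, ← e1, mul_inv_cancel_left]⟩ hv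
theorem σW : σ ∈ N(W) := h.NAW β h.σA
theorem bW : b ∈ N(W) := h.NAW β h.bA
theorem UW : U ≤ N(W) := h.UE.trans h.nEW
theorem W1W : W₁ ≤ W := (h.WE β).trans (h.EW β)
theorem W2W : W₂ ≤ W := (h.W2F β).trans (h.FW β)
theorem W3W : W₃ ≤ W := (h.W3F β).trans (h.FW β)
theorem W4W : W₄ ≤ W := (h.W4F β).trans (h.FW β)
omit β in
/-- conjugate into `E` under `N(W)` -/
def O (w : G) : Prop := ∃ n ∈ N(W), n * w * n⁻¹ ∈ E
theorem Oc {n w : G} (hn : n ∈ N(W)) (k : h.O (n * w * n⁻¹)) : h.O w := by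
  obtain ⟨m, hm, e⟩ := k
  exact ⟨_, mul_mem hm hn, cjcj m n w ▸ e⟩
theorem OE {n w : G} (hn : n ∈ N(A)) (k : w ∈ cj n E) : h.O w := ⟨_, inv_mem (h.NAW β hn), by simpa using mem_cj.1 k⟩
theorem OB {v w : G} (hv : v ∈ B) (hw : w ∈ W₂) : h.O (v * w) :=
  h.OE β h.σA (mul_mem ((h.EnB β h.σA).1 hv) (cj_mono σ (h.WE β) hw))
theorem cU1 {e : G} (he : e ∈ E) : ∃ u ∈ U, u * e * u⁻¹ ∈ B ∨ u * e * u⁻¹ ∈ W₁ ∨ u * e * u⁻¹ * z ∈ W₁ := by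
  obtain ⟨m, hm, k⟩ := U1 (h.mE.1 he).2.1
  obtain ⟨u, hu, rfl⟩ := h.lift UM pgU hm
  have m := h.mE.1 (conj_mem_of_norm (h.UE hu) he)
  rw [← h.conj (h.Ux hu) (h.Ex he)] at k
  refine ⟨u, hu, k.imp (fun k => h.mB.2 ⟨m.1, k, m.2.2⟩) fun k => ?_⟩
  obtain ⟨w, hw, e1⟩ := h.liftW β k
  have m1 := h.mE.1 (h.WE β hw)
  exact (h.eq2 m.1 m1.1 m.2.2 m1.2.2 e1.symm).imp (fun e => by rwa [e]) fun e => by rwa [e, mul_assoc, h.zz, mul_one]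
theorem O3 (z1 : z = 1) {p q r : G} (hp : p ∈ W₂) (p1 : p ≠ 1) (hq : q ∈ W₃) (hr : r ∈ W₄) (r1 : r ≠ 1) : h.O (p * q * r) := by
  have cσ := fun {K w} => conj_mem_cj (g := σ) (H := K) (x := w).2
  have cb := fun {K w} => conj_mem_cj (g := b) (H := K) (x := w).2
  rcases h.two β with ⟨h1, h2⟩ | ⟨h1, h3, h4⟩
  · have k1 : ∀ w ∈ W₁, ∀ v ∈ W₂, h.O (w * v) := fun w hw v hv => by
      by_cases w1 : w = 1
      · exact h.OB β (w1 ▸ one_mem _) hv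
      have m1 := h.p3 β ▸ cσ (cb (cσ hw))
      obtain ⟨u, hu, e⟩ := h.cII β h1 h2 m1 (cj_ne1 (cj_ne1 (cj_ne1 w1))) (cσ (h.p1 β ▸ cb (h.p2 β ▸ cσ hv)))
      refine h.Oc β (h.σW β) (h.Oc β (h.bW β) (h.Oc β (h.σW β) (h.Oc β (inv_mem (h.UW β hu)) ?_)))
      rw [cjmul σ w v, cjmul b _ (σ * v * σ⁻¹), cjmul σ _ (b * (σ * v * σ⁻¹) * b⁻¹), ← e, cjcj, inv_mul_cancel, one_mul, inv_one, mul_one]
      exact h.OE β (mul_mem h.bA h.σA) (cj_mul b σ _ ▸ cj_mono b (cj_mono σ (h.WE β)) m1)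
    have k2 : ∀ e ∈ E, ∀ v ∈ W₂, h.O (e * v) := fun e he v hv => by
      obtain ⟨u, hu, k⟩ := h.cU1 β he
      refine h.Oc β (h.UW β hu) ?_
      rw [cjmul u e v, cjc (le_cent1_iff.2 (h2 hv) hu)]
      rcases k with k | k | k
      exacts [h.OB β k hv, k1 _ k v hv, k1 _ (by simpa [z1] using k) v hv]
    have m1 := h.p1 β ▸ cb (h.p1 β ▸ cb (h.p2 β ▸ cσ hp))
    have m2 := h.p5 β ▸ cb (cb (h.p3 β ▸ cσ hq))
    have m3 := cb (h.p5 β ▸ cb (h.p4 β ▸ cσ hr))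
    obtain ⟨u, hu, e⟩ := h.cII β h1 h2 m3 (cj_ne1 (cj_ne1 (cj_ne1 r1))) m2
    refine h.Oc β (h.σW β) (h.Oc β (h.bW β) (h.Oc β (h.bW β) (h.Oc β (h.UW β hu) (h.Oc β (h.bW β) (h.Oc β (h.bW β) ?_)))))
    rw [cjmul σ _ r, cjmul σ p q, cjmul b _ (σ * r * σ⁻¹), cjmul b _ (σ * q * σ⁻¹), cjmul b _ (b * (σ * r * σ⁻¹) * b⁻¹),
      cjmul b _ (b * (σ * q * σ⁻¹) * b⁻¹)]
    generalize b * (b * (σ * p * σ⁻¹) * b⁻¹) * b⁻¹ = p at *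
    generalize b * (b * (σ * q * σ⁻¹) * b⁻¹) * b⁻¹ = q at *
    generalize b * (b * (σ * r * σ⁻¹) * b⁻¹) * b⁻¹ = r at *
    rw [cjmul u _ r, cjmul u p q, e, cjc (le_cent1_iff.2 (h2 m2) hu), ← (h.Wc β (h.W2W β m2) (h.W3W β m3)).eq, mul_assoc _ q,
      ← mul_assoc q, h.Wsq β (h.W2W β m2), one_mul, cjmul b _ r, cjmul b _ (b * r * b⁻¹)]
    exact k2 _ (conj_mem_of_norm h.bE (conj_mem_of_norm h.bE (conj_mem_of_norm (h.UE hu) (h.WE β m1)))) _ (h.p5 β ▸ cb (cb m3))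
  · obtain ⟨u, hu, m, hm, e⟩ := h.cI β h1 h3 h4 hp p1 hq
    refine h.Oc β (h.UW β hu) (h.Oc β (h.σW β) (h.Oc β (h.bW β) ?_))
    rw [cjmul u _ r, cjmul u p q, e, cjc (le_cent1_iff.2 (h3 hq) hu), cjc (le_cent1_iff.2 (h4 hr) hu), mul_assoc p,
      ← (h.Wc β (h.W4W β hm) (h.W3W β hq)).eq, mul_assoc p, mul_assoc m, h.Wsq β (h.W3W β hq), mul_one, mul_assoc p,
      cjmul σ p, cjmul b (σ * p * σ⁻¹)]
    have m1 := h.p1 β ▸ cb (h.p2 β ▸ cσ hp)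
    have m2 := h.p5 β ▸ cb (h.p4 β ▸ cσ (mul_mem hm hr))
    have w1 : b * (σ * p * σ⁻¹) * b⁻¹ ≠ 1 := cj_ne1 (cj_ne1 p1)
    generalize b * (σ * p * σ⁻¹) * b⁻¹ = w at *
    generalize b * (σ * (m * r) * σ⁻¹) * b⁻¹ = v at *
    obtain ⟨w0, h0, e0⟩ := h.liftW β T4a.2.2.2.2.2.1
    obtain ⟨u1, k1, e1⟩ := h.lift UM pgU T4a.2.2.2.2.1
    obtain ⟨u2, k2, e2⟩ := h.lift UM pgU uU
    have c1 := cjm h.bx (cjm h.bx (h.Ux k1))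
    have c2 := cjm h.bx (h.Ux k2)
    have n1 := cjm h.bE (cjm h.bE (h.UE k1))
    have n2 := cjm h.bE (h.UE k2)
    have k : h.O (w0 * v) := by
      have m3 := h.mE.1 (conj_mem_of_norm (mul_mem n1 n2) (h.WE β h0))
      refine h.Oc β (h.nEW (mul_mem n1 n2)) ?_
      rw [cjmul _ w0 v, cjc (b := v) (mul_mem (le_cent1_iff.2 (cj_cent b _ ▸ cj_cent b _ ▸ cj_mono b (cj_mono b h3)
        ((h.p5 β).ge m2)) (cb (cb k1))) (le_cent1_iff.2 (cj_cent b _ ▸ cj_mono b h4 ((h.p5 β).ge m2)) (cb k2)))]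
      · refine h.OB β (h.mB.2 ⟨m3.1, ?_, m3.2.2⟩) m2
        rw [h.conj (mul_mem c1 c2) (h.Ex (h.WE β h0)), h.mul _ c1 _ c2, h.conj h.bx (cjm h.bx (h.Ux k1)), h.conj h.bx (h.Ux k1),
          h.conj h.bx (h.Ux k2), h.ρb, e0, e1, e2, cj_of U5]
        exact vV
    have k' : ∀ w, h.O (w * v) → h.O (a * w * a⁻¹ * v) := fun w k => h.Oc β (inv_mem (h.AW h.p.aA)) (by
      rwa [show a⁻¹ * (a * w * a⁻¹ * v) * a⁻¹⁻¹ = w * (a⁻¹ * (v * a)) by group, mem_cent1.1 (h.W2a β m2), inv_mul_cancel_left])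
    rcases orb4 (h.nW β) h.a3 (h.aW β) (h.Wa β) h0 (fun e => T4a.2.2.2.2.2.2.1 (by rw [← e0, e, h.one])) m1 w1 with rfl | rfl | rfl
    exacts [k, k' _ k, k' _ (k' _ k)]
theorem pc : Pr x (b * a) := ⟨h.x3, h.d3 h.p.aA, mul_mem h.bx h.ax, h.nx (by
  rw [h.mul _ h.bx _ h.ax, h.ρa, h.ρb]; exact fun e => J4.ba (eq_inv_of_mul_eq_one_left e ▸ inv_mem (mem_zpowers _)))⟩
theorem ac : a⁻¹ * (b * a) * a⁻¹⁻¹ = x * (b * a) := by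
  nth_rw 1 [mul_inv_eq_iff_eq_mul.1 h.ba]; rw [h.p.cm.eq]; group
theorem Ec' {y : G} (hy : y ∈ C[x]) {i j : ℕ} (hi : i ∈ [1, 2]) (hj : j ∈ [1, 2]) (e : ρ y = va ^ i * vb ^ j) :
    E ⊓ C[y] = zpowers z := le_antisymm (fun c hc => h.z2 ((h.ker c (h.Ex hc.1)).1 (Ec (h.mE.1 hc.1).2.1 hi hj
      (e ▸ h.cρ (cN x (h.Ex hc.1)) (cN x hy) hc.2))) (h.mE.1 hc.1).2.2) (zpowers_le.2 ⟨h.zE, mem_cent1_symm.1 (h.zC hy)⟩)
theorem ρc : ρ (b * a) = va ^ 1 * vb ^ 1 := by rw [h.mul _ h.bx _ h.ax, h.ρa, h.ρb, ← ab]; simp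
theorem z_ne : z ≠ 1 := fun z1 => by
  obtain ⟨w, hw, w1⟩ := exists_ne_one (H := W₂) fun e => by simpa [e] using (h.n234 β).1
  have cA := mul_mem h.bA (le_normalizer h.p.aA)
  have m1 : b * a * w * (b * a)⁻¹ ∈ W₃ := cjcj b a w ▸ conj_mem_cj.2 (conj_mem_of_norm (h.A2 β h.p.aA) hw)
  have m2 : b * a * (b * a * w * (b * a)⁻¹) * (b * a)⁻¹ ∈ W₄ := cjcj b a _ ▸ conj_mem_cj.2 (conj_mem_of_norm (h.A3 β h.p.aA) m1)
  obtain ⟨n, hn, k⟩ := h.O3 β z1 hw w1 m1 m2 (cj_ne1 (cj_ne1 w1))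
  have f1 := tr3 (h.pc β).a3 (h.Wc β (h.W2W β hw) (h.W3W β m1)) (h.Wc β (h.W2W β hw) (h.W4W β m2))
  have f2 : w * (b * a * w * (b * a)⁻¹) * (b * a * (b * a * w * (b * a)⁻¹) * (b * a)⁻¹) ≠ 1 := fun e => w1 ((h.d234 β).le
    (mem_inf.2 ⟨hw, by rw [mul_assoc] at e; rw [eq_inv_of_mul_eq_one_left e]; exact inv_mem (mul_mem_sup m1 m2)⟩))
  generalize w * (b * a * w * (b * a)⁻¹) * (b * a * (b * a * w * (b * a)⁻¹) * (b * a)⁻¹) = f at *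
  obtain ⟨n, hn, k⟩ : ∃ n ∈ N(W), n * f * n⁻¹ ∈ B := by
    obtain ⟨u, hu, e⟩ := h.cU1 β k
    have k1 := mul_mem (h.UW β hu) hn
    rw [cjcj, mul_eq_left.2 z1, or_self] at e
    exact e.elim (fun e => ⟨_, k1, e⟩) fun e => ⟨_, mul_mem (h.nEW h.tE) k1, cjcj t _ f ▸ h.VB β ((h.tW β).le (conj_mem_cj.2 e))⟩
  have l : A ≤ N(W) ⊓ C[n * f * n⁻¹] := le_inf h.AW (le_cent1_iff.2 ((h.mB' β).1 k).1)
  obtain ⟨P, hP, l1⟩ := h.p.pg.exists_syl l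
  obtain ⟨e1, -, c, sT⟩ := h.syl h.sylP
  obtain rfl : A = P := by_contra fun ne => by
    have := hP.pi.card_mul_le (lt_of_le_of_ne l1 ne)
    obtain ⟨m, -, rfl⟩ := sT.sconj (sT.of_card_le le_top hP.pi (by rwa [c, h.p.card] at *))
    have l2 := cj_le_iff.1 (hP.le.trans inf_le_right)
    rw [cj_cent1] at l2
    have := h.zP (mem_cent1_symm.1 (l2 (mem_sup_left h.p.xA))) (T2.cj (h.mB.1 k).2.2 _) h.sylP l2
    rw [z1, zpowers_one_eq_bot] at this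
    exact cj_ne1 (cj_ne1 f2) this
  have cW := h.NAW β cA
  obtain ⟨m, hm, l2⟩ := hP.scj_le (zpowers_le.2 ⟨cjm hn cW, cent_cj (mem_cent1_symm.1 f1)⟩) (pg_of_pow Nat.prime_three fun u hu => by
    obtain ⟨i, -, rfl⟩ := mem_zp_lt (by decide) (cj_pow1 (a := n) (h.pc β).a3) hu
    rw [pow_right_comm, cj_pow1 (h.pc β).a3, one_pow])
  obtain ⟨r, hr, e⟩ := h.trA (l2 (conj_mem_cj.2 (mem_zpowers _))) (cj_ne1 (cj_ne1 fun e => (h.pc β).n (e ▸ one_mem _)))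
  have c1 := cent_conj (mul_mem hm.1 hn) (x := b * a) (y := r * x * r⁻¹) (by rw [cj_zpowers, e, cjcj])
  have cE := mul_mem h.bE h.aE
  have cF := mul_mem (h.bF β) (h.AF β h.p.aA)
  rw [h.WnE β hr, card_cj, h.nE, ← (h.dF β).sup, ← cent_zpowers, sup_inf_cent_of_disjoint (zpowers_le.2 cE) (zpowers_le.2 cF)
    (norms_of_cents ((h.FW β).trans h.WC)) (h.dF β).inf, cent_zpowers, h.Ec' β (h.pc β).c (by simp) (by simp) (h.ρc β),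
    zpowers_eq_bot.2 z1, bot_sup_eq, card_bot] at c1
  have := (h.pc β).w9 (inv_mem h.ax) (h.ac β) (h.pF β) (h.AF β h.p.xA) cF (inv_mem (h.AF β h.p.aA))
  rw [h.Fx β, bot_inf_eq, card_bot, h.nF β, c1] at this
  omega
theorem n2 : z₂ ≠ z := β.resolve_left (h.z_ne β)
theorem BV {c : G} (hc : c ∈ B) (n : ¬ IsConj z c) : c ∈ V := (h.zV β (h.z_ne β) hc).elim id fun e => by
  by_cases k : c ∈ zpowers z
  · exact ((mem_zpowers_inv h.zz).1 k).elim (fun e => e ▸ one_mem _) fun e => absurd (e ▸ IsConj.refl z) n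
  · exact absurd ((h.Z1 β (h.mB.1 hc).1 (h.Esq β (h.BE hc)) k (h.z_ne β)).2 (h.nzV β (h.z_ne β) e)) n
theorem nzc {c w : G} (hc : c ∈ B) (h1 : IsConj z c) (h2 : c ≠ z) (hw : w ∈ W₁) (w1 : w ≠ 1) : ¬ IsConj z (c * w) := by
  have z1 := h.z_ne β
  have m := (h.zV β z1 hc).resolve_left fun e => h.nzV β z1 e h1
  have k := h.NS β z1 m (fun e => h2 (by rw [← mul_left_inj z, e, h.zz])) hw w1
  have m1 := mul_mem (h.VE β m) (h.WE β hw)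
  have := (h.Z1 β (h.Ex m1) (h.Esq β m1) (fun e => w1 ((h.Wa β).le ⟨hw, (Subgroup.mul_mem_cancel_left _ (h.Ba β (h.VB β m))).1
    (zpowers_le.2 (h.Ba β h.zB) e)⟩)) z1).1 k
  rwa [mul_assoc, mem_cent1.1 (h.zC (h.Ex (h.WE β hw))), ← mul_assoc, mul_assoc c, h.zz, mul_one] at this
theorem cas1 : ⁅F, U⁆ ≤ W₃ ⊔ W₄ ∧ W₃ ≤ C(U) ∧ W₄ ≤ C(U) := (h.two β).resolve_left fun ⟨h1, h2⟩ => by
  have z1 := h.z_ne β
  obtain ⟨w, hw, w1⟩ := exists_ne_one (H := W₁) fun e => by simpa [e] using h.nW β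
  have cz2 : IsConj z (z₂) := isConj_iff.2 ⟨σ, rfl⟩
  have k := h.nzc β h.z2B cz2 (h.n2 β) hw w1
  have m2 := conj_mem_cj (g := σ).2 hw
  have m3 := conj_mem_cj (g := b).2 m2
  obtain ⟨u, hu, e⟩ := h.cII β h1 h2 m3 (cj_ne1 (cj_ne1 w1)) m2
  rw [← zcj σ, ← zcj b, ← zcj u, cjmul σ, h.σz, cjmul b, cjc (h.zC h.bx), cjmul u, cjc (h.zC (h.Ux hu)), e,
    ← zcj σ, ← zcj s, ← zcj b, cjmul σ z, cjmul σ (b * _ * _), cjmul s (z₂), cjmul s (σ * _ * _), cjc h.sz2,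
    cjmul b (z₂), cjmul b (s * _ * _)] at k
  have m4 := h.p5 β ▸ conj_mem_cj (g := b).2 (h.s3 β ▸ conj_mem_cj (g := s).2 (h.p3 β ▸ conj_mem_cj (g := σ).2 m3))
  have m5 := h.p1 β ▸ conj_mem_cj (g := b).2 (conj_mem_of_norm (norms_comm (zpowers_le.2 h.sE) (zpowers_le.2
    (mem_norm_iff_cj.2 (by rw [cj_zpowers, h.sa, zpowers_inv]))) (mem_zpowers s)) (h.p2 β ▸ conj_mem_cj (g := σ).2 m2))
  have q1 : b * (s * (σ * (b * (σ * w * σ⁻¹) * b⁻¹) * σ⁻¹) * s⁻¹) * b⁻¹ ≠ 1 := cj_ne1 (cj_ne1 (cj_ne1 (cj_ne1 (cj_ne1 w1))))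
  have p1 : b * (s * (σ * (σ * w * σ⁻¹) * σ⁻¹) * s⁻¹) * b⁻¹ ≠ 1 := cj_ne1 (cj_ne1 (cj_ne1 (cj_ne1 w1)))
  generalize b * (s * (σ * (b * (σ * w * σ⁻¹) * b⁻¹) * σ⁻¹) * s⁻¹) * b⁻¹ = q at *
  generalize b * (s * (σ * (σ * w * σ⁻¹) * σ⁻¹) * s⁻¹) * b⁻¹ = p at *
  have m6 := conj_mem_of_norm (h.nAB β h.bA) h.z2B
  have m7 := h.mB.1 m6
  have n3 : ∀ {c}, c = 1 ∨ c = z₂ → ρ (b * (z₂) * b⁻¹) ≠ ρ c := fun {c} hc e => by
    have hc' : c ∈ B := by rcases hc with rfl | rfl; exacts [one_mem _, h.z2B]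
    have m8 := (h.zV β z1 h.z2B).resolve_left fun e => h.nzV β z1 e cz2
    have k1 : b * (z₂) * b⁻¹ * z ∈ V := by simpa only [← conj_mul, cjc (h.zC h.bx)] using conj_mem_of_norm (h.bV β) m8
    rcases h.eq2 m7.1 (h.mB.1 hc').1 m7.2.2 (h.mB.1 hc').2.2 e with e | e <;> rcases hc with rfl | rfl
    · exact cj_ne1 (cj_ne1 z1) e
    · exact h.n2 β (by
        rw [← mul_left_inj z, h.zz]
        exact (h.Vb β).le ⟨m8, mul_mem (mem_cent1_symm.1 (of_cjc e)) (mem_cent1_symm.1 (h.zC h.bx))⟩)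
    · rw [one_mul] at e; nth_rw 2 [← cjc (h.zC h.bx)] at e; rw [mul_left_inj, mul_right_inj] at e; exact h.n2 β e
    · exact h.nz12 (h.n2 β) (e ▸ (zcj b).2 cz2)
  obtain ⟨m, hm, e1⟩ := U2 m7.2.1 (h.one ▸ n3 (.inl rfl)) (h.ρz2 (h.n2 β) ▸ n3 (.inr rfl)) (h.ρW β m5)
  obtain ⟨u, hu, rfl⟩ := h.lift UM pgU hm
  have m8 := mul_mem (h.BE m6) (h.WE β m5)
  have m9 := h.mE.1 (conj_mem_of_norm (h.UE hu) m8)
  rw [← h.mul _ m7.1 _ (h.Ex (h.WE β m5)), ← h.conj (h.Ux hu) (h.Ex m8)] at e1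
  have k1 := h.nzc β m6 ((zcj b).2 cz2) (fun e => n3 (.inl rfl) (by rw [e, h.ρz, h.one])) m5 p1
  have c1 : u * (b * (z₂) * b⁻¹ * p) * u⁻¹ ≠ 1 := cj_ne1 fun e => h.nzW β z1 (inv_mem m5)
    (eq_inv_of_mul_eq_one_left e ▸ (zcj b).2 cz2)
  rw [← zcj u, ← zcj σ] at k1
  rw [(h.Wc β (h.W2W β m4) (h.W1W β m5)).eq, ← mul_assoc, ← zcj u, cjmul u _ q, cjc (le_cent1_iff.2 (h2 m4) hu), ← zcj σ,
    cjmul σ] at k
  exact k (h.NS β z1 (h.BV β (conj_mem_of_norm (h.nAB β h.σA) (h.mB.2 ⟨m9.1, e1, m9.2.2⟩)) k1) (cj_ne1 c1)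
    (h.p2 β ▸ conj_mem_cj.2 m4) (cj_ne1 q1))
end Cf
end H26.J4
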