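import Cfsg.Agent.H26.J4.L1

/-! The group Y. -/

set_option autoImplicit false
set_option linter.unusedSectionVars false
set_option linter.unusedVariables false
set_option maxRecDepth 100000
open Subgroup H16 H19 H0 H0.TR H20.J4
open scoped commutatorElement
namespace H26.J4
variable {G : Type*} [Group G]
local notation "cj" => H19.cj

/-- the elements acting trivially on `M` modulo `L` -/
def St (M : Set G) (L : Subgroup G) : Subgroup G where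
  carrier := {g | g ∈ N(L) ∧ ∀ m ∈ M, g * m * g⁻¹ * m⁻¹ ∈ L}
  one_mem' := ⟨one_mem _, fun m _ => by simp⟩
  mul_mem' := fun {g k} hg hk => ⟨mul_mem hg.1 hk.1, fun m hm => by
    simpa [mul_assoc] using mul_mem (conj_mem_of_norm hg.1 (hk.2 m hm)) (hg.2 m hm)⟩
  inv_mem' := fun {g} hg => ⟨inv_mem hg.1, fun m hm => by
    simpa [mul_assoc] using conj_mem_of_norm' hg.1 (inv_mem (hg.2 m hm))⟩
theorem St_cj (n : G) (M L : Subgroup G) : cj n (St M L) ≤ St (cj n M) (cj n L) := fun g hg' => by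
  obtain ⟨g, hg, rfl⟩ := mem_cj'.1 hg'
  refine ⟨cj_norm n L ▸ conj_mem_cj.2 hg.1, fun m hm' => ?_⟩
  obtain ⟨m, hm, rfl⟩ := mem_cj'.1 hm'
  simpa [mul_assoc] using conj_mem_cj (g := n).2 (hg.2 m hm)
theorem St_norm [Finite G] {n : G} {M L : Subgroup G} (h1 : n ∈ N(M)) (h2 : n ∈ N(L)) : n ∈ N(St M L) :=
  mem_norm_of_cj_le (by simpa only [cj_of_mem_norm h1, cj_of_mem_norm h2] using St_cj n M L)
theorem St_comm {M L : Subgroup G} : ⁅St M L, M⁆ ≤ L := commutator_le.2 fun g hg m hm => hg.2 m hm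
theorem le_St {K M L : Subgroup G} (h1 : K ≤ N(L)) (h2 : ⁅K, M⁆ ≤ L) : K ≤ St M L :=
  fun g hg => ⟨h1 hg, fun m hm => h2 (commutator_mem_commutator hg hm)⟩
theorem mem_St [Finite G] {g : G} {K M L : Subgroup G} (h1 : L ≤ K) (h2 : K ≤ St {g} M) (h3 : M ≤ L) : g ∈ St K L := by
  have k : ∀ m ∈ K, g * m * g⁻¹ * m⁻¹ ∈ L := fun m hm => by simpa [mul_assoc] using inv_mem (h3 ((h2 hm).2 g rfl))
  refine ⟨mem_norm_of_cj_le fun m hm' => ?_, k⟩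
  obtain ⟨m, hm, rfl⟩ := mem_cj'.1 hm'
  simpa using mul_mem (k m (h1 hm)) hm
theorem St1 {g m c : G} {L : Subgroup G} (h1 : m ∈ N(L)) (h2 : c ∈ L) (e : g * m * g⁻¹ = m * c) : m ∈ St {g} L :=
  ⟨h1, fun _ e1 => by rw [e1, show m * g * m⁻¹ * g⁻¹ = m * (g * m * g⁻¹)⁻¹ by group, e]; simpa [mul_assoc] using conj_mem_of_norm h1 (inv_mem h2)⟩
theorem der_ne [Finite G] {K L : Subgroup G} (h : Sol K) (n : K ≤ N(L)) (e : K ≤ L ⊔ ⁅K, K⁆) : K ≤ L :=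
  (quo_eq_bot_iff n).1 (sol_eq_bot_of_le_der (sol_quo h L) (by
    rw [← quo_comm n n, ← quo_sup_left ((der_le K).trans n)]; exact quo_mono _ e))
theorem inv3 {K L : Subgroup G} (n : K ≤ N(L)) {g p q r : G} (hg : g ∈ K) (hp : p ∈ K) (hq : q ∈ K) (hr : r ∈ K)
    (p1 : p * p ∈ L) (q1 : q * q ∈ L) (r1 : r * r ∈ L) (p2 : g * p * (g * p) ∈ L) (q2 : g * q * (g * q) ∈ L)
    (r2 : g * r * (g * r) ∈ L) (e : p * q * r * g * (p * q * r)⁻¹ * g⁻¹ ∈ L) : g * g ∈ L := by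
  lift g to N(L) using n hg
  lift p to N(L) using n hp
  lift q to N(L) using n hq
  lift r to N(L) using n hr
  have k : ∀ {p : N(L)}, (p : G) * p ∈ L → (g : G) * p * (g * p) ∈ L → qmk L p * qmk L g * (qmk L p)⁻¹ = (qmk L g)⁻¹ :=
    fun {p} h1 h2 => by
      have e1 := qmk_eq_one (x := p * p).2 h1
      have e2 := qmk_eq_one (x := g * p * (g * p)).2 h2
      simp only [map_mul] at e1 e2
      rw [inv_eq_of_mul_eq_one_right e1, eq_inv_iff_mul_eq_one, ← conj_eq_one_iff (a := qmk L g), ← e2]; group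
  have e1 := qmk_eq_one (x := p * q * r * g * (p * q * r)⁻¹ * g⁻¹).2 e
  simp only [map_mul, map_inv] at e1
  rw [← cjcj, ← cjcj, k r1 r2, ← conj_inv, k q1 q2, inv_inv, k p1 p2] at e1
  exact qmk_eq_one (x := g * g).1 (by rw [map_mul, ← inv_eq_one, mul_inv_rev, e1])
namespace Cf
variable [Finite G] {x z a b s t σ : G} {ρ : G → GPm} (h : Cf x z ρ a b s t σ)
include h
local notation "Z6" => zpowers (z * x)
local notation "N1" => N(zpowers x)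
set_option quotPrecheck false in
local notation "ζ" => #(zpowers z)
local notation "A" => (zpowers x ⊔ zpowers a : Subgroup G)
local notation "E" => KN.L2 (Cf.toKN h) EE
local notation "U" => KN.L2 (Cf.toKN h) EU
local notation "B" => KN.L2 (Cf.toKN h) VV
local notation "z₂" => σ * z * σ⁻¹
local notation "V" => ⁅E, zpowers b⁆
local notation "W₁" => ⁅E, zpowers a⁆
variable (β : z = 1 ∨ σ * z * σ⁻¹ ≠ z)
local notation "W" => Cf.Wg h
local notation "F" => ⁅W, zpowers x⁆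
local notation "W₂" => cj σ W₁
local notation "W₃" => cj b W₂
local notation "W₄" => cj b W₃
local notation "X" => (zpowers z ⊔ F : Subgroup G)
def Yg : Subgroup G := St W X ⊓ St X (zpowers z)
local notation "Y" => Cf.Yg h
include β
theorem c2 : ζ = 2 := (Nat.card_zpowers z).trans (orderOf_eq_prime (by rw [sq, h.zz]) (h.z_ne β))
theorem zW : z ∈ W := h.EW β h.zE
theorem XW : X ≤ W := sup_le (zpowers_le.2 (h.zW β)) (h.FW β)
theorem Wn' {K : Subgroup G} (l : K ≤ W) : W ≤ N(K) := norms_of_cents ((h.Wab β).trans (cent_mono l))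
theorem Uz2 : U ≤ C[z₂] := fun u hu => of_cjc ((h.eq2 (cjm (h.Ux hu) h.zx2) h.zx2 ((t2_sq h.zz2).cj u) (t2_sq h.zz2) (by
    rw [h.conj (h.Ux hu) h.zx2, h.ρz2 (h.n2 β), cjc (Tv (Sg_T0 cU (h.mU.1 hu).2.1))])).resolve_right fun e =>
  h.nz12 (h.n2 β) (e ▸ (zcj u).2 (isConj_iff.2 ⟨σ, rfl⟩)))
theorem z2V : z₂ * z ∈ V := (h.zV β (h.z_ne β) h.z2B).resolve_left fun e => h.nzV β (h.z_ne β) e (isConj_iff.2 ⟨σ, rfl⟩)
theorem uW {u w : G} (hu : u ∈ U) (e : ρ u = vu) (hw : w ∈ W₁) : w ∈ St {u} (zpowers (z₂)) := by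
  have n := h.Wn' β (zpowers_le.2 (h.EW β (h.BE h.z2B))) (h.W1W β hw)
  by_cases w1 : w = 1
  · exact w1 ▸ one_mem _
  have m := h.mE.1 (h.WE β hw)
  have m1 := h.mE.1 (conj_mem_of_norm (h.UE hu) (h.WE β hw))
  have m2 := h.mE.1 (mul_mem (h.WE β hw) (h.BE h.z2B))
  have k := mt (zcj u).1 (h.nzW β (h.z_ne β) hw)
  rcases U3' (h.ρW β hw) with e1 | e1 <;> rw [← e, ← h.conj (h.Ux hu) m.1] at e1
  · exact St1 n (one_mem _) (by
      rw [mul_one]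
      exact (h.eq2 m1.1 m.1 m1.2.2 m.2.2 e1).resolve_right fun e => k (e ▸ by_contra fun n => h.nzW β (h.z_ne β) hw
        ((h.Z1 β m.1 (h.Esq β (h.WE β hw)) (fun e => w1 ((h.Wa β).le ⟨hw, zpowers_le.2 (h.Ba β h.zB) e⟩)) (h.z_ne β)).2 n)))
  · rw [← h.ρz2 (h.n2 β), ← h.mul _ m.1 _ h.zx2] at e1
    refine St1 n (mem_zpowers _) ((h.eq2 m1.1 m2.1 m1.2.2 m2.2.2 e1).resolve_right fun e => k ?_)
    rw [e, mul_assoc, (h.Wc β (h.W1W β hw) (h.EW β (h.VE β (h.z2V β)))).eq]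
    exact h.NS β (h.z_ne β) (h.z2V β) (fun e => h.n2 β (by rw [← mul_left_inj z, e, h.zz])) hw w1
theorem uV {u v : G} (hu : u ∈ U) (e : ρ u = vu) (hv : v ∈ V) : v ∈ St {u} (zpowers (z₂) ⊔ W₁) := by
  have l := h.EW β (h.BE h.z2B)
  have n := h.Wn' β (sup_le (zpowers_le.2 l) (h.W1W β)) (h.EW β (h.VE β hv))
  have m := h.mB.1 (h.VB β hv)
  have c : ∀ {c}, u ∈ C[c] → ρ v = ρ c → c ∈ B → v ∈ St {u} (zpowers (z₂) ⊔ W₁) := fun h1 h2 h3 => St1 n (one_mem _) (by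
    rw [mul_one]
    rcases h.eq2 m.1 (h.mB.1 h3).1 m.2.2 (h.mB.1 h3).2.2 h2 with rfl | rfl
    exacts [cjc h1, by rw [cjmul, cjc h1, cjc (h.zC (h.Ux hu))]])
  by_cases v1 : ρ v = 1
  · exact c (by simp [cent1_one]) (v1.trans h.one.symm) (one_mem _)
  by_cases v2 : ρ v = v0
  · exact c (h.Uz2 β hu) (v2.trans (h.ρz2 (h.n2 β)).symm) h.z2B
  obtain ⟨w, hw, w1, e1⟩ := U3 m.2.1 v1 v2
  obtain ⟨w, h1, rfl⟩ := h.liftW β hw
  have m0 := h.WE β h1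
  have m1 := h.mE.1 (conj_mem_of_norm (h.UE hu) (h.VE β hv))
  have m2 := h.mE.1 (mul_mem (h.VE β hv) (mul_mem (h.BE h.z2B) m0))
  rw [← e, ← h.conj (h.Ux hu) m.1, ← h.ρz2 (h.n2 β), ← h.mul _ h.zx2 _ (h.Ex m0), ← h.mul _ m.1 _ (mul_mem h.zx2 (h.Ex m0))] at e1
  refine St1 n (mul_mem_sup (mem_zpowers _) h1) ((h.eq2 m1.1 m2.1 m1.2.2 m2.2.2 e1).resolve_right fun e =>
    h.nzV β (h.z_ne β) hv ((zcj u).1 ?_))
  rw [e, mul_assoc, mul_assoc _ w, mem_cent1.1 (h.zC (h.Ex m0)), ← mul_assoc _ z, ← mul_assoc]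
  refine h.NS β (h.z_ne β) (mul_mem hv (h.z2V β)) (fun e => v2 ?_) h1 fun e => w1 (by rw [e, h.one])
  rw [eq_inv_of_mul_eq_one_left e, inv_eq_of_mul_eq_one_right (h.Esq β (h.VE β (h.z2V β))), h.mul _ h.zx2 _ h.zx, h.ρz, mul_one,
    h.ρz2 (h.n2 β)]
theorem σX : cj σ (cj σ X) = X := by
  rw [cj_cj, cj_sup, cj_zpowers, cjc (h.zC h.σσ), H19.cj_comm, cj_zpowers, cjc h.σσ, cj_of_mem_norm (mul_mem (h.σW β) (h.σW β))]
theorem R2Y : cj σ U ≤ Y := by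
  obtain ⟨u, hu, e⟩ := h.lift UM pgU uU
  obtain ⟨h1, h3, h4⟩ := h.cas1 β
  have e1 : cj σ X = zpowers (z₂) ⊔ cj σ F := by rw [cj_sup, cj_zpowers]
  have l : cj σ X ≤ W := cj_le_of_mem_norm (h.σW β) (h.XW β)
  have l0 : zpowers (z₂) ≤ cj σ X := e1 ▸ le_sup_left
  have l1 : cj σ F ≤ cj σ X := e1 ▸ le_sup_right
  have l2 : zpowers (z₂) ⊔ W₁ ≤ cj σ X := sup_le l0 (h.p2 β ▸ (cj_mono σ (h.W2F β)).trans l1)
  have c : ∀ {K L}, K ≤ W → L ≤ W → K ≤ C(U) → K ≤ St {u} L := fun l1 l2 l3 w hw =>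
    St1 (h.Wn' β l2 (l1 hw)) (one_mem _) (by rw [mul_one, cjc (le_cent1_iff.2 (l3 hw) hu)])
  have c' : ∀ {K L M}, K ≤ W → M ≤ W → L ≤ M → K ≤ St {u} L → K ≤ St {u} M := fun l1 l2 l3 l4 w hw =>
    ⟨h.Wn' β l2 (l1 hw), fun m hm => l3 ((l4 hw).2 m hm)⟩
  have zu : zpowers z ≤ C(U) := zpowers_le.2 (le_cent1_iff.1 (h.Ux.trans h.zC))
  have l3 := h1.trans (sup_le (h.p3 β ▸ (cj_mono σ (h.W3F β)).trans l1) (h.p4 β ▸ (cj_mono σ (h.W4F β)).trans l1))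
  have k := fun v hv => c' ((h.VE β).trans (h.EW β)) l l2 (fun v => h.uV β hu e) (x := v) hv
  have k1 : u ∈ St W (cj σ X) := mem_St l ((h.dF β).sup.ge.trans (sup_le ((h.dW β).sup.ge.trans (sup_le (fun v hv =>
    (h.zV β (h.z_ne β) hv).elim (k v) fun e => (Subgroup.mul_mem_cancel_right _
      (c (zpowers_le.2 (h.zW β)) l zu (mem_zpowers z))).1 (k _ e))
    (c' (h.W1W β) l l0 fun w => h.uW β hu e))) fun w hw => ⟨h.Wn' β l (h.FW β hw), fun m hm => l3 (commutator_mem_commutator hw (hm ▸ hu))⟩)) le_rfl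
  have k2 : u ∈ St (cj σ X) (zpowers (z₂)) := mem_St l0 (e1.le.trans (sup_le (c (l0.trans l) (l0.trans l) (zpowers_le.2
    (le_cent1_iff.1 (h.Uz2 β)))) (cj_le_iff.2 (h.Fall β (cj_le_iff.1 ((h.p2 β).le.trans fun w => h.uW β hu e))
      (cj_le_iff.1 ((h.p3 β).le.trans (c (h.W3W β) (l0.trans l) h3))) (cj_le_iff.1 ((h.p4 β).le.trans
        (c (h.W4W β) (l0.trans l) h4))))))) le_rfl
  have aX : a ∈ N(cj σ X) := by
    have := conj_mem_cj (g := σ).2 (norms_sup (zpowers_le.2 h.xN) (zpowers_le.2 (h.AF β h.p.xA)) (mem_zpowers x))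
    rwa [cj_norm, h.σx] at this
  have EC := (h.EW β).trans (h.Wab β)
  have := (h.IrrU (le_inf h.EUl (le_inf (le_St ((h.EW β).trans (h.Wn' β l)) ((commg_eq_bot.2 EC).le.trans bot_le))
    (le_St ((h.EW β).trans (h.Wn' β (l0.trans l))) ((commg_eq_bot.2 (EC.trans (cent_mono l))).le.trans bot_le)))) inf_le_left
    (norms_inf (zpowers_le.2 h.aU) (norms_inf (zpowers_le.2 (St_norm (h.AW h.p.aA) aX)) (zpowers_le.2 (St_norm aX
      (cN _ (mem_cent1_symm.1 h.za2))))) (mem_zpowers a))).resolve_left fun e2 => uE (e ▸ (h.mE.1 (e2.le ⟨hu, k1, k2⟩)).2.1)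
  refine (cj_mono σ (this.ge.trans inf_le_right)).trans ?_
  rw [cj_inf]
  refine inf_le_inf ((St_cj ..).trans ?_) ((St_cj ..).trans ?_)
  · rw [h.σX β, cj_of_mem_norm (h.σW β)]
  · rw [h.σX β, cj_zpowers, h.σz]
end Cf
end H26.J4
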