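import Cfsg.Agent.H26.J4.L2

/-! The group Y modulo X is abelian. -/

set_option autoImplicit false
set_option linter.unusedSectionVars false
set_option linter.unusedVariables false
set_option maxRecDepth 100000
open Subgroup H16 H19 H0 H0.TR H20.J4
open scoped commutatorElement
namespace H26.J4
variable {G : Type*} [Group G]
local notation "cj" => H19.cj

theorem St_norm' [Finite G] {n : G} {S : Set G} {L : Subgroup G} (h1 : ∀ m ∈ S, n⁻¹ * m * n⁻¹⁻¹ ∈ S) (h2 : n ∈ N(L)) :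
    n ∈ N(St S L) := mem_norm_of_cj_le fun g hg' => by
  obtain ⟨g, hg, rfl⟩ := mem_cj'.1 hg'
  exact ⟨cjm h2 hg.1, fun m hm => by
    simpa [mul_assoc] using conj_mem_of_norm h2 (hg.2 _ (h1 m hm))⟩
theorem sq_gen {K L : Subgroup G} (n : K ≤ N(L)) (d : ⁅K, K⁆ ≤ L) : ∃ S : Subgroup G, ∀ y, y ∈ S ↔ y ∈ K ∧ y * y ∈ L :=
  ⟨{ carrier := {y | y ∈ K ∧ y * y ∈ L}, one_mem' := ⟨one_mem _, by simp⟩
     mul_mem' := fun {y w} hy hw => ⟨mul_mem hy.1 hw.1, by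
       simpa [commutatorElement_def, mul_assoc] using mul_mem (mul_mem (conj_mem_of_norm (n hy.1)
         (d (commutator_mem_commutator hw.1 hy.1))) hy.2) hw.2⟩
     inv_mem' := fun {y} hy => ⟨inv_mem hy.1, by simpa using inv_mem hy.2⟩ }, fun _ => Iff.rfl⟩
theorem sq_comm {L : Subgroup G} {g r : G} (n : r ∈ N(L)) (h1 : g * g ∈ L) (h2 : r * r ∈ L) (h3 : g * r * (g * r) ∈ L) :
    g * r * g⁻¹ * r⁻¹ ∈ L := by
  simpa [mul_assoc] using mul_mem (mul_mem h3 (conj_mem_of_norm' n (inv_mem h1))) (inv_mem h2)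
theorem nzC {z : G} (h : z * z = 1) : N(zpowers z) ≤ C[z] := fun a ha => of_cjc (((mem_zpowers_inv h).1
    (conj_mem_of_norm ha (mem_zpowers z))).elim (fun e => by simp [conj_eq_one_iff.1 e]) id)
namespace Cf
variable [Finite G] {x z a b s t σ : G} {ρ : G → GPm} (h : Cf x z ρ a b s t σ)
include h
local notation "Z6" => zpowers (z * x)
local notation "N1" => N(zpowers x)
set_option quotPrecheck false in
local notation "ζ" => #(zpowers z)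
local notation "A" => (zpowers x ⊔ zpowers a : Subgroup G)
local notation "E" => KN.L2 (Cf.toKN h) EE
local notation "U" => KN.L2 (Cf.toKN h) EU
local notation "B" => KN.L2 (Cf.toKN h) VV
local notation "z₂" => σ * z * σ⁻¹
local notation "V" => ⁅E, zpowers b⁆
local notation "W₁" => ⁅E, zpowers a⁆
variable (β : z = 1 ∨ σ * z * σ⁻¹ ≠ z)
local notation "W" => Cf.Wg h
local notation "F" => ⁅W, zpowers x⁆
local notation "W₂" => cj σ W₁
local notation "W₃" => cj b W₂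
local notation "W₄" => cj b W₃
local notation "X" => (zpowers z ⊔ F : Subgroup G)
local notation "Y" => Cf.Yg h
local notation "R" => (Y ⊓ C[a] : Subgroup G)
theorem Yz : Y ≤ C[z] := fun _ hy => nzC h.zz hy.2.1
theorem YX : Y ≤ N(X) := fun _ hy => hy.1.1
theorem toU {K : Subgroup G} (h1 : K ≤ C[a]) (h2 : K ≤ C[z]) (h3 : PG 2 K) (h4 : x ∈ N(K)) (n : z₂ ≠ z) : K ≤ cj σ U := by
  have l : cj σ⁻¹ K ≤ C[x] := cj_le_iff.2 (by rwa [inv_inv, h.σC])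
  have := FA4 (show h.im (cj σ⁻¹ K) ≤ _ from h.im_le fun c hc _ => h.mem c (l hc)) (h.im_le fun c hc k => h.ρz2 n ▸ h.cρ k (cN x h.zx2)
    ((cj_le_iff.2 (by rwa [inv_inv, cj_cent1, h.σz]) : cj σ⁻¹ K ≤ C[z₂]) hc)) ((h3.J _).im _)
    (h.ρa ▸ h.im_norm h.aN (by rwa [← cj_norm, mem_cj_inv, h.σa]))
  exact le_cj_iff.2 fun c hc => h.mU.2 ⟨l hc, this (h.im_of hc (cN x (l hc))), t2_of_pg (h3.J _) hc⟩
theorem bia (i : ℕ) : b ^ i * a * (b ^ i)⁻¹ = x ^ i * a := by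
  induction i with
  | zero => simp
  | succ i ih => rw [pow_succ', ← cjcj, ih, cjmul, ← conj_pow, cjc h.bx, h.ba, pow_succ, mul_assoc]
include β
theorem nX {n : G} (h1 : n ∈ N1) (h2 : n ∈ N(E)) : n ∈ N(X) :=
  norms_sup (zpowers_le.2 (h.nz h1)) (zpowers_le.2 (h.nrF β h1 h2)) (mem_zpowers n)
theorem nY {n : G} (h1 : n ∈ N1) (h2 : n ∈ N(E)) : n ∈ N(Y) := norms_inf (zpowers_le.2 (St_norm (h.nEW h2) (h.nX β h1 h2)))
  (zpowers_le.2 (St_norm (h.nX β h1 h2) (h.nz h1))) (mem_zpowers n)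
theorem WY : W ≤ Y := le_inf (le_St (h.Wn' β (h.XW β)) ((commg_eq_bot.2 (h.Wab β)).le.trans bot_le)) (le_St (h.Wn' β
  (zpowers_le.2 (h.zW β))) ((commg_eq_bot.2 ((h.Wab β).trans (cent_mono (h.XW β)))).le.trans bot_le))
theorem YWX : ⁅Y, W⁆ ≤ X := (commutator_mono inf_le_left le_rfl).trans St_comm
theorem YW : Y ≤ N(W) := norms_of_commg_le' ((h.YWX β).trans (h.XW β))
theorem pY : PG 2 Y := fun p hp d => by_contra fun n => by
  obtain ⟨P, l, c⟩ := exists_card_eq_prime hp d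
  have k : ∀ {K}, K ≤ W → (#K).Coprime #P := fun l => ((h.pW β).of_le l).coprime ((piN_prime (c ▸ hp)).2 (c ▸ n))
  have := cents_of_stable (k (h.XW β)) (cents_of_stable (k (zpowers_le.2 (h.zW β))) (cent_zpowers z ▸ l.trans h.Yz) (by
    rw [commutator_comm]; exact (commutator_mono (l.trans inf_le_right) le_rfl).trans St_comm)) (by
    rw [commutator_comm]; exact (commutator_mono l le_rfl).trans (h.YWX β))
  exact hp.one_lt.ne' (c ▸ (Nat.coprime_self _).1 (k (this.trans (h.CW β))))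
theorem AY : A ≤ N(Y) := sup_le (zpowers_le.2 (h.nY β h.xN1 h.xE)) (zpowers_le.2 (h.nY β h.aN h.aE))
theorem bY : b ∈ N(Y) := h.nY β h.bN h.bE
theorem Yx : Y ⊓ C[x] = E := le_antisymm (fun c hc => h.mE.2 ⟨hc.2, FA3 (M22_le (h.mem c hc.2)) (mem_cent.2 fun m hm => by
    obtain ⟨e, he, rfl⟩ := h.lift EM pgE hm
    have m := mul_mem (cjm hc.2 (h.Ex he)) (inv_mem (h.Ex he))
    have := (sup_inf_modl ((h.FW β).trans (h.Wn' β (zpowers_le.2 (h.zW β))))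
      (zpowers_le.2 h.zx)).le ⟨hc.1.1.2 e (h.EW β he), m⟩
    rw [h.Fx β, sup_bot_eq] at this
    have := h.kz (h.zl this)
    rw [h.mul _ (cjm hc.2 (h.Ex he)) _ (inv_mem (h.Ex he)), h.conj hc.2 (h.Ex he), h.inv (h.Ex he), mul_inv_eq_one] at this
    exact (mul_inv_eq_iff_eq_mul.1 this).symm), t2_of_pg (h.pY β) hc.1⟩) (le_inf ((h.EW β).trans (h.WY β)) h.Ex)
theorem Ya : R = cj σ U := le_antisymm (h.toU inf_le_right (inf_le_left.trans h.Yz) ((h.pY β).infl _) (norms_inf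
  (zpowers_le.2 (h.AY β h.p.xA)) (zpowers_le.2 (le_normalizer h.xa)) (mem_zpowers x)) (h.n2 β))
  (le_inf (h.R2Y β) (h.σC ▸ cj_mono σ h.Ux))
theorem gen3 {K L : Subgroup G} (h0 : K ≤ Y) (h1 : A ≤ N(K)) (h2 : b ∈ N(K)) (k1 : W ≤ L) (k2 : K ⊓ C[a] ≤ L)
    (k3 : cj b (K ⊓ C[a]) ≤ L) (k4 : cj b (cj b (K ⊓ C[a])) ≤ L) : K ≤ L := by
  rw [cj_inf, cj_of_mem_norm h2, cj_cent1, h.ba] at k3 k4
  rw [cj_inf, cj_of_mem_norm h2, cj_cent1, cjmul, cjc h.bx, h.ba, ← mul_assoc] at k4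
  exact h.p.gen4 h1 (pg23 ((h.pY β).of_le h0)) ((inf_le_inf_right _ h0).trans ((h.Yx β).le.trans ((h.EW β).trans k1))) k2 k3 k4
theorem Irr2 {J : Subgroup G} (h1 : W ⊓ C[a] ≤ J) (h2 : J ≤ R) (h3 : x ∈ N(J)) : J ≤ W ∨ R ≤ J := by
  rw [h.WaE β, cj_le_iff] at h1
  rw [h.Ya β, le_cj_iff] at h2
  refine (h.IrrU h1 h2 (by rwa [← cj_norm, mem_cj_inv, h.σa])).imp (fun e => ?_) fun e => ?_
  · exact (le_cj_iff.2 e.le).trans (h.big β)
  · rw [h.Ya β, cj_le_iff, e]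
theorem YYW : ⁅Y, Y⁆ ≤ W := by
  have n : ∀ {K}, K ≤ N(Y) → K ≤ N(W) → K ≤ N(W ⊔ ⁅Y, Y⁆) := fun h1 h2 => norms_sup h2 (norms_der h1)
  have l := sup_le (h.WY β) (der_le Y)
  have nb := n (zpowers_le.2 (h.bY β)) (zpowers_le.2 (h.bW β)) (mem_zpowers b)
  rcases h.Irr2 β (inf_le_inf_right _ le_sup_left) (inf_le_inf_right _ l) (norms_inf (zpowers_le.2 (n (h.AY β) h.AW h.p.xA))
    (zpowers_le.2 (le_normalizer h.xa)) (mem_zpowers x)) with e | e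
  · exact le_sup_right.trans (h.gen3 β l (n (h.AY β) h.AW) nb le_rfl e (cj_le_of_mem_norm (h.bW β) e)
      (cj_le_of_mem_norm (h.bW β) (cj_le_of_mem_norm (h.bW β) e)))
  · replace e := e.trans inf_le_left
    exact (der_le Y).trans (der_ne (h.pY β).sol (h.YW β) (h.gen3 β le_rfl (h.AY β) (h.bY β) le_sup_left e
      (cj_le_of_mem_norm nb e) (cj_le_of_mem_norm nb (cj_le_of_mem_norm nb e))))
theorem sqW {w y : G} (hw : w ∈ W) (hy : y ∈ Y) : w * y * (w * y) ∈ X ↔ y * y ∈ X := by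
  rw [show w * y * (w * y) = w * (y * w * y⁻¹) * (y * y) by group, (h.Wc β hw (conj_mem_of_norm (h.YW β hy) hw)).eq]
  nth_rw 2 [← inv_eq_of_mul_eq_one_right (h.Wsq β hw)]
  exact Subgroup.mul_mem_cancel_left _ (hy.1.2 w hw)
theorem sqa {c : G} (hc : c ∈ R) : c * c ∈ X := by
  obtain ⟨u, hu, rfl⟩ := mem_cj'.1 ((h.Ya β).le hc)
  obtain ⟨m, hm, e⟩ := U6 (h.mU.1 hu).2.1
  obtain ⟨w, hw, rfl⟩ := h.lift EM pgE hm
  have m := h.mU.1 (mul_mem (h.EUl hw) hu)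
  rw [← h.sqW β (h.big β (conj_mem_cj.2 hw)) hc.1, ← cjmul, cj_sq1 (h.LP β m.1 m.2.2 (by rwa [h.mul _ (h.Ex hw) _ (h.Ux hu)]))]
  exact one_mem _
theorem sqn {n c : G} (h1 : n ∈ N1) (h2 : n ∈ N(E)) (hc : c ∈ cj n R) : c * c ∈ X := by
  obtain ⟨u, hu, rfl⟩ := mem_cj'.1 hc
  exact cjmul n u u ▸ conj_mem_of_norm (h.nX β h1 h2) (h.sqa β hu)
theorem sqY {c : G} (hc : c ∈ Y) : c * c ∈ W := by
  obtain ⟨S, k⟩ := sq_gen (h.YW β) (h.YYW β)
  have k1 : ∀ n ∈ N1, n ∈ N(E) → cj n R ≤ S := fun n h1 h2 c hc => (k c).2 ⟨cj_le_of_mem_norm (h.nY β h1 h2) inf_le_left hc,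
    h.XW β (h.sqn β h1 h2 hc)⟩
  exact ((k c).1 (h.gen3 β le_rfl (h.AY β) (h.bY β) (fun w hw => (k w).2 ⟨h.WY β hw, mul_mem hw hw⟩)
    (by simpa using k1 1 (one_mem _) (one_mem _)) (k1 b h.bN h.bE) (cj_mul b b _ ▸ k1 _ (mul_mem h.bN h.bN) (mul_mem h.bE h.bE))
    hc)).2
theorem sqd {y c : G} (hy : y ∈ A) (hc : c ∈ Y ⊓ C[b * y]) : c * c ∈ X := by
  have h1 := mul_mem h.bx (h.AC hy)
  have h2 := mul_mem h.bE (sup_le (zpowers_le.2 h.xE) (zpowers_le.2 h.aE) hy)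
  obtain ⟨i, -, j, hj, rfl⟩ := h.p.mem hy
  by_cases j0 : j = 0
  · have n1 := mul_mem h.tN (pow_mem h.bN i)
    have n2 := mul_mem h.tE (pow_mem h.bE i)
    refine h.sqn β n1 n2 ?_
    rwa [cj_inf, cj_of_mem_norm (h.nY β n1 n2), cj_cent1, ← cjcj, h.bia, cjmul, ← conj_pow, cjc h.tx, h.tb,
      ← ((show Commute b x from mem_cent1.1 h.bx).pow_right i).eq, ← mul_one (x ^ i), ← pow_zero a, ← j0]
  have := mem_inf.2 ⟨h.sqY β hc.1, mul_mem hc.2 hc.2⟩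
  rw [← (h.dF β).sup, ← cent_zpowers, sup_inf_cent_of_disjoint (zpowers_le.2 h2) (zpowers_le.2 (h.nrF β (cN x h1) h2))
    (norms_of_cents ((h.FW β).trans h.WC)) (h.dF β).inf, cent_zpowers, h.Ec' β h1 (i := j) (j := 1) (by simp; omega) (by simp) (by
      rw [h.mul _ h.bx _ (h.AC hy), h.mul _ (pow_mem (mem_cent1_self x) i) _ (pow_mem h.ax j), h.pow (mem_cent1_self x), h.pow h.ax,
        h.ρx, h.ρa, h.ρb, one_pow, one_mul, pow_one, ((show Commute va vb from ab).pow_left j).eq])] at this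
  exact (sup_le_sup_left inf_le_left _ : _ ≤ X) this
theorem fixW {d f : G} (d3 : d ^ 3 = 1) (h1 : d ∈ St {f} W) : ∃ w ∈ W, w * f ∈ C[d] := cent_zpowers d ▸
  exists_mul_mem_cent (zpowers_le.2 h1.1) (cp3 (h.pW β) d3) (.inl (sol_zpowers d)) fun u hu => (zpowers_le.2 h1 hu).2 _ rfl
theorem trS {d r : G} (d3 : d ^ 3 = 1) (h1 : d ∈ N1) (h2 : d ∈ N(E)) (hr : r ∈ Y) :
    r * (d * r * d⁻¹) * (d * (d * r * d⁻¹) * d⁻¹) ∈ Y ∧ d ∈ St {r * (d * r * d⁻¹) * (d * (d * r * d⁻¹) * d⁻¹)} W := by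
  have m1 := conj_mem_of_norm (h.nY β h1 h2) hr
  have m2 := conj_mem_of_norm (h.nY β h1 h2) m1
  refine ⟨mul_mem (mul_mem hr m1) m2, h.nEW h2, fun _ e => ?_⟩
  rw [e, cjmul, cjmul d r, show d * (d * (d * r * d⁻¹) * d⁻¹) * d⁻¹ = r by rw [cjcj, cjcj, ← pow_three', d3]; simp]
  simpa [commutatorElement_def, mul_assoc] using h.YYW β (commutator_mem_commutator (mul_mem m1 m2) hr)
theorem c23 {r y : G} (hr : r ∈ R) (hy : y ∈ A) : r * (b * y * r * (b * y)⁻¹) * r⁻¹ * (b * y * r * (b * y)⁻¹)⁻¹ ∈ X := by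
  have AE := sup_le (zpowers_le.2 h.xE) (zpowers_le.2 h.aE)
  have n1 := fun {y} (hy : y ∈ A) => cN x (mul_mem h.bx (h.AC hy))
  have n2 := fun {y} (hy : y ∈ A) => mul_mem h.bE (AE hy)
  have m := conj_mem_of_norm (h.nY β (n1 hy) (n2 hy)) hr.1
  have s2 := h.sqn β (n1 hy) (n2 hy) (conj_mem_cj.2 hr)
  have k : ∀ u ∈ zpowers a, ∀ q, q = b * y * (u * (b * y * r * (b * y)⁻¹) * u⁻¹) * (b * y)⁻¹ → q ∈ Y ∧ q * q ∈ X ∧
      r * (b * y * r * (b * y)⁻¹) * q * (r * (b * y * r * (b * y)⁻¹) * q) ∈ X := fun u hu q e => by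
    have uA : u ∈ A := mem_sup_right hu
    have h1 := mul_mem hy uA
    obtain ⟨k0, k⟩ := h.trS β (h.d3 h1) (n1 h1) (n2 h1) hr.1
    obtain ⟨w, hw, k⟩ := h.fixW β (h.d3 h1) k
    have k1 := (h.sqW β hw k0).1 (h.sqd β h1 ⟨mul_mem (h.WY β hw) k0, k⟩)
    rw [← mul_assoc b, ← cjcj (b * y) u r, cjc (zpowers_le.2 (mem_cent1_symm.1 hr.2) hu), ← cjcj (b * y) u, ← e] at k1
    refine ⟨e ▸ conj_mem_of_norm (h.nY β (n1 hy) (n2 hy)) (conj_mem_of_norm (h.AY β uA) m), ?_, k1⟩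
    rw [e, ← cjmul, ← cjmul]
    exact conj_mem_of_norm (h.nX β (n1 hy) (n2 hy)) (conj_mem_of_norm (h.nX β (cN x (h.AC uA)) (AE uA)) s2)
  obtain ⟨p1, p2, p3⟩ := k 1 (one_mem _) _ rfl
  obtain ⟨q1, q2, q3⟩ := k a (mem_zpowers _) _ rfl
  obtain ⟨r1, r2, r3⟩ := k (a * a) (mul_mem (mem_zpowers _) (mem_zpowers _)) _ rfl
  refine sq_comm (h.YX m) (h.sqa β hr) s2 (inv3 h.YX (mul_mem hr.1 m) p1 q1 r1 p2 q2 r2 p3 q3 r3 ?_)
  obtain ⟨k0, k⟩ := h.trS β h.a3 h.aN h.aE m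
  have hb : b * y * r * (b * y)⁻¹ ∈ C[x * a] := h.ba ▸ cjcj b y r ▸ cent_cj (conj_mem_of_norm
    (cent_zpowers a ▸ norm_le_norm_cent _ (cN a (h.p.cA.le (h.p.ab hy)).2)) hr.2)
  generalize b * y * r * (b * y)⁻¹ = q at *
  have ha := mem_cent1_symm.1 (mul_mem h.xa (mem_cent1_self a))
  have k2 := mul_mem (mul_mem hb (cjm ha hb)) (cjm ha (cjm ha hb))
  obtain ⟨w, hw, k⟩ := h.fixW β h.x3' ((Subgroup.mul_mem_cancel_right _ k).1 ⟨h.AW (mul_mem h.p.xA h.p.aA), fun _ e => by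
    rw [e, cjc' k2, mul_inv_cancel]; exact one_mem _⟩)
  have k3 := conj_mem_of_norm (h.nEW (n2 hy)) ((Subgroup.mul_mem_cancel_left _ hw).1 (h.EW β ((h.Yx β).le
    ⟨mul_mem (h.WY β hw) k0, k⟩)))
  simpa [mul_assoc] using inv_mem ((mul_mem hr.1 m).1.2 _ k3)
theorem c23' : ⁅R, cj b R⁆ ≤ X := by
  rw [commutator_comm]
  refine commutator_le.2 fun q hq' g hg => ?_
  obtain ⟨r, hr, rfl⟩ := mem_cj'.1 hq'
  have l : ∀ {S : Set G}, S ⊆ Y → W ≤ St S X := fun l w hw => ⟨h.YX (h.WY β hw), fun m hm => by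
    simpa [mul_assoc] using inv_mem ((l hm).1.2 w hw)⟩
  have m := conj_mem_of_norm (h.bY β) hr.1
  rcases h.Irr2 β (J := R ⊓ St (cl A (b * r * b⁻¹)) X) (le_inf (inf_le_inf_right _ (h.WY β)) (inf_le_left.trans (l (by
    rintro _ ⟨y, hy, rfl⟩; exact conj_mem_of_norm (h.AY β hy) m)))) inf_le_left (norms_inf (norms_inf
      (zpowers_le.2 (h.AY β h.p.xA)) (zpowers_le.2 (le_normalizer h.xa))) (zpowers_le.2 (St_norm' (fun m => cl_cj (inv_mem h.p.xA))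
        (h.nX β h.xN1 h.xE))) (mem_zpowers x)) with e | e
  · exact (l (S := {g}) (by simpa using hg.1) (conj_mem_of_norm (h.bW β) (e ⟨hr, h.YX hr.1, by
      rintro _ ⟨y, hy, rfl⟩
      simpa [mul_assoc] using h.c23 β hr (conj_mem_of_norm' h.bA hy)⟩))).2 g rfl
  · simpa [commutatorElement_def, mul_assoc] using inv_mem ((e hg).2.2 _ (cl_self _ _))
theorem YYX : ⁅Y, Y⁆ ≤ X := by
  have bX := h.nX β h.bN h.bE
  have l := fun {K} (l : K ≤ Y) => le_St (M := Y) (l.trans h.YX)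
  have l' := fun {K} (l : K ≤ Y) => le_St (M := R) (l.trans h.YX)
  have l1 := cj_le_of_mem_norm (h.bY β) (inf_le_left : R ≤ Y)
  have k : R ≤ St Y X := l inf_le_left (by
    rw [commutator_comm]
    refine (commutator_mono (h.gen3 β le_rfl (h.AY β) (h.bY β) (l' (h.WY β) ?_) (l' inf_le_left ?_) (l' l1 ?_)
      (l' (cj_le_of_mem_norm (h.bY β) l1) ?_)) le_rfl).trans St_comm
    · rw [commutator_comm]; exact (commutator_mono inf_le_left le_rfl).trans (h.YWX β)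
    · exact commutator_le.2 fun g hg r hr => sq_comm (h.YX hr.1) (h.sqa β hg) (h.sqa β hr) (h.sqa β (mul_mem hg hr))
    · rw [commutator_comm]; exact h.c23' β
    · have := cj_le_of_mem_norm bX (cj_le_of_mem_norm bX (h.c23' β))
      rwa [H19.cj_comm, H19.cj_comm, cj_cj b b (cj b R), cj_cj (b * b) b, ← pow_three', h.b3, cj_one] at this)
  have n := St_norm (h.bY β) bX
  exact (commutator_mono (h.gen3 β le_rfl (h.AY β) (h.bY β) (l (h.WY β) (commutator_comm W Y ▸ h.YWX β)) k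
    (cj_le_of_mem_norm n k) (cj_le_of_mem_norm n (cj_le_of_mem_norm n k))) le_rfl).trans St_comm
end Cf
end H26.J4
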