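import Cfsg.Agent.H26.J4.L3

/-! The group Q. -/

set_option autoImplicit false
set_option linter.unusedSectionVars false
set_option linter.unusedVariables false
set_option maxRecDepth 100000
open Subgroup H16 H19 H0 H0.TR H20.J4
open scoped commutatorElement
namespace H26.J4
variable {G : Type*} [Group G]
local notation "cj" => H19.cj

/-- the configuration with the candidate for `O₂(C(z))` -/
structure K8 (x z : G) (ρ : G → GPm) (a b s t σ : G) (Q : Subgroup G) : Prop extends Cf x z ρ a b s t σ where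
  n2 : σ * z * σ⁻¹ ≠ z
  pg : PG 2 Q
  le : Q ≤ C[z]
  zQ : z ∈ Q
  norm : N(zpowers x) ≤ N(Q)
  CQ : Q ⊓ C[x] = zpowers z
  Qne : Q ≠ zpowers z
  Ca : C[a] ⊓ C[z] ≤ N(Q)
namespace Cf
variable [Finite G] {x z a b s t σ : G} {ρ : G → GPm} (h : Cf x z ρ a b s t σ)
include h
local notation "Z6" => zpowers (z * x)
local notation "N1" => N(zpowers x)
set_option quotPrecheck false in
local notation "ζ" => #(zpowers z)
local notation "A" => (zpowers x ⊔ zpowers a : Subgroup G)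
local notation "E" => KN.L2 (Cf.toKN h) EE
local notation "U" => KN.L2 (Cf.toKN h) EU
local notation "B" => KN.L2 (Cf.toKN h) VV
local notation "z₂" => σ * z * σ⁻¹
local notation "V" => ⁅E, zpowers b⁆
local notation "W₁" => ⁅E, zpowers a⁆
variable (β : z = 1 ∨ σ * z * σ⁻¹ ≠ z)
local notation "W" => Cf.Wg h
local notation "F" => ⁅W, zpowers x⁆
local notation "W₂" => cj σ W₁
local notation "W₃" => cj b W₂
local notation "W₄" => cj b W₃
local notation "X" => (zpowers z ⊔ F : Subgroup G)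
local notation "Y" => Cf.Yg h
local notation "R" => (Y ⊓ C[a] : Subgroup G)
local notation "Q" => (X ⊔ ⁅Y, zpowers x⁆ : Subgroup G)
include β
theorem QY : Q ≤ Y := sup_le ((h.XW β).trans (h.WY β)) (commg_le_left (zpowers_le.2 (h.AY β h.p.xA)))
theorem YQ : Y ≤ N(Q) := norms_of_der_le ((h.YYX β).trans le_sup_left) (h.QY β)
theorem nQ {n : G} (h1 : n ∈ N1) (h2 : n ∈ N(E)) : n ∈ N(Q) := norms_sup (zpowers_le.2 (h.nX β h1 h2))
  (norms_comm (zpowers_le.2 (h.nY β h1 h2)) (zpowers_le.2 h1)) (mem_zpowers n)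
theorem pQ : PG 2 Q := (h.pY β).of_le (h.QY β)
theorem zQ : z ∈ Q := mem_sup_left (mem_sup_left (mem_zpowers z))
theorem Qx : Q ⊓ C[x] = zpowers z := by
  have n := zpowers_le.2 (h.nX β h.xN1 h.xE)
  have n1 := zpowers_le.2 (h.AY β h.p.xA)
  have := ab_commg_inf_cent ((ab_quo_iff h.YX).2 (h.YYX β)) (quo_norms n1) (cop_quo (cp3 (h.pY β) h.x3') _)
  rw [← quo_comm h.YX n, ← quo_sup_left ((commg_le_left n1).trans h.YX)] at this
  have l := (quo_eq_bot_iff (inf_le_left.trans ((h.QY β).trans h.YX))).1 (H19.eq_bot_mono (le_inf (quo_mono _ inf_le_left)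
    (quo_cents (inf_le_right.trans (cent_zpowers x).ge))) this)
  refine le_antisymm ((le_inf l inf_le_right).trans ?_) (zpowers_le.2 ⟨h.zQ β, h.zx⟩)
  rw [sup_inf_modl ((h.FW β).trans (h.Wn' β (zpowers_le.2 (h.zW β)))) (zpowers_le.2 h.zx), h.Fx β, sup_bot_eq]
theorem Rmax {k : G} (hk : k ∈ N1) : cj k Q ⊓ C[a] ≤ Q := by
  have n : zpowers x ≤ N(cj k Q ⊓ C[a]) := norms_inf ((cj_of_mem_norm hk).ge.trans ((cj_mono k
    (zpowers_le.2 (h.nQ β h.xN1 h.xE))).trans (cj_norm ..).le)) (zpowers_le.2 (le_normalizer h.xa))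
  have p := ((h.pQ β).J k).infl C[a]
  have l := h.toU inf_le_right (inf_le_left.trans (cj_le_of_mem (h.NH hk) ((h.QY β).trans h.Yz))) p (n (mem_zpowers x)) (h.n2 β)
  rw [← commg_sup_cent n (cp3 p h.x3') (.inr p.sol)]
  refine sup_le ((commutator_mono (l.trans (h.R2Y β)) le_rfl).trans le_sup_right) ((inf_le_inf_right _ inf_le_left).trans ?_)
  rw [cent_zpowers, ← cj_of_mem_norm (h.nC hk), ← cj_inf, h.Qx β, cj_of_mem_norm (h.nz hk)]
  exact zpowers_le.2 (h.zQ β)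
theorem Qc : #(Q ⊓ C[b * a] : Subgroup G) = #(Q ⊓ C[a] : Subgroup G) := by
  have n := h.nQ β h.xN1 h.xE
  have n1 := h.nQ β h.aN h.aE
  have n2 := h.nQ β h.bN h.bE
  have e1 := h.p.w9 h.bx h.ba (h.pQ β) n n1 n2
  have e2 := (h.pc β).w9 (inv_mem h.ax) (h.ac β) (h.pQ β) n (mul_mem n2 n1) (inv_mem n1)
  rw [h.Qx β, inf_eq_left.2 (zpowers_le.2 (mem_cent1_symm.1 (h.zC h.ax)))] at e1
  rw [h.Qx β, inf_eq_left.2 (zpowers_le.2 (mem_cent1_symm.1 (h.zC (h.pc β).c))), e1, mul_right_inj' (card_ne_zero _)] at e2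
  exact (Nat.pow_left_injective (by decide) e2).symm
theorem RQ {k n : G} (hk : k ∈ N1) (h1 : n ∈ N1) (h2 : n ∈ N(Q)) : cj k Q ⊓ C[n * (b * a) * n⁻¹] ≤ Q := by
  obtain ⟨l, hl, e⟩ := h.cl3 h.ax h.a3 h.p.n (h.pc β).c (h.pc β).a3 (h.pc β).n
  have k1 : ∀ k ∈ N1, cj k Q ⊓ C[b * a] ≤ cj l (Q ⊓ C[a]) := fun k hk => by
    rw [le_cj_iff, cj_inf, cj_cj, ← e, ← cj_cent1, cj_inv_cj]
    exact le_inf (h.Rmax β (mul_mem (inv_mem (cN x hl)) hk)) inf_le_right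
  have k2 := k1 1 (one_mem _)
  rw [cj_one] at k2
  rw [← eq_of_le_of_card_eq k2 (by rw [card_cj, h.Qc β])] at k1
  rw [← cj_cent1, ← cj_cj_inv n (cj k _), ← cj_inf, cj_cj]
  exact cj_le_of_mem_norm h2 ((k1 _ (mul_mem (inv_mem h1) hk)).trans inf_le_left)
theorem NQ : N1 ≤ N(Q) := fun n hn => by
  have k : ∀ {n}, n ∈ N1 → n ∈ N(E) → ρ n ∈ h.im N(Q) := fun h1 h2 => h.im_of (h.nQ β h1 h2) h1
  obtain ⟨m, hm, e⟩ := h.surj _ mM
  have p := h.pc β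
  have n1 := h.nQ β h.aN h.aE
  have mA : m ∈ N(zpowers x ⊔ zpowers (b * a)) := p.nA ((cjc hm).symm ▸ p.xA) (by
    rcases h.eq3 (cjm hm p.c) (inv_mem p.c) (cj_pow1 p.a3) (by rw [inv_pow, p.a3, inv_one]) (by
      rw [h.conj hm p.c, h.inv p.c, h.mul _ h.bx _ h.ax, e, h.ρa, h.ρb, mc]) with e | e | e <;> rw [e]
    exacts [inv_mem p.aA, mul_mem p.xA (inv_mem p.aA), mul_mem (mul_mem p.xA p.xA) (inv_mem p.aA)])
  have mQ : m ∈ N(Q) := mem_norm_of_cj_le (p.gen4 (by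
      rw [← cj_norm, ← cj_of_mem_norm mA]
      exact cj_mono m (sup_le (zpowers_le.2 (h.nQ β h.xN1 h.xE)) (zpowers_le.2 (mul_mem (h.nQ β h.bN h.bE) n1))))
    (pg23 ((h.pQ β).J m)) (by
      rw [← cj_of_mem hm, ← cj_inf, h.Qx β, cj_of_mem_norm (h.nz (cN x hm))]; exact zpowers_le.2 (h.zQ β))
    (by simpa using h.RQ β (cN x hm) (one_mem _) (one_mem _)) (h.ac β ▸ h.RQ β (cN x hm) (inv_mem h.aN) (inv_mem n1)) (by
      have := h.RQ β (cN x hm) (mul_mem (inv_mem h.aN) (inv_mem h.aN)) (mul_mem (inv_mem n1) (inv_mem n1))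
      rwa [← cjcj, h.ac β, cjmul, cjc (inv_mem h.ax), h.ac β, ← mul_assoc] at this))
  obtain ⟨c, h1, h2, e1⟩ := h.mem_im.1 (Gen (K := h.im N(Q)) (fun t ht => by
    obtain ⟨c, hc, rfl⟩ := h.surj' t (T0_le ht)
    exact k hc (h.nrE hc (TE ht))) (h.ρa ▸ k h.aN h.aE) (h.ρb ▸ k h.bN h.bE) (h.ρt ▸ k h.tN h.tE)
    (e ▸ h.im_of mQ (cN x hm)) (h.mem' n hn))
  exact (Subgroup.mul_mem_cancel_right _ (inv_mem h1)).1 (zpowers_le.2 (mul_mem (le_normalizer (h.zQ β)) (h.nQ β h.xN1 h.xE))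
    (h.div' hn h2 e1.symm))
theorem k8 : K8 x z ρ a b s t σ Q := ⟨h, h.n2 β, h.pQ β, (h.QY β).trans h.Yz, h.zQ β, h.NQ β, h.Qx β, fun e => by
  have := card_le ((le_sup_right.trans le_sup_left).trans e.le)
  rw [h.nF β, h.c2 β] at this
  omega, fun c hc => by
  have h1 : σ⁻¹ * c * σ ∈ C[x] := mem_cj.1 (h.σC.ge hc.1)
  obtain ⟨m, hm, j, i, e⟩ := FA6 (h.mem _ h1) (h.ρz2 (h.n2 β) ▸ h.cρ (cN x h1) (cN x h.zx2)
    (mem_cj.1 (by rw [cj_cent1, h.σz]; exact hc.2)))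
  obtain ⟨u, hu, rfl⟩ := h.lift UM pgU hm
  have m1 := mul_mem (h.Ux hu) (pow_mem h.sx j)
  have k : ∀ {g}, σ * g * σ⁻¹ ∈ N(Q) → g ∈ cj σ⁻¹ N(Q) := mem_cj_inv.2
  have := (Subgroup.mul_mem_cancel_right _ (inv_mem (mul_mem (mul_mem (k (h.YQ β (h.R2Y β (conj_mem_cj.2 hu))))
    (pow_mem (k (h.NQ β h.inN)) j)) (pow_mem (k (h.σa.symm ▸ h.NQ β h.xN1)) i)))).1 (zpowers_le.2 (mul_mem
      (k (h.YQ β (h.WY β (h.EW β (h.BE h.z2B))))) (k (h.σx.symm ▸ h.NQ β h.aN))) (h.div h1 (mul_mem m1 (pow_mem h.ax i)) (by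
        rw [e, h.mul _ m1 _ (pow_mem h.ax i), h.mul _ (h.Ux hu) _ (pow_mem h.sx j), h.pow h.sx, h.pow h.ax, h.ρs, h.ρa])))
  simpa [mul_assoc] using mem_cj_inv.1 this⟩
end Cf
end H26.J4
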