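import Cfsg.Agent.H26.J4.L4

/-! The group Q is extraspecial. -/

set_option autoImplicit false
set_option linter.unusedSectionVars false
set_option linter.unusedVariables false
set_option maxRecDepth 100000
open Subgroup H16 H19 H0 H0.TR H20.J4
open scoped commutatorElement
namespace H26.J4
variable {G : Type*} [Group G]
local notation "cj" => H19.cj


namespace K8
variable [Finite G] {x z a b s t σ : G} {ρ : G → GPm} {Q : Subgroup G} (h : K8 x z ρ a b s t σ Q)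
include h
local notation "Z6" => zpowers (z * x)
local notation "N1" => N(zpowers x)
local notation "z₂" => σ * z * σ⁻¹
theorem z1 : z ≠ 1 := h.z_ne (.inr h.n2)
theorem cz : #(zpowers z) = 2 := h.c2 (.inr h.n2)
theorem xH : x ∈ C[z] := h.zC (mem_cent1_self x)
theorem CK {K : Subgroup G} (h1 : x ∉ K) (hz : z ∈ K) (hn : C[x] ≤ N(K)) : K ⊓ C[x] = zpowers z := le_antisymm
  (fun c hc => by
    obtain ⟨j, rfl⟩ := h.memZ ((h.nrm inf_le_right (norms_inf hn le_normalizer)).resolve_right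
      (fun e => h1 (e (mem_cent1_self x)).1) hc)
    by_cases e : x ^ j = 1
    · exact e ▸ mul_mem (pow_mem (mem_zpowers z) j) (one_mem _)
    · exact absurd ((zp_prime Nat.prime_three h.x3 (pow_mem (mem_zpowers x) j) e).2.ge.trans (zpowers_le.2
        ((Subgroup.mul_mem_cancel_left _ (pow_mem hz j)).1 hc.1)) (mem_zpowers x)) h1) (zpowers_le.2 ⟨hz, h.zx⟩)
theorem x2 {K : Subgroup G} (p : PG 2 K) : x ∉ K := fun e => h.x1 (odd_two h.x3' (by decide) (t2_of_pg p e))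
theorem imB {A : Subgroup G} (p : PG 2 A) (hz : z ∈ A) (hn : C[x] ≤ N(A)) : cj σ⁻¹ (A ⊓ C[a]) ≤ C[x] ∧
    cj σ⁻¹ (A ⊓ C[a]) ⊓ Z6 = ⊥ ∧ #(h.img (cj σ⁻¹ (A ⊓ C[a]))) = #(A ⊓ C[a] : Subgroup G) := by
  have h1 : cj σ⁻¹ (A ⊓ C[a]) ≤ C[x] := cj_le_iff.2 (by rw [inv_inv, h.σC]; exact inf_le_right)
  have h2 : cj σ⁻¹ (A ⊓ C[a]) ⊓ Z6 = ⊥ := eq_bot_iff.2 fun c hc => ((mem_zpowers_inv h.zz).1 (h.z2 hc.2
    (t2_of_pg ((p.infl _).J _) hc.1))).resolve_right fun e => ((mem_zpowers_inv h.zz).1 ((h.CK (h.x2 p) hz hn).le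
      ⟨e ▸ (mem_cj_inv.1 hc.1).1, h.zx2⟩)).elim (cj_ne1 h.z1) h.n2
  exact ⟨h1, h2, by simpa [h2, card_cj] using h.card_img h1⟩
theorem irr {A : Subgroup G} (p : PG 2 A) (hA : A ≤ C[z]) (hz : z ∈ A) (hn : C[x] ≤ N(A)) :
    A = zpowers z ∨ #A = 2 ^ 13 ∧ #(A ⊓ C[a] : Subgroup G) = 32 := by
  refine or_iff_not_imp_left.2 fun n => ?_
  have CQ := h.CK (h.x2 p) hz hn
  have e := h.p.w9 h.bx h.ba p (hn (mem_cent1_self x)) (hn h.ax) (hn h.bx)
  rw [CQ, inf_eq_left.2 (zpowers_le.2 (mem_cent1_symm.1 (h.zC h.ax))), h.cz] at e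
  obtain ⟨h1, h2, h3⟩ := h.imB p hz hn
  obtain ⟨k, c⟩ := PiN.exists_card (p.of_le (inf_le_left (b := C[a])))
  have k8 : k < 8 := not_le.1 fun l => absurd ((pow_dvd_pow 2 l).trans (c ▸ h3 ▸ H15.MM22.card ▸
    card_dvd_of_le (h.img_le _))) (by decide)
  have m3 := fix_sub (by norm_num) h.x3' (hn (mem_cent1_self x))
  rw [CQ, h.cz] at m3
  obtain ⟨y, hy, o⟩ := exists_orderOf_eq_prime (H := C[x]) (p := 11) (by norm_num) (by rw [h.cC, h.cz]; decide)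
  have m11 := fix_sub (by norm_num) (o ▸ pow_orderOf_eq_one y) (hn hy)
  obtain ⟨j, c1⟩ := PiN.exists_card (p.of_le (inf_le_left (b := C[y])))
  have l : #(A ⊓ C[y] : Subgroup G) < #A := card_lt (lt_of_le_of_ne inf_le_left fun e => by
    rcases h.nrm (K := C[x] ⊓ C(A)) inf_le_left (norms_inf le_normalizer (hn.trans (norm_le_norm_cent A))) with l | l
    · have := orderOf_dvd_card' (l ⟨hy, le_cent1_iff.1 (e.ge.trans inf_le_right)⟩)
      rw [o, h.c6, h.cz] at this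
      exact absurd this (by decide)
    · exact n ((inf_eq_left.2 (le_cent1_iff.2 (l (mem_cent1_self x)).2)).symm.trans CQ))
  have k7 : k ≠ 7 := by
    rintro rfl
    have z' : z₂ ∈ cj σ⁻¹ (A ⊓ C[a]) := mem_cj_inv.2 (h.σz.symm ▸ ⟨hz, mem_cent1_symm.1 (h.zC h.ax)⟩)
    refine no128 (w := v0) vM vv v1 (le_inf (h.img_le _) fun m hm => ?_) (h3.trans c) ⟨aM, av⟩ oa
      (h.ρa ▸ h.img_norm h.ax (by
        rw [← cj_norm, mem_cj_inv, h.σa]
        exact norms_inf (zpowers_le.2 (hn (mem_cent1_self x))) (zpowers_le.2 (le_normalizer h.xa)) (mem_zpowers x)))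
    obtain ⟨u, hu, hu', rfl⟩ := h.mem_img.1 hm
    exact h.ρz2 h.n2 ▸ h.cρ (cN x hu') (cN x h.zx2) ((cj_le_iff.2 (by
      rw [inv_inv, cj_cent1, h.σz]; exact inf_le_left.trans hA) : _ ≤ C[z₂]) hu)
  rw [c] at e ⊢
  rw [c1] at l m11
  have j19 : j < 19 := (Nat.pow_lt_pow_iff_right (by decide : 1 < 2)).1 (by interval_cases k <;> omega)
  unfold Nat.ModEq at m3 m11
  interval_cases k <;> first | omega | (interval_cases j <;> omega)
theorem nC' : C[x] ≤ N(Q) := (cN x).trans h.norm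
theorem cQ : #Q = 2 ^ 13 ∧ #(Q ⊓ C[a] : Subgroup G) = 32 := (h.irr h.pg h.le h.zQ h.nC').resolve_left h.Qne
theorem irr' {A : Subgroup G} (hA : A ≤ Q) (hz : z ∈ A) (hn : C[x] ≤ N(A)) : A = zpowers z ∨ A = Q :=
  (h.irr (h.pg.of_le hA) (hA.trans h.le) hz hn).imp_right fun e => eq_of_le_of_card_ge hA (by rw [e.1, h.cQ.1])
theorem ctrQ : Q ⊓ C(Q) = zpowers z := (h.irr' inf_le_left ⟨h.zQ, le_cent1_iff.1 h.le⟩
    (norms_inf h.nC' (h.nC'.trans (norm_le_norm_cent Q)))).resolve_right fun e => by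
  obtain ⟨h1, -, h3⟩ := h.imB h.pg h.zQ h.nC'
  refine absurd (no_ab32 (h.img_le _) (PiN.of_card_pow (k := 5) Nat.prime_two (h3.trans h.cQ.2)) fun u hu =>
    mem_cent.2 fun v hv => ?_) (by rw [h3, h.cQ.2]; decide)
  obtain ⟨u, u1, hu', rfl⟩ := h.mem_img.1 hu
  obtain ⟨v, v1, hv', rfl⟩ := h.mem_img.1 hv
  obtain ⟨u, u2, rfl⟩ := mem_cj'.1 u1
  obtain ⟨v, v2, rfl⟩ := mem_cj'.1 v1
  rw [← h.mul _ hu' _ hv', ← h.mul _ hv' _ hu', conj_mul, conj_mul, mem_cent.1 (e.ge u2.1).2 _ v2.1]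
theorem der : ⁅Q, Q⁆ ≤ zpowers z := by
  have n := h.le.trans (cN z)
  exact le_sup_right.trans ((h.irr' (sup_le (zpowers_le.2 h.zQ) (der_le Q)) (mem_sup_left (mem_zpowers z))
    (norms_sup (h.zC.trans (cN z)) (norms_der h.nC'))).resolve_right fun e => h.Qne (le_antisymm (der_ne h.pg.sol n e.ge)
      (zpowers_le.2 h.zQ))).le
theorem es : ES Q z := by
  have c : ∀ u ∈ Q, ∀ v ∈ Q, ⁅u, v⁆ = 1 ∨ ⁅u, v⁆ = z := fun u hu v hv =>
    (mem_zpowers_inv h.zz).1 (h.der (commutator_mem_commutator hu hv))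
  have k : ∀ u ∈ Q, (∀ v ∈ Q, u * v = v * u) → u = 1 ∨ u = z := fun u hu e =>
    (mem_zpowers_inv h.zz).1 (h.ctrQ.le ⟨hu, mem_cent.2 fun v hv => (e v hv).symm⟩)
  refine ⟨h.zQ, h.z1, h.zz, c, fun u hu => k _ (mul_mem hu hu) fun v hv => ?_, fun u hu => mem_cent1.1 (h.le hu), k, ?_⟩
  · have e : u * v = ⁅u, v⁆ * v * u := by simp [commutatorElement_def]
    rcases c u hu v hv with e1 | e1 <;> rw [e1] at e
    · rw [mul_assoc, e, one_mul, ← mul_assoc, e, one_mul, mul_assoc]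
    · rw [mul_assoc, e, ← mul_assoc, ← mul_assoc, mem_cent1.1 (h.le hu), mul_assoc z, e, ← mul_assoc, ← mul_assoc,
        h.zz, one_mul, mul_assoc]
  · by_contra! e
    exact h.Qne (h.ctrQ ▸ (inf_eq_left.2 fun u hu => mem_cent.2 fun v hv => e v hv u hu).symm)
theorem NQz : N(Q) ≤ C[z] := (norm_le_norm_center Q).trans (h.ctrQ.symm ▸ nzC h.zz)
theorem cent : C(Q) ≤ Q := by
  have n := h.nC'.trans (norm_le_norm_cent Q)
  have zK := le_cent1_iff.1 h.le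
  have xK : x ∉ C(Q) := fun e => h.Qne ((inf_eq_left.2 (le_cent1_iff.2 e)).symm.trans h.CQ)
  have CK := h.CK xK zK n
  have l := cent_le_cent1 h.zQ
  have nA := h.AC.trans n
  have p3 : PiG {3}ᶜ C(Q) := PiN.of_not_dvd fun d => by
    obtain ⟨P, hP, l1⟩ := (PiN.of_card Nat.prime_three h.cP).exists_syl (le_sup_right : zpowers x ≤ C(Q) ⊔ zpowers x)
    have n1 := left_normal_sup (zpowers_le.2 (n (mem_cent1_self x)))
    have k := hP.inf_normal n1
    refine k.pi.meet_cent hP.pi (norms_inf le_normalizer (hP.le.trans n1.norm)) (k.sne_bot Nat.prime_three d)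
      (le_bot_iff.1 (le_trans (le_inf (le_trans (le_inf (inf_le_left.trans inf_le_right) (inf_le_right.trans
        (cent_le_cent1 (l1 (mem_zpowers x))))) CK.le) (inf_le_left.trans inf_le_left)) ((pg23 h.pz).inf_eq_bot' hP.pi).le))
  have p2 : PG 2 C(Q) := fun p hp d => by_contra fun n2 => by
    obtain ⟨P, hP, k⟩ := inv_syl_exists p nA (p3.coprime' h.p.pg) (.inl h.p.pg.sol)
    have n3 : p ≠ 3 := fun e => p3 p hp d e
    have k1 : ∀ c ∈ C(Q), c ∈ C[a] → PiE {p} c → c = 1 := fun c h1 h2 h3 => by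
      have m : σ⁻¹ * c * σ ∈ C[x] := mem_cj.1 (h.σC.ge h2)
      have o : PiE {p} (σ⁻¹ * c * σ) := by simpa using h3.e_conj σ⁻¹
      have d1 := orderOf_dvd_card' (mem_inf.2 ⟨h.mem' _ (cN x m), h.ρz2 h.n2 ▸ h.cρ (cN x m) (cN x h.zx2)
        (mem_cj.1 (by rw [cj_cent1, h.σz]; exact l h1))⟩)
      have k6 : ∀ {n}, n ∣ 768 → PiN {p} n → n = 1 := fun d e => e.eq_one (PiN.of_not_dvd fun d1 => by
        have := (Nat.Prime.dvd_mul hp).1 (show p ∣ 2 ^ 8 * 3 from d1.trans d)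
        exact this.elim (fun e => n2 ((Nat.prime_dvd_prime_iff_eq hp Nat.prime_two).1 (hp.dvd_of_dvd_pow e)))
          fun e => n3 ((Nat.prime_dvd_prime_iff_eq hp Nat.prime_three).1 e))
      rw [cent2A vM vv v1] at d1
      have d2 := orderOf_dvd_card' ((h.ker _ m).1 (orderOf_eq_one_iff.1 (k6 d1 (o.dvd
        ((orderOf_map_dvd h.hom ⟨_, m⟩).trans (orderOf_coe _).symm.dvd)))))
      rw [h.c6, h.cz] at d2
      exact conj_eq_one_iff.1 ((inv_inv σ).symm ▸ orderOf_eq_one_iff.1 (k6 (d2.trans (by decide)) o) : σ⁻¹ * c * σ⁻¹⁻¹ = 1)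
    have k2 : ∀ y ∈ C[x], P ⊓ C[y * a * y⁻¹] ≤ ⊥ := fun y hy c hc => by
      simpa using conj_eq_one_iff.1 (k1 (y⁻¹ * c * y⁻¹⁻¹) (conj_mem_of_norm (inv_mem (n hy)) (hP.le hc.1)) (by
        simpa using mem_cj.1 ((cj_cent1 y a).ge hc.2)) ((hP.pi.elt hc.1).e_conj _))
    exact hP.sne_bot hp d (le_bot_iff.1 (h.p.gen4 k (p3.of_le hP.le) ((le_inf inf_le_left ((inf_le_inf_right _ hP.le).trans
      CK.le)).trans (hP.pi.inf_eq_bot (h.pz.sing_ne (Ne.symm n2))).le) (by simpa using k2 1 (one_mem _)) (h.ba ▸ k2 b h.bx) (by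
        have := k2 _ (pow_mem h.bx 2)
        rwa [h.bia, sq] at this)))
  have := (h.irr (h.pg.sup p2 (cent_le_norm Q)) (sup_le h.le l) (mem_sup_left h.zQ) (norms_sup h.nC' n)).resolve_left
    fun e => h.Qne (le_antisymm (le_sup_left.trans e.le) (zpowers_le.2 h.zQ))
  exact le_sup_right.trans (eq_of_le_of_card_eq le_sup_left (h.cQ.1.trans this.1.symm)).ge
end K8
end H26.J4
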