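import Cfsg.Agent.H26.J4.M0

/-! The normalizer of Q. -/

set_option autoImplicit false
set_option linter.unusedSectionVars false
set_option linter.unusedVariables false
set_option maxRecDepth 100000
open Subgroup H16 H19 H0 H0.TR H20.J4
open scoped commutatorElement
namespace H26.J4
variable {G : Type*} [Group G]
local notation "cj" => H19.cj

theorem le_sub {Q L : Subgroup G} {z : G} (h : ES Q z) (c : C(Q) ≤ Q) (h1 : Q ≤ L) (h2 : L ≤ N(Q)) :
    LE (Q.subgroupOf L) ⟨z, h1 h.zQ⟩ := ⟨es_of_map (subtype_injective L) ((map_subgroupOf_eq_of_le h1).symm ▸ h),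
  fun a ha => c (mem_cent.2 fun b hb => congrArg Subtype.val (mem_cent.1 ha ⟨b, h1 hb⟩ hb)), fun a _ =>
    (normalizer_eq_top_iff.2 ((normal_subgroupOf_iff_le_normalizer h1).2 h2)).ge (mem_top a)⟩
theorem clq5 : (∀ a < 8192, clq a < 5) ∧ ∀ i < 5, ∃ r ∈ [0, 4096, 1, 2423, 9], clq r = i ∧ cntCls clq i 0 8192 % 27 ≠ 0 :=
  ⟨az_of (by decide +kernel), by decide +kernel⟩
theorem sq_c3 [Finite G] {z p : G} {Q N : Subgroup G} {π : G → GPm} {g cq : ℕ → G} (h : SQ z p Q N π g cq) {q : G}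
    (hq : q ∈ Q) : ∃ y ∈ C[q], orderOf y = 3 := by
  obtain ⟨a, ha, rfl⟩ := h.qc.surj _ hq
  obtain ⟨r, hr, e, n⟩ := clq5.2 _ (clq5.1 a ha)
  obtain ⟨k, -, e1⟩ := ((h.clQ hr).1 a ha).2 e.symm
  have c := cl_card C[z] (cq r)
  rw [(h.clQ hr).2, e, h.cH] at c
  obtain ⟨y, hy, o⟩ := exists_orderOf_eq_prime (H := C[z] ⊓ C[cq r]) Nat.prime_three (by_contra fun d => n
    (Nat.mod_eq_zero_of_dvd ((((Nat.Prime.coprime_iff_not_dvd Nat.prime_three).2 d).pow_left 3).dvd_of_dvd_mul_right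
      (by rw [c]; decide))))
  exact ⟨_, e1 ▸ cent_cj hy.2, (orderOf_conj' k y).trans o⟩

namespace K8
variable [Finite G] {x z a b s t σ : G} {ρ : G → GPm} {Q : Subgroup G} (h : K8 x z ρ a b s t σ Q)
include h
local notation "Z6" => zpowers (z * x)
local notation "N1" => N(zpowers x)
local notation "z₂" => σ * z * σ⁻¹
local notation "N0" => (Q ⊔ zpowers x : Subgroup G)
local notation "HH" => (Q ⊔ N(zpowers x) : Subgroup G)
theorem QP : Q ⊓ zpowers x = ⊥ := by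
  rw [inf_comm]; exact inf_eq_bot_of_prime (h.cP ▸ Nat.prime_three) fun e => h.x2 h.pg (e (mem_zpowers x))
theorem cN0 : #N0 = 3 * #Q := by rw [card_sup_of_disjoint (le_normalizer.trans h.norm) h.QP, h.cP, mul_comm]
theorem QN1 {c : G} (ha : c ∈ N1) (hq : c ∈ Q) : c ∈ zpowers z := h.CQ.le ⟨hq, mem_cent1.2 (comm_eq_one.1
  (mem_bot.1 (h.QP.le (mem_inf.2 ⟨by
    simpa [commutatorElement_def, mul_assoc] using mul_mem hq (conj_mem_of_norm (h.norm h.xN1) (inv_mem hq)),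
    mul_mem (conj_mem_of_norm ha (mem_zpowers x)) (inv_mem (mem_zpowers x))⟩))))⟩
theorem HHle : HH ≤ N(Q) := sup_le le_normalizer h.norm
theorem N0le : N0 ≤ HH := sup_le_sup_left le_normalizer _
theorem pi : ∃ π : G → GPm, (∀ a ∈ HH, ∀ b ∈ HH, π (a * b) = π a * π b) ∧ (∀ a ∈ HH, π a = 1 ↔ a ∈ N0) ∧
    (∀ a ∈ HH, π a ∈ AA) ∧ ∀ m ∈ AA, ∃ a ∈ HH, π a = m := by
  obtain ⟨π, e⟩ := ext_hom h.mul' fun a ha hq => h.kz (h.zl (h.QN1 ha hq))
  refine ⟨π, fun a ha' b hb' => ?_, fun a ha' => ?_, fun a ha' => ?_, fun m hm => ?_⟩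
  · obtain ⟨q, hq, a, ha, rfl⟩ := (mem_sup_of_norm h.norm).1 ha'
    obtain ⟨r, hr, b, hb, rfl⟩ := (mem_sup_of_norm h.norm).1 hb'
    rw [show q * a * (r * b) = q * (a * r * a⁻¹) * (a * b) by group,
      e _ (mul_mem hq (conj_mem_of_norm (h.norm ha) hr)) _ (mul_mem ha hb), e q hq a ha, e r hr b hb, h.mul' a ha b hb]
  · obtain ⟨q, hq, a, ha, rfl⟩ := (mem_sup_of_norm h.norm).1 ha'
    rw [e q hq a ha, Subgroup.mul_mem_cancel_left _ (mem_sup_left hq)]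
    refine ⟨fun e => zpowers_le.2 (mul_mem (mem_sup_left h.zQ) (mem_sup_right (mem_zpowers x))) (h.ker' ha e), fun e => ?_⟩
    obtain ⟨r, hr, y, hy, rfl⟩ := (mem_sup_of_norm (le_normalizer.trans h.norm)).1 e
    exact h.kz (mul_mem (h.zl (h.QN1 ((Subgroup.mul_mem_cancel_right _ (le_normalizer hy)).1 ha) hr)) (zpowers_le.2 h.xZ hy))
  · obtain ⟨q, hq, a, ha, rfl⟩ := (mem_sup_of_norm h.norm).1 ha'
    rw [e q hq a ha]; exact h.mem' a ha
  · obtain ⟨a, ha, rfl⟩ := h.surj' m hm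
    exact ⟨a, mem_sup_right ha, by simpa using e 1 (one_mem _) a ha⟩
theorem NQ : N(Q) ≤ HH ∧ ∀ q ∈ Q, ∃ y ∈ N(Q) ⊓ C[q], orderOf y = 3 := by
  obtain ⟨π, h1, h2, h3, h4⟩ := h.pi
  let z' : HH := ⟨z, mem_sup_left h.zQ⟩
  let x' : HH := ⟨x, h.N0le (mem_sup_right (mem_zpowers x))⟩
  have inj := subtype_injective HH
  have eC : (C[x].subgroupOf HH).map (HH).subtype = C[x] := map_subgroupOf_eq_of_le ((cN x).trans le_sup_right)
  have hz : ∀ y : HH, y ∈ C[z'] := fun y => mem_cent1.2 (Subtype.ext (mem_cent1.1 (h.NQz (h.HHle y.2))))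
  have cQ := card_subgroupOf' (le_sup_left : Q ≤ HH)
  have k0 : Hy0 z' x' (Q.subgroupOf HH) ((N0).subgroupOf HH) fun a => π a :=
    ⟨le_sub h.es h.cent le_sup_left h.HHle, cQ.trans h.cQ.1, comap_mono le_sup_left, fun y _ => hz y,
      by rw [card_subgroupOf' h.N0le, cQ, h.cN0], mem_sup_right (mem_zpowers x), (orderOf_injective _ inj x').symm.trans h.x3,
      fun a _ b _ => h1 a a.2 b b.2, fun a _ => h2 a a.2, fun a _ => h3 a a.2, fun m hm => by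
        obtain ⟨a, ha, e⟩ := h4 m hm
        exact ⟨⟨a, ha⟩, hz _, e⟩⟩
  have pf : C[x].subgroupOf HH ≤ ⁅C[x].subgroupOf HH, C[x].subgroupOf HH⁆ := by
    rw [← map_le_map_iff_of_injective inj, map_commutator, eC]; exact h.perf
  obtain ⟨p, g', ep, st⟩ := (show Hy z' x' _ _ _ from ⟨k0, fun q hq e => (mem_map_iff_mem inj).1 (by
      rw [MonoidHom.map_zpowers]; exact h.CQ.le ⟨hq, mem_cent1.2 (congrArg Subtype.val e)⟩),
    C[x].subgroupOf HH, fun y hy => ⟨hz y, mem_cent1.2 (Subtype.ext (mem_cent1.1 hy))⟩, fun y hy => (k0.mem_M0.1 (k0.comm_le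
      (commutator_mono (fun y _ => hz y) (fun y _ => hz y) (pf hy)))).2, pf (mem_cent1_self x)⟩).exists_st
  obtain ⟨cq, qc⟩ := st.exists_qc
  have ep' : zpowers (p : G) = zpowers x := by
    have := congrArg (map (HH).subtype) ep
    rwa [MonoidHom.map_zpowers, MonoidHom.map_zpowers] at this
  have fr : N(Q) ⊓ N(N0) ≤ HH := by
    have := card_mul_relIndex (le_sup_right : zpowers x ≤ N0)
    rw [h.cN0, h.cP, h.cQ.1, mul_right_inj' (by decide)] at this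
    rw [← (syl_mk le_sup_right (PiN.of_card Nat.prime_three h.cP) (by rw [this]; decide)).frattini
      (M := N(Q) ⊓ N(N0)) ⟨le_inf (h.N0le.trans h.HHle) le_normalizer, inf_le_right⟩]
    exact sup_le h.N0le (inf_le_right.trans le_sup_right)
  have em : ∀ K ≤ HH, (K.subgroupOf HH).map (inclusion h.HHle) = K.subgroupOf N(Q) := fun K hK => by
    ext y; exact ⟨by rintro ⟨w, hw, rfl⟩; exact hw, fun e => ⟨⟨y, hK e⟩, e, rfl⟩⟩
  refine ⟨(le_inf le_rfl fun a ha => mem_norm_of_cj_le ?_).trans fr, fun q hq => ?_⟩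
  · rw [cj_sup, cj_of_mem_norm ha, ← ep', cj_zpowers, ep']
    refine sup_le le_sup_left (zpowers_le.2 ?_)
    have := SQ.fin ⟨st, qc⟩ (inclusion_injective h.HHle) hz ((em Q le_sup_left).symm ▸ le_sub h.es h.cent le_normalizer le_rfl)
      (card_map_of_injective (subtype_injective N(Q)) ▸ h.no81 _) (fun y hy => ⟨⟨y, fr ⟨y.2, mem_norm_of_cj_le fun w hw' => by
        obtain ⟨w, hw, rfl⟩ := mem_cj'.1 hw'
        exact conj_mem_of_norm (H := (N0).subgroupOf N(Q)) (em _ h.N0le ▸ hy.2) (x := ⟨w, h.HHle (h.N0le hw)⟩) hw⟩⟩, rfl⟩)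
      (a := ⟨a, ha⟩) (mem_cent1.2 (Subtype.ext (mem_cent1.1 (h.NQz ha))))
    rwa [em _ h.N0le] at this
  · obtain ⟨y, hy, o⟩ := sq_c3 ⟨st, qc⟩ (q := ⟨q, mem_sup_left hq⟩) hq
    exact ⟨y, ⟨h.HHle y.2, mem_cent1.2 (congrArg Subtype.val (mem_cent1.1 hy))⟩, (orderOf_injective _ inj y).trans o⟩
end K8
end H26.J4
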