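import Cfsg.Agent.H26.J4.M1

/-! Fusion of inner involutions. -/

set_option autoImplicit false
set_option linter.unusedSectionVars false
set_option linter.unusedVariables false
set_option maxRecDepth 100000
open Subgroup H16 H19 H0 H0.TR H20.J4
open scoped commutatorElement
namespace H26.J4
variable {G : Type*} [Group G]
local notation "cj" => H19.cj

theorem cmap [Finite G] {Q : Subgroup G} {c : G} (sq : ∀ q ∈ Q, q * q = 1) (n : c ∈ N(Q)) (c2 : c * c = 1) : ∃ J ≤ Q ⊓ C[c],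
    (∀ u ∈ J, ∃ q ∈ Q, q * c * q⁻¹ * c⁻¹ = u) ∧ #J * #(Q ⊓ C[c] : Subgroup G) = #Q := by
  have m := fun q : Q => conj_mem_of_norm n (inv_mem q.2)
  let φ : Q →* G := MonoidHom.mk' (fun q => q * (c * (q : G)⁻¹ * c⁻¹)) fun p q => by
    rw [coe_mul, mul_inv_rev, cjmul, comm_of_sq sq (m q) (m p), mul_assoc, mul_assoc (p : G), ← mul_assoc (q : G),
      ← mul_assoc _ (q : G), comm_of_sq sq q.2 (m p)]
  refine ⟨φ.range, ?_, ?_, ?_⟩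
  · rintro _ ⟨q, rfl⟩
    refine ⟨mul_mem q.2 (m q), mem_cent1_symm.1 (of_cjc ?_)⟩
    change c * (q * (c * (q : G)⁻¹ * c⁻¹)) * c⁻¹ = q * (c * (q : G)⁻¹ * c⁻¹)
    rw [cjmul, cjcj, c2, comm_of_sq sq q.2 (m q), inv_eq_of_mul_eq_one_right (sq _ q.2)]; simp
  · rintro _ ⟨q, rfl⟩; exact ⟨q, q.2, by simp [φ, mul_assoc]⟩
  · rw [card_eq_card_quotient_mul_card_subgroup φ.ker, Nat.card_congr (QuotientGroup.quotientKerEquivRange φ).toEquiv,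
      show φ.ker = C[c].subgroupOf Q from Subgroup.ext fun q => by
        rw [mem_subgroupOf, mem_cent1, ← mul_inv_eq_one]; simp [φ, mul_assoc], card_subgroupOf, inf_comm]
theorem bnd [Finite G] {K : Subgroup G} {c y : G} (ab : cj y K ≤ C(K)) (c2 : c * c = 1) (e : c * y * c⁻¹ = y⁻¹) (y3 : y ^ 3 = 1)
    (l : K ≤ C[c]) {M : Subgroup G} (l1 : K ≤ M) : #K * #K ≤ #(K ⊔ cj y K : Subgroup G) * #(M ⊓ C[y] : Subgroup G) := by
  nth_rw 2 [← card_cj y K]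
  rw [← card_sup_mul_inf (norms_of_cents ab)]
  refine Nat.mul_le_mul_left _ (card_le fun u hu => ⟨l1 hu.1, mem_cent1_symm.1 ?_⟩)
  have := mul_mem (mem_cent1_symm.1 (l hu.1)) (mem_cent1_symm.1 (cj_cent1 y c ▸ cj_mono y l hu.2))
  rwa [← mul_assoc, ← mul_assoc, mul_inv_eq_iff_eq_mul.1 e, mul_assoc _ c c, c2, mul_one, ← mul_inv_rev,
    inv_eq_of_mul_eq_one_right (pow_three' y ▸ y3)] at this
theorem idx2 [Finite G] {K L : Subgroup G} (h : ∀ u ∈ K, ∀ v ∈ K, u ∉ L → v ∉ L → u * v ∈ L) : #K ≤ 2 * #(K ⊓ L : Subgroup G) := by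
  by_cases e : K ≤ L
  · rw [inf_eq_left.2 e]; omega
  obtain ⟨w, hw, n⟩ := SetLike.not_le_iff_exists.1 e
  have : L.relIndex K = 2 := index_eq_two_iff.2 ⟨⟨w, hw⟩, fun b => by
    by_cases k : (b : G) ∈ L
    exacts [.inr ⟨k, fun e => n ((Subgroup.mul_mem_cancel_left _ k).1 e)⟩, .inl ⟨h _ b.2 w hw k n, k⟩]⟩
  rw [← card_inf_mul_relIndex L K, this, inf_comm, mul_comm]
/-- the quotient of the centralizer of the involution -/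
structure K9 (x : G) (ρ : G → GPm) (a s n : G) (Q : Subgroup G) : Prop extends KN x 1 ρ where
  p : Pr x a
  nc : ¬ IsConj x a
  sq : ∀ q ∈ Q, q * q = 1
  cQ : #Q = 4096
  norm : N(zpowers x) ≤ N(Q)
  NQ : N(Q) ≤ Q ⊔ N(zpowers x)
  cent : C(Q) ≤ Q
  Qa : #(Q ⊓ C[a] : Subgroup G) = 16
  Ca : C[a] ≤ N(Q)
  sx : s ∈ C[x]
  ss : s * s = 1
  sa : s * a * s⁻¹ = a⁻¹
  nx' : n ∈ C[x]
  nn : n * n = 1
  n1 : n ≠ 1
  na : n ∈ C[a]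
  Qn : Q ⊓ C[a] ≤ C[n]
  c3 : ∀ q ∈ Q, ∃ y ∈ N(Q) ⊓ C[q], orderOf y = 3
  irr : ∀ A ≤ Q, C[x] ≤ N(A) → A = ⊥ ∨ A = Q

namespace K9
variable [Finite G] {x a s n : G} {ρ : G → GPm} {Q : Subgroup G} (h : K9 x ρ a s n Q)
include h
local notation "N1" => N(zpowers x)
local notation "I" => (Q ⊔ C[x] : Subgroup G)
theorem pg : PG 2 Q := PiN.of_card_pow (k := 12) Nat.prime_two h.cQ
theorem ab : Q ≤ C(Q) := ab_sq h.sq
theorem nC' : C[x] ≤ N(Q) := (cN x).trans h.norm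
theorem xQ : x ∉ Q := fun e => h.x1 (odd_two h.x3' (by decide) (t2_of_pg h.pg e))
theorem Qx : Q ⊓ C[x] = ⊥ := (h.irr _ inf_le_left (norms_inf h.nC' le_normalizer)).resolve_right fun e =>
  h.xQ (h.cent (le_cent1_iff.1 (e.ge.trans inf_le_right)))
theorem QN {c : G} (ha : c ∈ N1) (hq : c ∈ Q) : c = 1 := h.Qx.le ⟨hq, mem_cent1.2 (comm_eq_one.1 ((h.pg.inf_eq_bot
  (PiN.of_not_dvd (by rw [h.cP]; decide))).le (mem_inf.2 ⟨by
    simpa [commutatorElement_def, mul_assoc] using mul_mem hq (conj_mem_of_norm (h.nC' (mem_cent1_self x)) (inv_mem hq)),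
    mul_mem (conj_mem_of_norm ha (mem_zpowers x)) (inv_mem (mem_zpowers x))⟩)))⟩
theorem icj {c d : G} (hc : c ∈ C[x]) (c2 : c * c = 1) (c1 : c ≠ 1) (hd : d ∈ C[x]) (d2 : d * d = 1) (d1 : d ≠ 1) :
    ∃ k ∈ N1, k * c * k⁻¹ = d := by
  have k : ∀ {c}, c ∈ C[x] → c * c = 1 → c ≠ 1 → ρ c * ρ c = 1 ∧ ρ c ≠ 1 := fun hc c2 c1 => ⟨by
    rw [← h.mul _ hc _ hc, c2, h.one], fun e => c1 (by simpa using h.z2 ((h.ker _ hc).1 e) (t2_sq c2))⟩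
  obtain ⟨m, hm, e⟩ := cls2 (h.mem c hc) (k hc c2 c1).1 (k hc c2 c1).2 (h.mem d hd) (k hd d2 d1).1 (k hd d2 d1).2
  obtain ⟨k, hk, rfl⟩ := h.surj' m hm
  exact ⟨k, hk, by simpa using h.eq2 (h.cjC hk hc) hd ((t2_sq c2).cj k) (t2_sq d2) (by rw [h.conj' hk (cN x hc), e])⟩
theorem bd {K : Subgroup G} {c y : G} (l1 : K ≤ Q) (hy : y ∈ N(Q)) (c2 : c * c = 1) (e : c * y * c⁻¹ = y⁻¹) (y3 : y ^ 3 = 1)
    (l : K ≤ C[c]) : #K * #K ≤ #(K ⊔ cj y K : Subgroup G) * #(Q ⊓ C[y] : Subgroup G) ∧ #(K ⊔ cj y K : Subgroup G) ≤ 4096 :=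
  ⟨bnd (cents_mono h.ab (cj_le_of_mem_norm hy l1) l1) c2 e y3 l l1, h.cQ ▸ card_le (sup_le l1 (cj_le_of_mem_norm hy l1))⟩
theorem s1 : s ≠ 1 := fun e => by
  have := h.sa
  rw [e, one_mul, inv_one, mul_one, eq_inv_iff_mul_eq_one] at this
  exact h.p.n (by rw [← one_mul a, ← this, ← pow_three', h.p.a3]; exact one_mem _)
theorem Cin {c : G} (hc : c ∈ C[x]) (c2 : c * c = 1) (c1 : c ≠ 1) : #(Q ⊓ C[c] : Subgroup G) ≤ 256 := by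
  obtain ⟨k, hk, e⟩ := h.icj hc c2 c1 h.sx h.ss h.s1
  have := h.bd inf_le_left (h.nC' h.p.c) h.ss h.sa h.p.a3 inf_le_right
  rw [cent_conj (h.norm hk) (y := s) (by rw [cj_zpowers, e])]
  rw [h.Qa] at this
  nlinarith
theorem cl3' {y : G} (hy : y ∈ N(Q)) (y3 : y ^ 3 = 1) (y1 : y ≠ 1) : ∃ k ∈ N(Q), k * y * k⁻¹ = x ∨ k * y * k⁻¹ = a := by
  obtain ⟨P, hP⟩ := exists_syl 3 C[x]
  obtain ⟨k, hk, l⟩ := ((h.syl hP).2.2.2.of_le (hP.le.trans h.nC') le_top).scj_le (zpowers_le.2 hy)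
    (PiN.of_card Nat.prime_three ((Nat.card_zpowers y).trans (o3 y3 y1)))
  have m := hP.le (l (conj_mem_cj.2 (mem_zpowers y)))
  by_cases e : k * y * k⁻¹ ∈ zpowers x
  · obtain ⟨i, hi, e1⟩ := mem_zp_lt (by decide) h.x3' e
    obtain ⟨c, hc, e2⟩ := h.surj' _ (lt_AA 16)
    interval_cases i
    · exact absurd (e1.trans (pow_zero x)) (cj_ne1 y1)
    · exact ⟨k, hk, .inl (e1.trans (pow_one x))⟩
    · exact ⟨_, mul_mem (h.norm hc) hk, .inl (by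
        rw [← cjcj, e1, ← conj_pow, (h.cjx hc).resolve_left fun e => T4a.2.2.2.2.2.2.2 (e2 ▸ h.mem c (of_cjc e)), inv_pow,
          inv_eq_iff_mul_eq_one, ← pow_succ, h.x3'])⟩
  · obtain ⟨c, hc, e1⟩ := h.cl3 m (cj_pow1 y3) e h.p.c h.p.a3 h.p.n
    exact ⟨_, mul_mem (h.nC' hc) hk, .inr (by rw [← cjcj, e1])⟩
theorem SE3 {g y : G} (hy : y ∈ N(Q)) (y3 : y ^ 3 = 1) (y1 : y ≠ 1) (hg : g * y * g⁻¹ ∈ N(Q)) : g ∈ N(Q) := by
  obtain ⟨k, hk, e⟩ := h.cl3' hy y3 y1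
  obtain ⟨l, hl, e'⟩ := h.cl3' hg (cj_pow1 y3) (cj_ne1 y1)
  have e1 : l * g * k⁻¹ * (k * y * k⁻¹) * (l * g * k⁻¹)⁻¹ = l * (g * y * g⁻¹) * l⁻¹ := by group
  refine (Subgroup.mul_mem_cancel_left _ hl).1 ((Subgroup.mul_mem_cancel_right _ (inv_mem hk)).1 ?_)
  rcases e with e | e <;> rcases e' with e' | e' <;> rw [e, e'] at e1
  exacts [h.nC' (of_cjc e1), absurd (isConj_iff.2 ⟨_, e1⟩) h.nc, absurd (isConj_iff.2 ⟨_, e1⟩).symm h.nc, h.Ca (of_cjc e1)]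
theorem SE3' {g y : G} (hy : y ∈ N(Q)) (o : orderOf y = 3) (hg : g * y * g⁻¹ ∈ N(Q)) : g ∈ N(Q) :=
  h.SE3 hy (o ▸ pow_orderOf_eq_one y) (by rintro rfl; simp at o) hg
theorem clB {q g y : G} (hq : q ∈ Q) (hy : y ∈ N(Q)) (o : orderOf y = 3) (c : y ∈ C[g * q * g⁻¹]) : g * q * g⁻¹ ∈ Q := by
  obtain ⟨w, hw, o'⟩ := h.c3 q hq
  obtain ⟨S, hS, l⟩ := (PiN.of_card Nat.prime_three ((Nat.card_zpowers y).trans o)).exists_syl (zpowers_le.2 c)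
  obtain ⟨k, hk, l1⟩ := hS.scj_le (zpowers_le.2 (cent_cj hw.2)) (PiN.of_card Nat.prime_three ((Nat.card_zpowers _).trans
    ((orderOf_conj' g w).trans o')))
  obtain ⟨v, hv, o1⟩ := exists_orderOf_eq_prime Nat.prime_three ((hS.pi.infl C(S)).dvd_of_ne_bot (hS.pi.center_ne_bot
    (ne_bot_of_mem (l (mem_zpowers y)) (by rintro rfl; simp at o))))
  have h1 := h.SE3' hy o ((cjc (cent_le_cent1 (l (mem_zpowers y)) hv.2)).symm ▸ hy)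
  have h2 := h.SE3' hw.1 o' (cjcj k g w ▸ h.SE3' h1 o1 ((cjc (le_cent1_iff.2 hv.2 (l1 (conj_mem_cj.2 (mem_zpowers _))))).symm ▸ h1))
  exact cjc hk ▸ (cjcj k g q).symm ▸ conj_mem_of_norm h2 hq
theorem sqN {u c : G} (hu : u ∈ Q) (hc : c ∈ N1) (e : u * c * (u * c) = 1) : c * c = 1 := h.QN (mul_mem hc hc) (by
  rw [show c * c = (u * (c * u * c⁻¹))⁻¹ * (u * c * (u * c)) by group, e, mul_one]
  exact inv_mem (mul_mem hu (conj_mem_of_norm (h.norm hc) hu)))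
theorem inner {q g : G} (hq : q ∈ Q) (ht : g * q * g⁻¹ ∈ I) : g * q * g⁻¹ ∈ Q := by
  obtain ⟨u, hu, c, hc, e⟩ := (mem_sup_of_norm h.nC').1 ht
  have t2 := cj_sq1 (a := g) (h.sq q hq)
  by_cases c1 : c = 1
  · rwa [e, c1, mul_one]
  obtain ⟨k, hk, e1⟩ := h.icj hc (h.sqN hu (cN x hc) (e ▸ t2)) c1 h.nx' h.nn h.n1
  have m := conj_mem_of_norm (h.norm hk) hu
  obtain ⟨J, l, k1, c2⟩ := cmap h.sq (h.nC' h.nx') h.nn
  have d : (Q ⊓ C[a]) ⊓ J = ⊥ := eq_bot_iff.2 fun u hu => by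
    obtain ⟨r, hr, e⟩ := k1 u hu.2
    have n1 := h.nC' h.p.c
    have m1 := conj_mem_of_norm n1 hr
    have m2 := conj_mem_of_norm n1 m1
    have k := cjc (h.Qn ⟨mul_mem (mul_mem hr m1) m2, tr3 h.p.a3 (comm_of_sq h.sq hr m1) (comm_of_sq h.sq hr m2)⟩)
    have k2 : ∀ r, r * n * r⁻¹ = u * n → a * r * a⁻¹ * n * (a * r * a⁻¹)⁻¹ = u * n := fun r e => by
      rw [← cjc' h.na, conj_inv, conj_mul, conj_mul, e, cjmul, cjc' hu.1.2]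
    have k3 : ∀ r ∈ Q, ∀ v ∈ Q, r * n * r⁻¹ = u * n → r * (v * n) * r⁻¹ = v * u * n := fun r hr v hv e => by
      rw [cjmul, e, comm_of_sq h.sq hr hv, mul_inv_cancel_right, mul_assoc]
    have e1 := mul_inv_eq_iff_eq_mul.1 e
    rw [← cjcj, ← cjcj, k2 _ (k2 _ e1), k3 _ m1 _ hu.1.1 (k2 _ e1), k3 _ hr _ (mul_mem hu.1.1 hu.1.1) e1, h.sq _ hu.1.1, one_mul,
      mul_eq_right] at k
    exact k
  have n2 : J ≤ N(Q ⊓ C[a]) := norms_of_cents (cents_mono h.ab (l.trans inf_le_left) inf_le_left)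
  have c3 := h.Cin h.nx' h.nn h.n1
  obtain ⟨v, hv, w, hw, e2⟩ := (mem_sup_of_norm n2).1 ((eq_of_le_of_card_ge (sup_le (le_inf inf_le_left h.Qn) l) (by
    rw [card_sup_of_disjoint n2 d, h.Qa]; rw [h.cQ] at c2; nlinarith)).ge ⟨m, mem_cent1_symm.1 (of_cjc (by
      have := cj_sq1 (a := k) t2
      rw [e, cjmul, e1] at this
      rw [inv_eq_of_mul_eq_one_right h.nn, ← mul_right_inj (k * u * k⁻¹), h.sq _ m, ← this]; group))⟩)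
  obtain ⟨r, hr, rfl⟩ := k1 w hw
  have e3 : r⁻¹ * k * g * q * (r⁻¹ * k * g)⁻¹ = v * n := by
    rw [← cjcj, ← cjcj, e, cjmul k, e1, e2, mul_assoc v, inv_mul_cancel_right, cjmul, comm_of_sq h.sq (inv_mem hr) hv.1]; group
  exact absurd (h.QN (cN x h.nx') ((Subgroup.mul_mem_cancel_left _ hv.1).1 (e3 ▸ h.clB hq (h.nC' h.p.c) h.p.oa
    (e3 ▸ mem_cent1_symm.1 (mul_mem hv.2 h.na))))) h.n1
end K9
end H26.J4
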