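import Cfsg.Agent.H26.J4.M2
import Cfsg.Agent.H17.GF2

/-! The group Q is strongly closed, hence normal. -/

set_option autoImplicit false
set_option linter.unusedSectionVars false
set_option linter.unusedVariables false
set_option maxRecDepth 100000
open Subgroup H16 H19 H0 H0.TR H20.J4
open scoped commutatorElement
namespace H26.J4
variable {G : Type*} [Group G]
local notation "cj" => H19.cj


namespace K9
variable [Finite G] {x a s n : G} {ρ : G → GPm} {Q : Subgroup G} (h : K9 x ρ a s n Q)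
include h
local notation "N1" => N(zpowers x)
local notation "I" => (Q ⊔ C[x] : Subgroup G)
theorem decN {u : G} (hu : u ∈ N(Q)) (k : u ∉ I) : ∃ q ∈ Q, ∃ c ∈ N1, c ∉ C[x] ∧ u = q * c := by
  obtain ⟨q, hq, c, hc, rfl⟩ := (mem_sup_of_norm h.norm).1 (h.NQ hu)
  exact ⟨q, hq, c, hc, fun e => k (mul_mem_sup hq e), rfl⟩
theorem out2 {u v : G} (hu : u ∈ N(Q)) (hv : v ∈ N(Q)) (h1 : u ∉ I) (h2 : v ∉ I) : u * v ∈ I := by
  obtain ⟨q, hq, c, hc, k1, rfl⟩ := h.decN hu h1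
  obtain ⟨r, hr, d, hd, k2, rfl⟩ := h.decN hv h2
  simpa [mul_assoc] using mul_mem_sup (mul_mem hq (conj_mem_of_norm (h.norm hc) hr)) (h.out hc hd k1 k2)
theorem half {K : Subgroup G} (l : K ≤ N(Q)) : #K ≤ 2 * #(K ⊓ I : Subgroup G) := idx2 fun _ hu _ hv => h.out2 (l hu) (l hv)
theorem outer {t : G} (ht : t ∈ N(Q)) (k : t ∉ I) (t2 : t * t = 1) {K : Subgroup G} (l : K ≤ Q ⊓ C[t]) :
    #K * #K ≤ #(K ⊔ cj x K : Subgroup G) ∧ #K ≤ 64 := by
  obtain ⟨q, hq, c, hc, k1, rfl⟩ := h.decN ht k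
  have := h.bd (l.trans inf_le_left) (h.nC' (mem_cent1_self x)) (h.sqN hq hc t2) ((h.cjx hc).resolve_left fun e => k1 (of_cjc e))
    h.x3' fun u hu => mem_cent1_symm.1 ((Subgroup.mul_mem_cancel_left _ (cent_le_cent1 (l hu).1 (h.ab hq))).1
      (mem_cent1_symm.1 (l hu).2))
  rw [h.Qx, card_bot, mul_one] at this
  exact ⟨this.1, by nlinarith⟩
theorem innerK {g : G} {K : Subgroup G} (l : K ≤ cj g Q) : K ⊓ I ≤ Q := fun u hu => by
  obtain ⟨q, hq, rfl⟩ := mem_cj'.1 (l hu.1)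
  exact h.inner hq hu.2
theorem abg (g : G) : cj g Q ≤ C(cj g Q) := cj_cent g Q ▸ cj_mono g h.ab
theorem WC {g : G} (l : cj g Q ≤ N(Q)) : g ∈ N(Q) := mem_norm_of_cj_le fun t ht => by_contra fun k => by
  have := h.half l
  have := (h.outer (l ht) (fun e => k (h.innerK le_rfl ⟨ht, e⟩)) (sq_cj h.sq g t ht) (le_inf (h.innerK le_rfl)
    (inf_le_left.trans ((h.abg g).trans (cent_le_cent1 ht))))).2
  rw [card_cj, h.cQ] at *
  omega
theorem WC2 {P : Subgroup G} (p : PG 2 P) (l : Q ≤ P) : P ≤ N(Q) := (nil_eq_of_norm_le p.nil inf_le_left fun g hg =>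
  ⟨hg.1, h.WC ((cj_le_of_mem_norm hg.2 (le_inf l le_normalizer)).trans inf_le_right)⟩).ge.trans inf_le_right
theorem cjK {K : Subgroup G} {g : G} (h1 : Q ≤ K) (h2 : cj g Q ≤ K) : ∃ k ∈ K, k * g ∈ N(Q) := by
  obtain ⟨S, hS, l⟩ := h.pg.exists_syl h1
  obtain ⟨k, hk, l1⟩ := hS.scj_le h2 (h.pg.J g)
  exact ⟨k, hk, h.WC (cj_mul k g Q ▸ l1.trans (h.WC2 hS.pi l))⟩
theorem big {c : G} {L : Subgroup G} (hc : c ∈ C[x]) (l : L ≤ Q ⊓ C[c]) (k : 1024 ≤ #L) : c = 1 := by_contra fun c1 => by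
  obtain ⟨p, hp, d⟩ := exists_prime_dvd_card (ne_bot_of_mem (mem_zpowers c) c1)
  obtain ⟨y, hy, o⟩ := exists_orderOf_eq_prime hp d
  have m := zpowers_le.2 hc hy
  have y1 : y ≠ 1 := fun e => hp.one_lt.ne (by rw [← o, e, orderOf_one])
  have l1 := card_le (l.trans (inf_le_inf_left _ (cent1_le_cent1_of_mem_zpowers hy)))
  have e := (fix_sub hp (o ▸ pow_orderOf_eq_one y) (h.nC' m)).symm
  obtain ⟨i, e1⟩ := PiN.exists_card (h.pg.infl C[y])
  have l2 : #(Q ⊓ C[y] : Subgroup G) < #Q := card_lt (lt_of_le_of_ne inf_le_left fun e => y1 (h.Qx.le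
    ⟨h.cent (le_cent1_iff.1 (e.ge.trans inf_le_right)), m⟩))
  have p2 : p ≠ 2 := by
    rintro rfl
    have := h.Cin m (by rw [← _root_.sq, ← o, pow_orderOf_eq_one]) y1
    omega
  have p3 : p ≠ 3 := by
    rintro rfl
    obtain ⟨k, hk, e | e⟩ := h.cl3' (h.nC' m) (o ▸ pow_orderOf_eq_one y) y1 <;>
      rw [cent_conj hk (by rw [cj_zpowers, e])] at l1
    · rw [h.Qx, card_bot] at l1; omega
    · rw [h.Qa] at l1; omega
  have := (Nat.modEq_iff_dvd' l2.le).1 e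
  rw [e1] at l1 l2 this
  rw [h.cQ] at l2 this
  have i1 : i < 12 := (Nat.pow_lt_pow_iff_right (by decide : 1 < 2)).1 l2
  have i2 : 10 ≤ i := (Nat.pow_le_pow_iff_right (by decide : 1 < 2)).1 (k.trans l1)
  have : p ∣ 2 ^ 11 * 3 := this.trans (by interval_cases i <;> decide)
  exact ((Nat.Prime.dvd_mul hp).1 this).elim (fun e => p2 ((Nat.prime_dvd_prime_iff_eq hp Nat.prime_two).1
    (hp.dvd_of_dvd_pow e))) fun e => p3 ((Nat.prime_dvd_prime_iff_eq hp Nat.prime_three).1 e)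
theorem SC {q g : G} (hq : q ∈ Q) (ht : g * q * g⁻¹ ∈ N(Q)) : g * q * g⁻¹ ∈ Q := by_contra fun k => by
  have k0 := mt (h.inner hq) k
  have t2 := cj_sq1 (a := g) (h.sq q hq)
  obtain ⟨S, hS, l⟩ := (h.pg.infl C[g * q * g⁻¹]).exists_syl inf_le_right
  obtain ⟨c, hc, l1⟩ := hS.scj_le ((h.abg g).trans (cent_le_cent1 (conj_mem_cj.2 hq))) (h.pg.J g)
  have m : g * q * g⁻¹ ∈ cj (c * g) Q := cjc hc ▸ (cjcj c g q).symm ▸ conj_mem_cj.2 hq
  rw [cj_cj] at l1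
  generalize g * q * g⁻¹ = t at *
  generalize c * g = g at *
  obtain ⟨J, l2, k1, c2⟩ := cmap h.sq ht t2
  have c3 := (h.outer ht k0 t2 le_rfl).2
  have l3 := (cj_mono g⁻¹ (l2.trans l)).trans (h.WC2 (hS.pi.J _) (le_cj_iff.2 (by rwa [inv_inv])))
  have c4 := h.half l3
  have l4 : cj g⁻¹ J ⊓ I ≤ cj g⁻¹ (J ⊓ cj g Q) := by
    rw [cj_inf, cj_inv_cj]; exact le_inf inf_le_left (h.innerK (cj_mono _ (l2.trans inf_le_left)))
  have c5 := card_le l4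
  rw [card_cj] at c4 c5
  have c6 : 32 ≤ #(J ⊓ cj g Q : Subgroup G) := by rw [h.cQ] at c2; nlinarith
  have l5 : J ⊓ cj g Q ≤ Q ⊓ C[t] := inf_le_left.trans l2
  have l6 := h.ab.trans (cent_mono (l5.trans inf_le_left))
  obtain ⟨k, hk, n1⟩ := h.cjK l6 ((h.abg g).trans (cent_mono inf_le_right))
  have m0 : k * t * k⁻¹ ∈ Q := (cj_of_mem_norm n1).le (cj_mul k g Q ▸ conj_mem_cj.2 m)
  have k2 : ∀ u ∈ J ⊓ cj g Q, ∃ m ∈ N(Q) ⊓ C((J ⊓ cj g Q : Subgroup G)), m * (k * t * k⁻¹) * m⁻¹ = u * (k * t * k⁻¹) :=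
    fun u hu => by
      obtain ⟨r, hr, e⟩ := k1 u hu.1
      have j := cjm hk (l6 hr)
      have e1 : k * r * k⁻¹ * (k * t * k⁻¹) * (k * r * k⁻¹)⁻¹ = u * (k * t * k⁻¹) := by
        rw [conj_inv, conj_mul, conj_mul, mul_inv_eq_iff_eq_mul.1 e, cjmul, cjc (cent_le_cent1 hu hk)]
      obtain ⟨l, hl, n⟩ := h.cjK (le_inf l6 (h.ab.trans (cent_le_cent1 (mul_mem (l5 hu).1 m0)))) (le_inf
        (cj_le_of_mem j l6) ((h.abg _).trans (cent_le_cent1 (e1 ▸ conj_mem_cj.2 m0))))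
      exact ⟨_, ⟨n, mul_mem hl.1 j⟩, by rw [← cjcj, e1, cjc hl.2]⟩
  have k3 : ∀ m ∈ C((J ⊓ cj g Q : Subgroup G)), m ∈ I → m * (k * t * k⁻¹) * m⁻¹ = k * t * k⁻¹ := fun m h1 h2 => by
    obtain ⟨r, hr, c, hc, rfl⟩ := (mem_sup_of_norm h.nC').1 h2
    have l7 := le_inf (l5.trans inf_le_left) (le_cent1_iff.2 ((Subgroup.mul_mem_cancel_left _ (l6 hr)).1 h1))
    rw [h.big hc (sup_le l7 (cj_le_of_mem_norm (norms_inf (zpowers_le.2 (h.nC' (mem_cent1_self x))) (zpowers_le.2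
      (le_normalizer (mem_cent1_symm.1 hc))) (mem_zpowers x)) l7)) (by nlinarith [(h.outer ht k0 t2 l5).1]), mul_one,
      cjc (cent_le_cent1 m0 (h.ab hr))]
  obtain ⟨u, hu, u1⟩ := exists_ne_one (H := J ⊓ cj g Q) fun e => by simp [e] at c6
  have := card_le (show J ⊓ cj g Q ≤ zpowers u from fun v hv => by
    by_cases v1 : v = 1
    · exact v1 ▸ one_mem _
    obtain ⟨m, hm, e⟩ := k2 u hu
    obtain ⟨l, hl, e'⟩ := k2 v hv
    have := k3 _ (mul_mem (inv_mem hm.2) hl.2) (h.out2 (inv_mem hm.1) hl.1 (fun k => u1 (by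
      simpa [k3 m hm.2 (inv_mem_iff.1 k)] using e)) fun k => v1 (by simpa [k3 l hl.2 k] using e'))
    rw [← cjcj, e', inv_inv, mul_assoc, inv_mul_eq_iff_eq_mul, ← eq_mul_inv_iff_mul_eq, e, mul_left_inj] at this
    exact this ▸ mem_zpowers u)
  have := Nat.le_of_dvd (by decide) (Nat.card_zpowers u ▸ orderOf_dvd_of_pow_eq_one (_root_.sq u ▸ h.sq u (l5 hu).1))
  omega
theorem L3 {L : Subgroup G} (hL : L ⊴ ⊤) (k : x ∉ L) : L ≤ N(Q) := h.p.gen (le_top.trans hL.norm) (PiN.of_not_dvd fun d => by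
    obtain ⟨P, hP⟩ := exists_syl 3 C[x]
    obtain ⟨e, -, -, s⟩ := h.syl hP
    have k1 := s.inf_normal hL
    exact k (le_of_prime_of_inf_ne_bot (h.cP ▸ Nat.prime_three) (ne_bot_mono (le_inf (e ▸ inf_le_inf_right _ inf_le_left)
      (inf_le_left.trans inf_le_right)) (k1.pi.meet_cent s.pi (norms_inf le_normalizer (le_top.trans hL.norm))
        (k1.sne_bot Nat.prime_three d))) (mem_zpowers x))) fun y hy y1 c hc => by
  have := h.nC' (h.p.cA.le (h.p.ab hy)).1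
  exact h.SE3 this (h.p.y3 hy) y1 ((cjc hc.2).symm ▸ this)
open H17.GS in
theorem main : ⊤ ≤ N(Q) := by
  have sc : SCl Q ⊤ := ⟨le_top, h.pg, fun P p l q hq g _ k => h.SC hq (h.WC2 p l k)⟩
  have nK : Kc Q ⊤ ⊴ ⊤ := Kc_normal le_top
  by_cases xK : x ∈ Kc Q ⊤
  swap
  · exact sc.le_of (h.L3 nK xK) inf_le_right
  have k : ∀ L ≤ N(Q), L ≤ Oc {2}ᶜ (Kc Q ⊤) → L = ⊥ := fun L h1 h2 => by
    have p := (Oc_pi _ _).of_le h2
    exact (h.pg.of_le ((cents_symm (commg_eq_bot.1 (H19.eq_bot_mono (le_inf (commg_le_left h1) ((commutator_mono le_rfl h2).trans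
      (commg_le_right (le_top.trans (nK.Oc _).norm)))) (h.pg.inf_eq_bot (Oc_pi _ _))))).trans h.cent)).eq_bot p
  obtain ⟨h1, -, h2, h3, -⟩ := scl_struct (sc.mono le_Kc le_top) (comm_iff_le_cent.2 h.ab) (k _ (h.L3 (nK.Oc _) fun e =>
    h.x1 (zpowers_eq_bot.1 (k _ (zpowers_le.2 (h.nC' (mem_cent1_self x))) (zpowers_le.2 e)))) le_rfl) sc.Kc_Kc
  rcases h.irr _ h1 (le_top.trans (nK.Oc _).norm) with e | e
  swap
  · exact e ▸ (nK.Oc _).norm
  generalize Kc Q ⊤ = K, (le_Kc : Q ≤ Kc Q ⊤) = l at *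
  rw [e, bot_sup_eq] at h3
  have l1 := (h.nrm (inf_le_right : K ⊓ C[x] ≤ _) (norms_inf (le_top.trans nK.norm) le_normalizer)).resolve_right fun l1 => by
    obtain ⟨T, hT, l2⟩ := (h.pg.sup (H0.pg_zpowers h.ss) (zpowers_le.2 (h.nC' h.sx))).exists_syl
      (sup_le l (zpowers_le.2 (l1 h.sx).1))
    exact h.s1 (h.Qx.le ⟨(h2 T hT (le_sup_left.trans l2)).ge (mem_sup_right (mem_Ohm1 (l2 (mem_sup_right (mem_zpowers s)))
      (_root_.sq s ▸ h.ss))), h.sx⟩)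
  have l2 : K ⊓ N1 ≤ C[x] := fun c hc => h.hout fun y hy => l1 (mem_inf.2 ⟨by
    simpa [mul_assoc] using mul_mem hc.1 (nK.conj_mem (mem_top y) (inv_mem hc.1)), mul_mem (h.cjC hc.2 hy) (inv_mem hy)⟩)
  have hS : Syl 3 (zpowers x) K := syl_of_subnorm (by
    rw [show K ⊓ N1 = zpowers x from le_antisymm ((le_inf inf_le_left l2).trans (by simpa using l1))
      (zpowers_le.2 ⟨xK, le_normalizer (mem_zpowers x)⟩)]
    exact Hall.self (PiN.of_card Nat.prime_three h.cP))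
  have hM := H18.Burnside_normal_complement hS (l2.trans (cent_zpowers x).ge)
  have e1 := hM.sup_compl (by simpa using hS)
  have := der_sup_le (zpowers_le.2 (Oc_norm {3}ᶜ K xK))
  rw [e1, comm_iff_der.1 (comm_zpowers x), sup_bot_eq] at this
  exact absurd ((hS.pi.inf_eq_bot hM.pi).le ⟨mem_zpowers x, this (h3 xK)⟩) h.x1
end K9
end H26.J4
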