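import Cfsg.Agent.H26.J4.M3

/-! Janko-four type from the centralizer of an element of order three. -/

set_option autoImplicit false
set_option linter.unusedSectionVars false
set_option linter.unusedVariables false
set_option maxRecDepth 100000
open Subgroup H16 H19 H0 H0.TR H20.J4
open scoped commutatorElement
namespace H26.J4
variable {G : Type*} [Group G]
local notation "cj" => H19.cj

theorem q3eq {z : G} (hz : z * z = 1) {u v : N(zpowers z)} (h1 : (u : G) ^ 3 = 1) (h2 : (v : G) ^ 3 = 1)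
    (e : qmk _ u = qmk _ v) : (u : G) = v := by
  rcases (mem_zpowers_inv hz).1 (qmk_eq.1 e) with e | e
  · exact inv_mul_eq_one.1 e
  rw [inv_mul_eq_iff_eq_mul] at e
  rw [e, (show Commute (u : G) z from mem_cent1.1 (nzC hz u.2)).mul_pow, h1, one_mul, pow_succ, sq, hz, one_mul] at h2
  exact (e.trans (mul_eq_left.2 h2)).symm
theorem KN.qp [Finite G] {x z a : G} {ρ : G → GPm} (h : KN x z ρ) (p : Pr x a) :
    Pr (qmk _ ⟨x, h.xN⟩) (qmk (zpowers z) ⟨a, h.nz (cN x p.c)⟩) := by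
  obtain ⟨ρ', k, e⟩ := h.quo
  exact ⟨k.x3, by rw [← map_pow]; exact (congrArg _ (Subtype.ext p.a3)).trans (map_one _), h.qC.2 p.c, k.nx (by
    rw [e _ (cN x p.c)]; exact fun e => p.n (h.z3 ((h.ker _ p.c).1 e) p.a3))⟩
theorem Cf.beta [Finite G] {x z a b s t σ : G} {ρ : G → GPm} (h : Cf x z ρ a b s t σ) : σ * z * σ⁻¹ ≠ z := fun e => by
  obtain ⟨ρ', k, -⟩ := h.quo
  have e1 : qmk _ ⟨σ, cN z (of_cjc e)⟩ * qmk _ ⟨x, h.xN⟩ * (qmk _ ⟨σ, cN z (of_cjc e)⟩)⁻¹ =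
      qmk (zpowers z) ⟨a, h.nz h.aN⟩ := by rw [← map_inv, ← map_mul, ← map_mul]; exact congrArg _ (Subtype.ext h.σx)
  obtain ⟨x', a, b, s, t, σ, k⟩ := k.cf (e1 ▸ (h.qp h.p).c) (e1 ▸ (h.qp h.p).n)
  exact k.z_ne (.inl rfl) rfl
theorem Cf.simple [Finite G] {x z a b s t σ : G} {ρ : G → GPm} (h : Cf x z ρ a b s t σ) : IsSimpleGroup G := by
  have : Nontrivial G := ⟨x, 1, h.x1⟩
  refine ⟨fun L hL => ?_⟩
  have nL : L ⊴ ⊤ := normalIn_top
  have n := h.nrm (inf_le_right : L ⊓ C[x] ≤ _) (norms_inf (le_top.trans nL.norm) le_normalizer)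
  obtain ⟨e, -, -, sP⟩ := h.syl h.sylP
  by_cases k : x ∈ L
  · have l := (n.resolve_left fun l => h.p.n (h.z3 (l ⟨h.σx ▸ hL.conj_mem x k σ, h.ax⟩) h.a3)).trans inf_le_left
    have m := hL.conj_mem s (l h.sx) σ
    refine .inr (top_le_iff.1 (((sP.of_le (h.sylP.le.trans l) le_top).frattini nL).ge.trans (sup_le le_rfl fun c hc => ?_)))
    have hc' := e ▸ norm_le_norm_center _ hc.2
    by_cases k1 : c ∈ C[x]
    exacts [l k1, (Subgroup.mul_mem_cancel_right _ m).1 (l (h.out hc' h.inN k1 fun e => h.xne ((cjc e).symm.trans h.inx)))]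
  have k1 : L ⊓ C[x] = ⊥ := eq_bot_iff.2 fun c hc => by
    obtain ⟨j, rfl⟩ := h.memZ (n.resolve_right (fun e => k (e (mem_cent1_self x)).1) hc)
    have e1 : x ^ j = 1 := by_contra fun e => k ((zp_prime Nat.prime_three h.x3 (pow_mem (mem_zpowers x) j) e).2.ge.trans
      (zpowers_le.2 (by
        have := pow_mem hc.1 4
        rwa [(h.cm.pow_pow j j).mul_pow, pow_right_comm, show 4 = 2 * 2 from rfl, pow_mul z, sq z, h.zz, one_pow, one_pow,
          one_mul, pow_right_comm, show 2 * 2 = 3 + 1 from rfl, pow_succ, h.x3', one_mul] at this)) (mem_zpowers x))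
    rw [e1, mul_one] at hc ⊢
    refine ((mem_zpowers_inv h.zz).1 (pow_mem (mem_zpowers z) j)).elim id fun e => ?_
    rw [e] at hc ⊢
    exact ((mem_zpowers_inv h.zz).1 (h.z2 (n.resolve_right (fun e => k (e (mem_cent1_self x)).1)
      ⟨hL.conj_mem z hc.1 σ, h.zx2⟩) (t2_sq h.zz2))).elim conj_eq_one_iff.1 fun e => absurd e h.beta
  refine .inl (le_bot_iff.1 (h.p.gen (le_top.trans nL.norm) (PiN.of_not_dvd fun d => ?_) fun y hy y1 => ?_))
  · have k2 := sP.inf_normal nL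
    exact k (le_of_prime_of_inf_ne_bot (h.cP ▸ Nat.prime_three) (ne_bot_mono (le_inf ((inf_le_inf_right _ inf_le_left).trans e.le)
      (inf_le_left.trans inf_le_right)) (k2.pi.meet_cent sP.pi (norms_inf le_normalizer (le_top.trans nL.norm))
        (k2.sne_bot Nat.prime_three d))) (mem_zpowers x))
  · obtain ⟨m, -, rfl⟩ := h.trA hy y1
    rw [← cj_cent1, ← nL.cj_eq (mem_top m), ← cj_inf, k1, cj_bot]

namespace K8
variable [Finite G] {x z a b s t σ : G} {ρ : G → GPm} {Q : Subgroup G} (h : K8 x z ρ a b s t σ Q)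
include h
local notation "Z6" => zpowers (z * x)
local notation "N1" => N(zpowers x)
local notation "z₂" => σ * z * σ⁻¹
theorem nrmQ : C[z] ≤ N(Q) := by
  obtain ⟨ρ', k, e⟩ := h.quo
  have l := h.le.trans (cN z)
  have zl := zpowers_le.2 h.zQ
  have sj := fun u => qmk_surj (zpowers z) u
  have mq : ∀ {u : N(zpowers z)}, qmk _ u ∈ quo (zpowers z) Q ↔ (u : G) ∈ Q := fun {u} => by
    rw [qmk_mem_quo l, sup_eq_right.2 zl]
  have nq : ∀ {u : N(zpowers z)}, qmk _ u ∈ N(quo (zpowers z) Q) ↔ (u : G) ∈ N(Q) := fun {u} =>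
    ⟨fun e => norms_of_quo' (zpowers_le.2 u.2) l zl (by rw [quo_zpowers u.2]; exact zpowers_le.2 e) (mem_zpowers _),
      fun e => im_norm_le (mem_im_of e)⟩
  have cq : ∀ {u v : N(zpowers z)}, (u : G) ∈ C[(v : G)] → qmk _ u ∈ C[qmk _ v] := fun e => mem_cent1.2 (by
    rw [← map_mul, ← map_mul]; exact congrArg _ (Subtype.ext (mem_cent1.1 e)))
  have c2 : ∀ {K n}, zpowers z ≤ K → K ≤ Q → #K = 2 * n → #(quo (zpowers z) K) = n := fun h1 h2 c => by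
    have := card_mul_relIndex h1
    rw [card_quo (h2.trans l)]; rw [h.cz] at this; omega
  have aN := h.nz h.aN
  have ea : quo (zpowers z) Q ⊓ C[qmk _ ⟨a, aN⟩] = quo (zpowers z) (Q ⊓ C[a]) := by
    rw [← cent_zpowers, ← quo_zpowers, quo_inf_cent' (zpowers_le.2 aN) zl (cp3 h.pz h.a3) (.inl (sol_zpowers a)), cent_zpowers]
  have zN := h.nz (cN x h.zx2)
  have := K9.main (s := qmk _ ⟨s, h.nz h.sN⟩) (n := qmk _ ⟨_, zN⟩) ⟨k, h.qp h.p, fun e => ?_, fun q hq => ?_,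
    c2 zl le_rfl h.cQ.1, fun u hu => ?_, fun u hu => ?_, fun u hu => ?_,
    ea ▸ c2 (zpowers_le.2 ⟨h.zQ, mem_cent1_symm.1 (h.zC h.ax)⟩) inf_le_left h.cQ.2, fun u hu => ?_, h.qC.2 h.sx, ?_, ?_,
    h.qC.2 h.zx2, ?_, fun e => ((mem_zpowers_inv h.zz).1 (qmk_eq_one.1 e)).elim (cj_ne1 h.z1) h.n2, cq h.za2,
    fun u hu => ?_, fun q hq => ?_, fun A h1 h2 => ?_⟩
  · exact fun c hc => (nq (u := ⟨c, cN z hc⟩)).1 (this (mem_top _))
  · obtain ⟨g, e⟩ := isConj_iff.1 e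
    obtain ⟨g, rfl⟩ := sj g
    rw [← map_inv, ← map_mul, ← map_mul] at e
    exact h.n2 ((h.zy (congrArg _ (h.σx.trans (q3eq h.zz (cj_pow1 h.x3') h.a3 e).symm))).trans (cjc (nzC h.zz g.2)))
  · obtain ⟨q, rfl⟩ := sj q
    rw [← map_mul, qmk_eq_one]; exact h.es.sq_mem (mq.1 hq)
  · obtain ⟨u, rfl⟩ := sj u
    exact nq.2 (h.norm (h.qN.1 hu))
  · obtain ⟨u, rfl⟩ := sj u
    obtain ⟨q, hq, c, hc, e⟩ := (mem_sup_of_norm h.norm).1 (h.NQ.1 (nq.1 hu))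
    rw [show u = ⟨q, l hq⟩ * ⟨c, h.nz hc⟩ from Subtype.ext e, map_mul]
    exact mul_mem_sup (mq.2 hq) (h.qN.2 hc)
  · obtain ⟨u, rfl⟩ := sj u
    exact mq.2 (sup_le le_rfl h.cent (h.es.mem_sup_of_triv (nzC h.zz u.2) fun q hq => (quo_cents_iff (zpowers_le.2 u.2) l).1
      (by rw [quo_zpowers u.2]; exact zpowers_le.2 hu) (commutator_mem_commutator (mem_zpowers _) hq)))
  · obtain ⟨u, rfl⟩ := sj u
    exact nq.2 (h.Ca ⟨(qc3 h.zz (h.zC h.ax) h.a3).1 hu, nzC h.zz u.2⟩)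
  · rw [← map_mul]; exact (congrArg _ (Subtype.ext (h.LP (.inr h.n2) h.sx h.s2 (h.ρs ▸ ss)))).trans (map_one _)
  · rw [← map_inv, ← map_inv, ← map_mul, ← map_mul]; exact congrArg _ (Subtype.ext h.sa)
  · rw [← map_mul]; exact (congrArg _ (Subtype.ext h.zz2)).trans (map_one _)
  · obtain ⟨u, h1, rfl⟩ := H19.mem_im.1 (ea.le hu)
    exact cq (h.az h1.2)
  · obtain ⟨q, rfl⟩ := sj q
    obtain ⟨y, hy, o⟩ := h.NQ.2 _ (mq.1 hq)
    have y3 : y ^ 3 = 1 := o ▸ pow_orderOf_eq_one y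
    exact ⟨qmk _ ⟨y, cN z (h.NQz hy.1)⟩, ⟨nq.2 hy.1, cq hy.2⟩, o3 (by
      rw [← map_pow]; exact (congrArg _ (Subtype.ext y3)).trans (map_one _)) fun e => by
        simp [show y = 1 from odd_two y3 (by decide) (h.t2z (qmk_eq_one.1 e))] at o⟩
  · exact (h.irr' (qpre_le zl h1) (le_qpre _ (mem_zpowers z)) (norms_qpre (h.zC.trans (cN z)) fun u hu => by
      obtain ⟨u, h3, rfl⟩ := H19.mem_im.1 hu
      exact h2 (h.qC.2 h3))).imp (fun e => qpre_inj (e.trans qpre_bot.symm)) fun e => by rw [← e, quo_qpre]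
theorem jt : Cfsg.IsOfJankoFourTypeWith z (zpowers x) := by
  have l : Q ≤ Oc {2} C[z] := le_Oc ⟨h.le, h.nrmQ⟩ h.pg
  exact K7.jt (g := σ) ⟨h.k6 h.z1, h.σx ▸ h.ax, h.σx ▸ h.p.n, Oc_pi _ _, Oc_le _ _, Oc_norm _ _,
    inf_le_right.trans ((cent_mono l).trans (h.cent.trans l))⟩ (pCore_map_eq Nat.prime_two C[z])
end K8
theorem cf_of [Finite G] {x z : G} {ξ : G → GPm} (h : K5 x z ξ) (S : Sylow 3 G) (g : G)
    (h3 : cj g Z(S) ≤ S) (h4 : cj g Z(S) ≠ Z(S)) : IsSimpleGroup G ∧ ∃ P, Cfsg.IsOfJankoFourTypeWith z P := by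
  have : Fact (Nat.Prime 3) := ⟨by norm_num⟩
  obtain ⟨P, hP⟩ := exists_syl 3 C[x]
  obtain ⟨e1, -, -, hT⟩ := h.syl hP
  obtain ⟨k, -, e⟩ := hT.sconj (syl_sylow_top S)
  have e2 : Z((S : Subgroup G)) = cj k (zpowers x) := by rw [← e, ← e1, cj_inf, cj_cent]
  rw [e2, ← cj_mul] at h3 h4
  obtain ⟨x', ρ, a, b, s, t, σ, c⟩ := h.cf (g := k⁻¹ * g * k) (hP.le (by
    have := h3 (mem_cj'.2 ⟨x, mem_zpowers x, rfl⟩)
    rw [← e, mem_cj] at this
    simpa [mul_assoc] using this)) fun e5 => h4 (by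
      rw [show g * k = k * (k⁻¹ * g * k) by group, cj_mul, cj_zpowers, eq_of_le_of_card_eq (zpowers_le.2 e5)
        (by rw [← cj_zpowers, card_cj])])
  exact ⟨c.simple, _, (c.k8 (.inr c.beta)).jt⟩
end H26.J4
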